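import Mathlib
import Groth.Prelude.Def_Isoc

/-! Foundations for the `Isoc` cluster: `pPow`, `latImg`, lattices. -/

set_option autoImplicit false
set_option linter.unusedSectionVars false

open scoped Pointwise Isocrystal
open Isoc

universe u v

namespace Groth.Agent.H8.IsocLib

variable {p : ℕ} [Fact p.Prime] {k : Type u} [Field k] [CharP k p] [PerfectRing k p]
variable {N : Type v} [AddCommGroup N] [Module (WittVector p k) N]
  [Module (FractionRing (WittVector p k)) N]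
  [IsScalarTower (WittVector p k) (FractionRing (WittVector p k)) N]

local notation "𝕎" => WittVector p k
local notation "𝕃" => FractionRing (WittVector p k)

/-! ### The scalar `p` -/

lemma p_ne_zero : ((p : ℕ) : 𝕃) ≠ 0 := by
  have h1 : ((p : ℕ) : 𝕎) ≠ 0 := WittVector.p_nonzero p k
  have h2 : ((p : ℕ) : 𝕃) = algebraMap 𝕎 𝕃 ((p : ℕ) : 𝕎) := by simp
  rw [h2]
  exact (map_ne_zero_iff _ (IsFractionRing.injective 𝕎 𝕃)).mpr h1

lemma zpow_natCast_smul (n : ℕ) (x : N) :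
    ((p : 𝕃) ^ (n : ℤ)) • x = ((p : 𝕎) ^ n) • x := by
  rw [zpow_natCast, ← algebraMap_smul 𝕃 ((p : 𝕎) ^ n) x]
  congr 1
  simp

/-! ### `pPow` -/

lemma mem_pPow {r : ℤ} {M : Submodule 𝕎 N} {x : N} :
    x ∈ pPow r M ↔ ∃ m ∈ M, ((p : 𝕃) ^ r) • m = x := by
  rw [pPow, Submodule.mem_smul_pointwise_iff_exists]

lemma mem_pPow' {r : ℤ} {M : Submodule 𝕎 N} {x : N} :
    x ∈ pPow r M ↔ ((p : 𝕃) ^ (-r)) • x ∈ M := by
  rw [mem_pPow]
  have hp : ((p : 𝕃) ^ r) ≠ 0 := zpow_ne_zero _ p_ne_zero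
  constructor
  · rintro ⟨m, hm, rfl⟩
    rw [smul_smul, zpow_neg, inv_mul_cancel₀ hp, one_smul]
    exact hm
  · intro h
    refine ⟨_, h, ?_⟩
    rw [smul_smul, zpow_neg, mul_inv_cancel₀ hp, one_smul]

lemma smul_mem_pPow {r : ℤ} {M : Submodule 𝕎 N} {m : N} (hm : m ∈ M) :
    ((p : 𝕃) ^ r) • m ∈ pPow r M := mem_pPow.mpr ⟨m, hm, rfl⟩

@[simp] lemma pPow_zero (M : Submodule 𝕎 N) : pPow 0 M = M := by
  ext x; rw [mem_pPow']; simp

lemma pPow_pPow (r s : ℤ) (M : Submodule 𝕎 N) : pPow r (pPow s M) = pPow (r + s) M := by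
  ext x
  rw [mem_pPow', mem_pPow', mem_pPow', smul_smul, ← zpow_add₀ p_ne_zero]
  congr! 2
  ring_nf

lemma pPow_mono {r : ℤ} {M M' : Submodule 𝕎 N} (h : M ≤ M') : pPow r M ≤ pPow r M' := by
  intro x hx
  rw [mem_pPow'] at hx ⊢
  exact h hx

lemma pPow_anti {r r' : ℤ} (h : r ≤ r') (M : Submodule 𝕎 N) : pPow r' M ≤ pPow r M := by
  intro x hx
  rw [mem_pPow'] at hx ⊢
  obtain ⟨n, hn⟩ := Int.eq_ofNat_of_zero_le (sub_nonneg.mpr h)
  have : ((p : 𝕃) ^ (-r)) • x = ((p : 𝕃) ^ (n : ℤ)) • (((p : 𝕃) ^ (-r')) • x) := by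
    rw [smul_smul, ← zpow_add₀ p_ne_zero]
    congr 2
    omega
  rw [this, zpow_natCast_smul]
  exact M.smul_mem _ hx

lemma pPow_le_iff {r : ℤ} {M M' : Submodule 𝕎 N} : pPow r M ≤ M' ↔ M ≤ pPow (-r) M' := by
  constructor
  · intro h x hx
    rw [mem_pPow', neg_neg]
    exact h (smul_mem_pPow hx)
  · intro h x hx
    rw [mem_pPow'] at hx
    have := h hx
    rw [mem_pPow', neg_neg, smul_smul, ← zpow_add₀ p_ne_zero] at this
    simpa using this

lemma le_pPow_iff {r : ℤ} {M M' : Submodule 𝕎 N} : M ≤ pPow r M' ↔ pPow (-r) M ≤ M' := by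
  rw [pPow_le_iff, neg_neg]

lemma pPow_le_pPow_iff {r : ℤ} {M M' : Submodule 𝕎 N} : pPow r M ≤ pPow r M' ↔ M ≤ M' := by
  rw [pPow_le_iff, pPow_pPow]
  simp

lemma pPow_bot (r : ℤ) : pPow r (⊥ : Submodule 𝕎 N) = ⊥ := by
  ext x
  rw [mem_pPow', Submodule.mem_bot, Submodule.mem_bot, smul_eq_zero]
  constructor
  · rintro (h | h)
    · exact absurd h (zpow_ne_zero _ p_ne_zero)
    · exact h
  · intro h; exact Or.inr h

end Groth.Agent.H8.IsocLib
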