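import Mathlib
import Groth.Prelude.Def_Isoc
import Groth.Agent.Lib.Helper8.Isoc.Basic

/-! Foundations for the `Isoc` cluster: twists preserving `W`, `latImg`. -/

set_option autoImplicit false
set_option linter.unusedSectionVars false

open scoped Pointwise Isocrystal
open Isoc

universe u v

namespace Groth.Agent.H8.IsocLib

variable {p : ℕ} [Fact p.Prime] {k : Type u} [Field k] [CharP k p] [PerfectRing k p]
variable {N : Type v} [AddCommGroup N] [Module (WittVector p k) N]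
  [Module (FractionRing (WittVector p k)) N]
  [IsScalarTower (WittVector p k) (FractionRing (WittVector p k)) N]

local notation "𝕎" => WittVector p k
local notation "𝕃" => FractionRing (WittVector p k)

/-- `τ` restricts to an automorphism of `W`. -/
class IsWTwist (τ : 𝕃 →+* 𝕃) : Prop where
  out : ∃ e : 𝕎 ≃+* 𝕎, ∀ w : 𝕎, τ (algebraMap 𝕎 𝕃 w) = algebraMap 𝕎 𝕃 (e w)

instance isWTwist_frob (a : ℤ) : IsWTwist (Isoc.frob p k a) :=
  ⟨⟨WittVector.frobeniusEquiv p k ^ a, Isoc.frob_algebraMap p k a⟩⟩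

instance IsWTwist.one : IsWTwist (1 : 𝕃 →+* 𝕃) := ⟨⟨RingEquiv.refl _, fun _ => rfl⟩⟩

instance IsWTwist.id : IsWTwist (RingHom.id 𝕃) := ⟨⟨RingEquiv.refl _, fun _ => rfl⟩⟩

instance IsWTwist.mul {τ τ' : 𝕃 →+* 𝕃} [h : IsWTwist τ] [h' : IsWTwist τ'] :
    IsWTwist (τ * τ') := by
  obtain ⟨e, he⟩ := h.out
  obtain ⟨e', he'⟩ := h'.out
  exact ⟨⟨e'.trans e, fun w => by simp [RingHom.mul_def, he, he']⟩⟩

instance IsWTwist.pow {τ : 𝕃 →+* 𝕃} [h : IsWTwist τ] (n : ℕ) : IsWTwist (τ ^ n) := by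
  induction n with
  | zero => rw [pow_zero]; infer_instance
  | succ n ih => rw [pow_succ]; infer_instance

lemma exists_map_wsmul (τ : 𝕃 →+* 𝕃) [hτ : IsWTwist τ] :
    ∃ e : 𝕎 ≃+* 𝕎, ∀ (G : N →ₛₗ[τ] N) (w : 𝕎) (x : N), G (w • x) = e w • G x := by
  obtain ⟨e, he⟩ := hτ.out
  refine ⟨e, fun G w x => ?_⟩
  rw [← algebraMap_smul 𝕃 w x, map_smulₛₗ, he, algebraMap_smul]

lemma map_p_zpow (τ : 𝕃 →+* 𝕃) (r : ℤ) : τ ((p : 𝕃) ^ r) = (p : 𝕃) ^ r := by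
  rw [map_zpow₀, map_natCast]

variable {τ : FractionRing (WittVector p k) →+* FractionRing (WittVector p k)}

lemma map_p_zpow_smul (G : N →ₛₗ[τ] N) (r : ℤ) (x : N) :
    G (((p : 𝕃) ^ r) • x) = ((p : 𝕃) ^ r) • G x := by
  rw [map_smulₛₗ, map_p_zpow]

lemma iterate_p_zpow_smul (F : N →ₛₗ[τ] N) (s : ℕ) (r : ℤ) (x : N) :
    (⇑F)^[s] (((p : 𝕃) ^ r) • x) = ((p : 𝕃) ^ r) • (⇑F)^[s] x := by
  exact map_p_zpow_smul (iter F s) r x

lemma coe_span_image [IsWTwist τ] (G : N →ₛₗ[τ] N) (M : Submodule 𝕎 N) :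
    (Submodule.span 𝕎 (G '' (M : Set N)) : Set N) = G '' (M : Set N) := by
  obtain ⟨e, he⟩ := exists_map_wsmul (N := N) τ
  apply Set.Subset.antisymm _ Submodule.subset_span
  intro x hx
  induction hx using Submodule.span_induction with
  | mem x hx => exact hx
  | zero => exact ⟨0, M.zero_mem, map_zero G⟩
  | add x y _ _ hx hy =>
    obtain ⟨a, ha, rfl⟩ := hx
    obtain ⟨b, hb, rfl⟩ := hy
    exact ⟨a + b, M.add_mem ha hb, map_add G a b⟩
  | smul w x _ hx =>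
    obtain ⟨a, ha, rfl⟩ := hx
    exact ⟨e.symm w • a, M.smul_mem _ ha, by rw [he, e.apply_symm_apply]⟩

lemma mem_latImg [IsWTwist τ] {F : N →ₛₗ[τ] N} {s : ℕ} {M : Submodule 𝕎 N} {x : N} :
    x ∈ latImg F s M ↔ ∃ m ∈ M, (⇑F)^[s] m = x := by
  have := coe_span_image (iter F s) M
  rw [coe_iter] at this
  change x ∈ (Submodule.span 𝕎 ((⇑F)^[s] '' (M : Set N)) : Set N) ↔ _
  rw [this]; rfl

lemma iterate_mem_latImg {F : N →ₛₗ[τ] N} {s : ℕ} {M : Submodule 𝕎 N} {m : N} (hm : m ∈ M) :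
    (⇑F)^[s] m ∈ latImg F s M :=
  Submodule.subset_span ⟨m, hm, rfl⟩

lemma latImg_le_iff {F : N →ₛₗ[τ] N} {s : ℕ} {M M' : Submodule 𝕎 N} :
    latImg F s M ≤ M' ↔ ∀ m ∈ M, (⇑F)^[s] m ∈ M' := by
  rw [latImg, Submodule.span_le]
  constructor
  · intro h m hm; exact h ⟨m, hm, rfl⟩
  · rintro h _ ⟨m, hm, rfl⟩; exact h m hm

lemma latImg_mono {F : N →ₛₗ[τ] N} {s : ℕ} {M M' : Submodule 𝕎 N} (h : M ≤ M') :
    latImg F s M ≤ latImg F s M' :=
  latImg_le_iff.mpr fun _ hm => iterate_mem_latImg (h hm)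

@[simp] lemma latImg_zero (F : N →ₛₗ[τ] N) (M : Submodule 𝕎 N) : latImg F 0 M = M := by
  simp [latImg]

@[simp] lemma latImg_bot (F : N →ₛₗ[τ] N) (s : ℕ) : latImg F s (⊥ : Submodule 𝕎 N) = ⊥ := by
  rw [eq_bot_iff, latImg_le_iff]
  intro m hm
  rw [Submodule.mem_bot] at hm
  subst hm
  have : (⇑F)^[s] 0 = 0 := map_zero (iter F s)
  rw [this]; exact Submodule.zero_mem _

lemma latImg_add [IsWTwist τ] (F : N →ₛₗ[τ] N) (s t : ℕ) (M : Submodule 𝕎 N) :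
    latImg F (s + t) M = latImg F s (latImg F t M) := by
  ext x
  simp only [mem_latImg]
  constructor
  · rintro ⟨m, hm, rfl⟩
    exact ⟨(⇑F)^[t] m, ⟨m, hm, rfl⟩, (Function.iterate_add_apply _ s t m).symm⟩
  · rintro ⟨_, ⟨m, hm, rfl⟩, rfl⟩
    exact ⟨m, hm, Function.iterate_add_apply _ s t m⟩

lemma latImg_pPow [IsWTwist τ] (F : N →ₛₗ[τ] N) (s : ℕ) (r : ℤ) (M : Submodule 𝕎 N) :
    latImg F s (pPow r M) = pPow r (latImg F s M) := by
  ext x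
  simp only [mem_latImg, mem_pPow]
  constructor
  · rintro ⟨_, ⟨m, hm, rfl⟩, rfl⟩
    exact ⟨(⇑F)^[s] m, ⟨m, hm, rfl⟩, (iterate_p_zpow_smul F s r m).symm⟩
  · rintro ⟨_, ⟨m, hm, rfl⟩, rfl⟩
    exact ⟨_, ⟨m, hm, rfl⟩, iterate_p_zpow_smul F s r m⟩

lemma latImg_sup [IsWTwist τ] (F : N →ₛₗ[τ] N) (s : ℕ) (M M' : Submodule 𝕎 N) :
    latImg F s (M ⊔ M') = latImg F s M ⊔ latImg F s M' := by
  apply le_antisymm
  · rw [latImg_le_iff]
    intro m hm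
    obtain ⟨a, ha, b, hb, rfl⟩ := Submodule.mem_sup.mp hm
    have : (⇑F)^[s] (a + b) = (⇑F)^[s] a + (⇑F)^[s] b := map_add (iter F s) a b
    rw [this]
    exact Submodule.add_mem_sup (iterate_mem_latImg ha) (iterate_mem_latImg hb)
  · exact sup_le (latImg_mono le_sup_left) (latImg_mono le_sup_right)

lemma latImg_le_latImg_iff [IsWTwist τ] {F : N →ₛₗ[τ] N} (hF : Function.Injective F) {s : ℕ}
    {M M' : Submodule 𝕎 N} : latImg F s M ≤ latImg F s M' ↔ M ≤ M' := by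
  refine ⟨fun h m hm => ?_, latImg_mono⟩
  obtain ⟨m', hm', he⟩ := mem_latImg.mp (h (iterate_mem_latImg (F := F) (s := s) hm))
  rwa [← hF.iterate s he]

lemma latImg_injective [IsWTwist τ] {F : N →ₛₗ[τ] N} (hF : Function.Injective F) {s : ℕ}
    {M M' : Submodule 𝕎 N} (h : latImg F s M = latImg F s M') : M = M' :=
  le_antisymm ((latImg_le_latImg_iff hF).mp h.le) ((latImg_le_latImg_iff hF).mp h.ge)

end Groth.Agent.H8.IsocLib
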