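import Mathlib
import Groth.Prelude.Def_Isoc
import Groth.Agent.Lib.Helper8.Isoc.LatImg

/-! Foundations for the `Isoc` cluster: lattices, comparability, Nakayama. -/

set_option autoImplicit false
set_option linter.unusedSectionVars false

open scoped Pointwise Isocrystal
open Isoc

universe u v

namespace Groth.Agent.H8.IsocLib

variable {p : ℕ} [Fact p.Prime] {k : Type u} [Field k] [CharP k p] [PerfectRing k p]
variable {N : Type v} [AddCommGroup N] [Module (WittVector p k) N]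
  [Module (FractionRing (WittVector p k)) N]
  [IsScalarTower (WittVector p k) (FractionRing (WittVector p k)) N]
variable {τ : FractionRing (WittVector p k) →+* FractionRing (WittVector p k)}

local notation "𝕎" => WittVector p k
local notation "𝕃" => FractionRing (WittVector p k)

/-- Every element of `L` becomes integral after multiplying by a power of `p`. -/
lemma exists_p_pow_mul_eq (l : 𝕃) :
    ∃ (c : ℕ) (w : 𝕎), (p : 𝕃) ^ (c : ℤ) * l = algebraMap 𝕎 𝕃 w := by
  obtain ⟨a, b, hb, rfl⟩ := IsFractionRing.div_surjective (A := 𝕎) l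
  have hb0 : b ≠ 0 := nonZeroDivisors.ne_zero hb
  obtain ⟨m, u, hu⟩ := WittVector.exists_eq_pow_p_mul' b hb0
  refine ⟨m, a * ((u⁻¹ : 𝕎ˣ) : 𝕎), ?_⟩
  have hb' : algebraMap 𝕎 𝕃 b ≠ 0 :=
    (map_ne_zero_iff _ (IsFractionRing.injective 𝕎 𝕃)).mpr hb0
  rw [zpow_natCast, mul_div_assoc', div_eq_iff hb', map_mul, mul_assoc, ← map_mul]
  have : ((u⁻¹ : 𝕎ˣ) : 𝕎) * b = (p : 𝕎) ^ m := by
    rw [hu, mul_comm, mul_assoc, Units.mul_inv, mul_one]
  rw [this, map_pow, map_natCast, mul_comm]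

lemma exists_mem_pPow_neg_of_mem_span {M : Submodule 𝕎 N} {x : N}
    (hx : x ∈ Submodule.span 𝕃 (M : Set N)) : ∃ c : ℕ, x ∈ pPow (-(c : ℤ)) M := by
  induction hx using Submodule.span_induction with
  | mem x hx => exact ⟨0, by simpa using hx⟩
  | zero => exact ⟨0, Submodule.zero_mem _⟩
  | add x y _ _ hx hy =>
    obtain ⟨c₁, h₁⟩ := hx
    obtain ⟨c₂, h₂⟩ := hy
    refine ⟨max c₁ c₂, Submodule.add_mem _ ?_ ?_⟩
    · exact pPow_anti (by simp) M h₁
    · exact pPow_anti (by simp) M h₂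
  | smul l x _ hx =>
    obtain ⟨c, hc⟩ := hx
    obtain ⟨c', w, hw⟩ := exists_p_pow_mul_eq l
    refine ⟨c + c', ?_⟩
    rw [mem_pPow', neg_neg] at hc ⊢
    have : ((p : 𝕃) ^ ((c + c' : ℕ) : ℤ)) • l • x = w • (((p : 𝕃) ^ (c : ℤ)) • x) := by
      rw [← algebraMap_smul 𝕃 w, ← hw, smul_smul, smul_smul, Nat.cast_add,
        zpow_add₀ p_ne_zero]
      congr 1; ring
    rw [this]
    exact M.smul_mem _ hc

/-- Comparability: a finitely generated submodule is carried into a spanning one by a power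
of `p`. -/
lemma exists_pPow_le {M₁ M₂ : Submodule 𝕎 N} (h₁ : M₁.FG)
    (h₂ : Submodule.span 𝕃 (M₂ : Set N) = ⊤) : ∃ c : ℕ, pPow (c : ℤ) M₁ ≤ M₂ := by
  obtain ⟨S, rfl⟩ := h₁
  have key : ∀ x ∈ S, ∃ c : ℕ, x ∈ pPow (-(c : ℤ)) M₂ := fun x _ =>
    exists_mem_pPow_neg_of_mem_span (by rw [h₂]; trivial)
  choose! c hc using key
  refine ⟨S.sup c, ?_⟩
  rw [pPow_le_iff, Submodule.span_le]
  intro x hx
  exact pPow_anti (by simpa using Finset.le_sup (f := c) hx) M₂ (hc x hx)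

lemma exists_le_pPow_neg {M₁ M₂ : Submodule 𝕎 N} (h₁ : M₁.FG)
    (h₂ : Submodule.span 𝕃 (M₂ : Set N) = ⊤) : ∃ c : ℕ, M₁ ≤ pPow (-(c : ℤ)) M₂ := by
  obtain ⟨c, hc⟩ := exists_pPow_le h₁ h₂
  exact ⟨c, pPow_le_iff.mp hc⟩

lemma pPow_fg {M : Submodule 𝕎 N} (h : M.FG) (r : ℤ) : (pPow r M).FG :=
  Submodule.FG.map (DistribSMul.toLinearMap 𝕎 N ((p : 𝕃) ^ r)) h

lemma pPow_span {M : Submodule 𝕎 N} (h : Submodule.span 𝕃 (M : Set N) = ⊤) (r : ℤ) :
    Submodule.span 𝕃 (pPow r M : Set N) = ⊤ := by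
  rw [eq_top_iff, ← h, Submodule.span_le]
  intro m hm
  have : m = ((p : 𝕃) ^ (-r)) • (((p : 𝕃) ^ r) • m) := by
    rw [smul_smul, ← zpow_add₀ p_ne_zero]; simp
  rw [this]
  exact Submodule.smul_mem _ _ (Submodule.subset_span (smul_mem_pPow hm))

lemma isLattice_pPow {M : Submodule 𝕎 N} (h : M.IsLattice 𝕃) (r : ℤ) :
    (pPow r M).IsLattice 𝕃 :=
  ⟨pPow_fg h.fg r, pPow_span h.span_eq_top r⟩

lemma latImg_fg [IsWTwist τ] (F : N →ₛₗ[τ] N) (s : ℕ) {M : Submodule 𝕎 N} (h : M.FG) :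
    (latImg F s M).FG := by
  obtain ⟨S, rfl⟩ := h
  obtain ⟨e, he⟩ := exists_map_wsmul (N := N) (τ ^ s)
  have : latImg F s (Submodule.span 𝕎 (S : Set N)) = Submodule.span 𝕎 ((⇑F)^[s] '' (S : Set N)) := by
    apply le_antisymm
    · rw [latImg_le_iff]
      intro m hm
      induction hm using Submodule.span_induction with
      | mem x hx => exact Submodule.subset_span ⟨x, hx, rfl⟩
      | zero =>
        have : (⇑F)^[s] 0 = 0 := map_zero (iter F s)
        rw [this]; exact Submodule.zero_mem _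
      | add x y _ _ hx hy =>
        have : (⇑F)^[s] (x + y) = (⇑F)^[s] x + (⇑F)^[s] y := map_add (iter F s) x y
        rw [this]; exact Submodule.add_mem _ hx hy
      | smul w x _ hx =>
        have : (⇑F)^[s] (w • x) = e w • (⇑F)^[s] x := he (iter F s) w x
        rw [this]; exact Submodule.smul_mem _ _ hx
    · rw [Submodule.span_le]
      rintro _ ⟨x, hx, rfl⟩
      exact iterate_mem_latImg (Submodule.subset_span hx)
  rw [this]
  exact Submodule.fg_span ((Finset.finite_toSet S).image _)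

lemma latImg_span {F : N →ₛₗ[τ] N} (hF : Function.Surjective F) (s : ℕ) {M : Submodule 𝕎 N}
    (h : Submodule.span 𝕃 (M : Set N) = ⊤) : Submodule.span 𝕃 (latImg F s M : Set N) = ⊤ := by
  rw [eq_top_iff]
  intro y _
  obtain ⟨x, rfl⟩ := hF.iterate s y
  have hx : x ∈ Submodule.span 𝕃 (M : Set N) := by rw [h]; trivial
  induction hx using Submodule.span_induction with
  | mem x hx => exact Submodule.subset_span (iterate_mem_latImg hx)
  | zero =>
    have : (⇑F)^[s] 0 = 0 := map_zero (iter F s)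
    rw [this]; exact Submodule.zero_mem _
  | add x y _ _ hx hy =>
    have : (⇑F)^[s] (x + y) = (⇑F)^[s] x + (⇑F)^[s] y := map_add (iter F s) x y
    rw [this]; exact Submodule.add_mem _ (hx trivial) (hy trivial)
  | smul l x _ hx =>
    have : (⇑F)^[s] (l • x) = (τ ^ s) l • (⇑F)^[s] x := map_smulₛₗ (iter F s) l x
    rw [this]; exact Submodule.smul_mem _ _ (hx trivial)

lemma isLattice_latImg [IsWTwist τ] {F : N →ₛₗ[τ] N} (hF : Function.Surjective F) (s : ℕ)
    {M : Submodule 𝕎 N} (h : M.IsLattice 𝕃) : (latImg F s M).IsLattice 𝕃 :=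
  ⟨latImg_fg F s h.fg, latImg_span hF s h.span_eq_top⟩

/-- Nakayama: a finitely generated `W`-submodule with `M ≤ p M` is zero. -/
lemma eq_bot_of_le_pPow_one {M : Submodule 𝕎 N} (hfg : M.FG) (h : M ≤ pPow 1 M) : M = ⊥ := by
  apply Submodule.eq_bot_of_le_smul_of_le_jacobson_bot (Ideal.span {(p : 𝕎)}) M hfg
  · intro x hx
    obtain ⟨m, hm, rfl⟩ := mem_pPow.mp (h hx)
    have : ((p : 𝕃) ^ (1 : ℤ)) • m = (p : 𝕎) • m := by
      have := zpow_natCast_smul (p := p) (k := k) 1 m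
      simpa using this
    rw [this]
    exact Submodule.smul_mem_smul (Ideal.mem_span_singleton_self _) hm
  · rw [IsLocalRing.jacobson_eq_maximalIdeal ⊥ bot_ne_top, Ideal.span_singleton_le_iff_mem,
      IsLocalRing.mem_maximalIdeal, mem_nonunits_iff]
    exact (WittVector.irreducible p).not_isUnit

lemma pPow_le_pPow_self_iff {M : Submodule 𝕎 N} (hfg : M.FG) (hne : M ≠ ⊥) {r r' : ℤ} :
    pPow r M ≤ pPow r' M ↔ r' ≤ r := by
  refine ⟨fun h => ?_, fun h => pPow_anti h M⟩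
  by_contra hlt
  push Not at hlt
  apply hne
  apply eq_bot_of_le_pPow_one hfg
  have h1 : pPow r M ≤ pPow (r + 1) M := h.trans (pPow_anti (by omega) M)
  have h2 := pPow_mono (r := -r) h1
  rw [pPow_pPow, pPow_pPow] at h2
  simpa using h2

lemma ne_bot_of_isLattice [Nontrivial N] {M : Submodule 𝕎 N} (h : M.IsLattice 𝕃) : M ≠ ⊥ := by
  rintro rfl
  have := h.span_eq_top
  simp at this

end Groth.Agent.H8.IsocLib
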