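import Mathlib
import Groth.Prelude.Def_Isoc
import Groth.Agent.Lib.Helper8.Isoc.Lattice

/-! Foundations for the `Isoc` cluster: orders `ord_M(F^n)` and the first slope. -/

set_option autoImplicit false
set_option linter.unusedSectionVars false

open scoped Pointwise Isocrystal
open Isoc Filter Topology

universe u v

namespace Groth.Agent.H8.IsocLib

variable {p : ℕ} [Fact p.Prime] {k : Type u} [Field k] [CharP k p] [PerfectRing k p]
variable {N : Type v} [AddCommGroup N] [Module (WittVector p k) N]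
  [Module (FractionRing (WittVector p k)) N]
  [IsScalarTower (WittVector p k) (FractionRing (WittVector p k)) N]
variable {τ : FractionRing (WittVector p k) →+* FractionRing (WittVector p k)}

local notation "𝕎" => WittVector p k
local notation "𝕃" => FractionRing (WittVector p k)

lemma _root_.Isoc.IsOrd.le_iff {M : Submodule 𝕎 N} {F : N →ₛₗ[τ] N} {s : ℕ} {r : ℤ} (h : IsOrd M F s r)
    {r' : ℤ} : latImg F s M ≤ pPow r' M ↔ r' ≤ r := by
  refine ⟨fun h' => ?_, fun h' => h.1.trans (pPow_anti h' M)⟩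
  by_contra hlt
  push Not at hlt
  exact h.2 (h'.trans (pPow_anti (by omega) M))

lemma _root_.Isoc.IsOrd.unique {M : Submodule 𝕎 N} {F : N →ₛₗ[τ] N} {s : ℕ} {r r' : ℤ} (h : IsOrd M F s r)
    (h' : IsOrd M F s r') : r = r' :=
  le_antisymm (h'.le_iff.mp h.1) (h.le_iff.mp h'.1)

lemma _root_.Isoc.IsOrd.ne_bot {M : Submodule 𝕎 N} {F : N →ₛₗ[τ] N} {s : ℕ} {r : ℤ} (h : IsOrd M F s r) :
    M ≠ ⊥ := by
  rintro rfl
  apply h.2
  rw [latImg_bot]
  exact bot_le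

lemma isOrd_of_forall {M : Submodule 𝕎 N} {F : N →ₛₗ[τ] N} {s : ℕ} {r : ℤ}
    (h : ∀ r', latImg F s M ≤ pPow r' M ↔ r' ≤ r) : IsOrd M F s r :=
  ⟨(h r).mpr le_rfl, fun h' => by have := (h (r + 1)).mp h'; omega⟩

lemma exists_isOrd [IsWTwist τ] {F : N →ₛₗ[τ] N} (hF : Function.Bijective F)
    {M : Submodule 𝕎 N} (hM : M.IsLattice 𝕃) (hne : M ≠ ⊥) (s : ℕ) : ∃ r, IsOrd M F s r := by
  classical
  have hL := isLattice_latImg hF.surjective s hM
  obtain ⟨c, hc⟩ := exists_le_pPow_neg hL.fg hM.span_eq_top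
  obtain ⟨c', hc'⟩ := exists_pPow_le hM.fg hL.span_eq_top
  have hbdd : ∀ r, latImg F s M ≤ pPow r M → r ≤ c' := fun r hr =>
    (pPow_le_pPow_self_iff hM.fg hne).mp (hc'.trans hr)
  obtain ⟨r, hr, hmax⟩ := Int.exists_greatest_of_bdd (P := fun r => latImg F s M ≤ pPow r M)
    ⟨c', hbdd⟩ ⟨-c, hc⟩
  exact ⟨r, hr, fun h => by have := hmax _ h; omega⟩

lemma isOrd_zero {M : Submodule 𝕎 N} (F : N →ₛₗ[τ] N) (hfg : M.FG) (hne : M ≠ ⊥) :
    IsOrd M F 0 0 := by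
  refine ⟨by simp, fun h => hne (eq_bot_of_le_pPow_one hfg ?_)⟩
  simpa using h

lemma _root_.Isoc.IsOrd.add_le [IsWTwist τ] {M : Submodule 𝕎 N} {F : N →ₛₗ[τ] N} {m n : ℕ} {r₁ r₂ r₃ : ℤ}
    (h₁ : IsOrd M F m r₁) (h₂ : IsOrd M F n r₂) (h₃ : IsOrd M F (m + n) r₃) : r₁ + r₂ ≤ r₃ := by
  apply h₃.le_iff.mp
  rw [latImg_add]
  calc latImg F m (latImg F n M) ≤ latImg F m (pPow r₂ M) := latImg_mono h₂.1
    _ = pPow r₂ (latImg F m M) := latImg_pPow F m r₂ M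
    _ ≤ pPow r₂ (pPow r₁ M) := pPow_mono h₁.1
    _ = pPow (r₁ + r₂) M := by rw [pPow_pPow, add_comm]

lemma exists_pPow_mul_le_latImg [IsWTwist τ] {F : N →ₛₗ[τ] N} (hF : Function.Surjective F)
    {M : Submodule 𝕎 N} (hM : M.IsLattice 𝕃) :
    ∃ c : ℕ, ∀ n : ℕ, pPow ((c : ℤ) * n) M ≤ latImg F n M := by
  obtain ⟨c, hc⟩ := exists_pPow_le hM.fg (isLattice_latImg hF 1 hM).span_eq_top
  refine ⟨c, fun n => ?_⟩
  induction n with
  | zero => simp
  | succ n ih =>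
    calc pPow ((c : ℤ) * (n + 1 : ℕ)) M = pPow c (pPow ((c : ℤ) * n) M) := by
          rw [pPow_pPow]; congr 1; push_cast; ring
      _ ≤ pPow c (latImg F n M) := pPow_mono ih
      _ = latImg F n (pPow c M) := (latImg_pPow F n c M).symm
      _ ≤ latImg F n (latImg F 1 M) := latImg_mono hc
      _ = latImg F (n + 1) M := (latImg_add F n 1 M).symm

lemma exists_isOrd_le_mul [IsWTwist τ] {F : N →ₛₗ[τ] N} (hF : Function.Surjective F)
    {M : Submodule 𝕎 N} (hM : M.IsLattice 𝕃) :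
    ∃ c : ℕ, ∀ (n : ℕ) (r : ℤ), IsOrd M F n r → r ≤ (c : ℤ) * n := by
  obtain ⟨c, hc⟩ := exists_pPow_mul_le_latImg hF hM
  refine ⟨c, fun n r h => ?_⟩
  exact (pPow_le_pPow_self_iff hM.fg h.ne_bot).mp ((hc n).trans h.1)

/-- Fekete: `o n / n` converges. -/
theorem exists_tendsto_of_isOrd [IsWTwist τ] {F : N →ₛₗ[τ] N} (hF : Function.Surjective F)
    {M : Submodule 𝕎 N} (hM : M.IsLattice 𝕃) (o : ℕ → ℤ)
    (ho : ∀ n : ℕ, 1 ≤ n → IsOrd M F n (o n)) :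
    ∃ lam : ℝ, Tendsto (fun n : ℕ => (o n : ℝ) / n) atTop (𝓝 lam) := by
  have hne : M ≠ ⊥ := (ho 1 le_rfl).ne_bot
  set o' : ℕ → ℤ := fun n => if n = 0 then 0 else o n with ho'def
  have ho' : ∀ n, IsOrd M F n (o' n) := by
    intro n
    by_cases hn : n = 0
    · subst hn; simpa [ho'def] using isOrd_zero F hM.fg hne
    · simpa [ho'def, hn] using ho n (Nat.one_le_iff_ne_zero.mpr hn)
  obtain ⟨c, hc⟩ := exists_isOrd_le_mul hF hM
  have hsub : Subadditive (fun n => -(o' n : ℝ)) := by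
    intro m n
    have := (ho' m).add_le (ho' n) (ho' (m + n))
    have h' : ((o' m + o' n : ℤ) : ℝ) ≤ (o' (m + n) : ℝ) := by exact_mod_cast this
    push_cast at h'
    linarith
  have hbdd : BddBelow (Set.range fun n : ℕ => -(o' n : ℝ) / n) := by
    refine ⟨-(c : ℝ), ?_⟩
    rintro _ ⟨n, rfl⟩
    rcases Nat.eq_zero_or_pos n with rfl | hn
    · simp
    · have hn' : (0 : ℝ) < n := by exact_mod_cast hn
      have h1 : ((o' n : ℤ) : ℝ) ≤ ((c : ℤ) * (n : ℤ) : ℤ) := by exact_mod_cast hc n _ (ho' n)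
      push_cast at h1
      rw [le_div_iff₀ hn']
      linarith
  have hlim := hsub.tendsto_lim hbdd
  refine ⟨-hsub.lim, ?_⟩
  have h2 : Tendsto (fun n : ℕ => -(-(o' n : ℝ) / n)) atTop (𝓝 (-hsub.lim)) := hlim.neg
  refine h2.congr' ?_
  filter_upwards [eventually_ge_atTop 1] with n hn
  have : n ≠ 0 := by omega
  simp [ho'def, this, neg_div]

/-- The limit does not depend on the lattice. -/
theorem tendsto_unique_of_isOrd [IsWTwist τ] {F : N →ₛₗ[τ] N}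
    {M₁ M₂ : Submodule 𝕎 N} (hM₁ : M₁.IsLattice 𝕃) (hM₂ : M₂.IsLattice 𝕃)
    (o₁ o₂ : ℕ → ℤ) (ho₁ : ∀ n : ℕ, 1 ≤ n → IsOrd M₁ F n (o₁ n))
    (ho₂ : ∀ n : ℕ, 1 ≤ n → IsOrd M₂ F n (o₂ n)) (lam₁ lam₂ : ℝ)
    (h₁ : Tendsto (fun n : ℕ => (o₁ n : ℝ) / n) atTop (𝓝 lam₁))
    (h₂ : Tendsto (fun n : ℕ => (o₂ n : ℝ) / n) atTop (𝓝 lam₂)) : lam₁ = lam₂ := by
  obtain ⟨c, hc⟩ := exists_pPow_le hM₁.fg hM₂.span_eq_top
  obtain ⟨c', hc'⟩ := exists_pPow_le hM₂.fg hM₁.span_eq_top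
  -- `o₁ n - (c + c') ≤ o₂ n` and symmetrically
  have key : ∀ {A B : Submodule 𝕎 N} {a b : ℕ} {oA oB : ℤ} {n : ℕ}, pPow (a : ℤ) A ≤ B →
      pPow (b : ℤ) B ≤ A → IsOrd A F n oA → IsOrd B F n oB → oA - (a + b) ≤ oB := by
    intro A B a b oA oB n hAB hBA hA hB
    apply hB.le_iff.mp
    have h1 : B ≤ pPow (-(b : ℤ)) A := pPow_le_iff.mp hBA
    calc latImg F n B ≤ latImg F n (pPow (-(b : ℤ)) A) := latImg_mono h1
      _ = pPow (-(b : ℤ)) (latImg F n A) := latImg_pPow F n _ A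
      _ ≤ pPow (-(b : ℤ)) (pPow oA A) := pPow_mono hA.1
      _ = pPow (-(b : ℤ) + oA + -(a : ℤ)) (pPow (a : ℤ) A) := by
          rw [pPow_pPow, pPow_pPow]; congr 1; ring
      _ ≤ pPow (-(b : ℤ) + oA + -(a : ℤ)) B := pPow_mono hAB
      _ = pPow (oA - (a + b)) B := by congr 1; ring
  have hdiff : Tendsto (fun n : ℕ => ((o₁ n : ℝ) / n) - ((o₂ n : ℝ) / n)) atTop
      (𝓝 (lam₁ - lam₂)) := h₁.sub h₂
  have hzero : Tendsto (fun n : ℕ => ((o₁ n : ℝ) / n) - ((o₂ n : ℝ) / n)) atTop (𝓝 0) := by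
    have hbound : Tendsto (fun n : ℕ => ((c + c' : ℕ) : ℝ) / n) atTop (𝓝 0) :=
      tendsto_const_div_atTop_nhds_zero_nat _
    apply squeeze_zero_norm' _ hbound
    filter_upwards [eventually_ge_atTop 1] with n hn
    have hn' : (0 : ℝ) < n := by exact_mod_cast hn
    have e1 := key hc hc' (ho₁ n hn) (ho₂ n hn)
    have e2 := key hc' hc (ho₂ n hn) (ho₁ n hn)
    have e1' : ((o₁ n - ((c : ℤ) + c') : ℤ) : ℝ) ≤ (o₂ n : ℝ) := by exact_mod_cast e1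
    have e2' : ((o₂ n - ((c' : ℤ) + c) : ℤ) : ℝ) ≤ (o₁ n : ℝ) := by exact_mod_cast e2
    push_cast at e1' e2'
    rw [Real.norm_eq_abs, ← sub_div, abs_div, abs_of_pos hn']
    apply div_le_div_of_nonneg_right _ hn'.le
    rw [abs_le]
    push_cast
    constructor <;> linarith
  have := tendsto_nhds_unique hdiff hzero
  linarith

end Groth.Agent.H8.IsocLib
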