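import Mathlib
import Groth.Prelude.Def_Isoc
import Groth.Agent.Lib.Helper8.Isoc.Ord

/-! Isoclinic isocrystals: sub-objects, quotients, homomorphisms, the slope part. -/

set_option autoImplicit false
set_option linter.unusedSectionVars false

open scoped Pointwise Isocrystal
open Isoc Filter Topology

universe u v w

namespace Groth.Agent.H8.IsocLib

variable {p : ℕ} [Fact p.Prime] {k : Type u} [Field k] [CharP k p] [PerfectRing k p]
variable {N : Type v} [AddCommGroup N] [Module (WittVector p k) N]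
  [Module (FractionRing (WittVector p k)) N]
  [IsScalarTower (WittVector p k) (FractionRing (WittVector p k)) N]
variable {N₂ : Type w} [AddCommGroup N₂] [Module (WittVector p k) N₂]
  [Module (FractionRing (WittVector p k)) N₂]
  [IsScalarTower (WittVector p k) (FractionRing (WittVector p k)) N₂]
variable {τ : FractionRing (WittVector p k) →+* FractionRing (WittVector p k)}

local notation "𝕎" => WittVector p k
local notation "𝕃" => FractionRing (WittVector p k)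

/-! ### `τ` is surjective -/

lemma IsWTwist.surjective (τ : 𝕃 →+* 𝕃) [hτ : IsWTwist τ] : Function.Surjective τ := by
  obtain ⟨e, he⟩ := hτ.out
  intro l
  obtain ⟨a, b, _, rfl⟩ := IsFractionRing.div_surjective (A := 𝕎) l
  exact ⟨algebraMap 𝕎 𝕃 (e.symm a) / algebraMap 𝕎 𝕃 (e.symm b), by
    rw [map_div₀, he, he, e.apply_symm_apply, e.apply_symm_apply]⟩

instance IsWTwist.ringHomSurjective [IsWTwist τ] : RingHomSurjective τ :=
  ⟨IsWTwist.surjective τ⟩

/-- An injective semilinear endomorphism of a finite-dimensional space is surjective. -/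
lemma surjective_of_injective {V : Type*} [AddCommGroup V] [Module 𝕃 V] [FiniteDimensional 𝕃 V]
    [IsWTwist τ] (G : V →ₛₗ[τ] V) (hG : Function.Injective G) : Function.Surjective G := by
  let b := Module.finBasis 𝕃 V
  have hli : LinearIndependent 𝕃 (G ∘ b) :=
    b.linearIndependent.map_of_surjective_injectiveₛ τ G.toAddMonoidHom (IsWTwist.surjective τ) hG
      (fun r m => map_smulₛₗ G r m)
  have hspan : Submodule.span 𝕃 (Set.range (G ∘ b)) = ⊤ :=
    hli.span_eq_top_of_card_eq_finrank' (by simp)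
  have hle : Submodule.span 𝕃 (Set.range (G ∘ b)) ≤ LinearMap.range G := by
    rw [Submodule.span_le]
    rintro _ ⟨i, rfl⟩
    exact ⟨b i, rfl⟩
  rw [hspan, top_le_iff] at hle
  exact LinearMap.range_eq_top.mp hle

/-! ### Transport along linear maps -/

lemma map_latImg (f : N →ₗ[𝕃] N₂) {F₁ : N →ₛₗ[τ] N} {F₂ : N₂ →ₛₗ[τ] N₂}
    (hf : ∀ x, f (F₁ x) = F₂ (f x)) (s : ℕ) (M : Submodule 𝕎 N) :
    (latImg F₁ s M).map (f.restrictScalars 𝕎) = latImg F₂ s (M.map (f.restrictScalars 𝕎)) := by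
  have hiter : ∀ x, f ((⇑F₁)^[s] x) = (⇑F₂)^[s] (f x) := fun x =>
    Function.Semiconj.iterate_right (f := f) (ga := F₁) (gb := F₂) hf s x
  unfold latImg
  rw [Submodule.map_span]
  congr 1
  ext y
  constructor
  · rintro ⟨_, ⟨m, hm, rfl⟩, rfl⟩
    exact ⟨f m, ⟨m, hm, rfl⟩, (hiter m).symm⟩
  · rintro ⟨_, ⟨m, hm, rfl⟩, rfl⟩
    exact ⟨_, ⟨m, hm, rfl⟩, hiter m⟩

lemma map_pPow (f : N →ₗ[𝕃] N₂) (r : ℤ) (M : Submodule 𝕎 N) :
    (pPow r M).map (f.restrictScalars 𝕎) = pPow r (M.map (f.restrictScalars 𝕎)) := by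
  ext y
  simp only [Submodule.mem_map, mem_pPow]
  constructor
  · rintro ⟨_, ⟨m, hm, rfl⟩, rfl⟩
    exact ⟨f m, ⟨m, hm, rfl⟩, (map_smul f _ m).symm⟩
  · rintro ⟨_, ⟨m, hm, rfl⟩, rfl⟩
    exact ⟨_, ⟨m, hm, rfl⟩, map_smul f _ m⟩

lemma pPow_sup (r : ℤ) (M M' : Submodule 𝕎 N) : pPow r (M ⊔ M') = pPow r M ⊔ pPow r M' :=
  Submodule.map_sup M M' (DistribSMul.toLinearMap 𝕎 N ((p : 𝕃) ^ r))

lemma pPow_inf (r : ℤ) (M M' : Submodule 𝕎 N) : pPow r (M ⊓ M') = pPow r M ⊓ pPow r M' := by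
  ext x
  simp only [mem_pPow', Submodule.mem_inf]

/-! ### Iterating `F^s M = p^r M` -/

lemma latImg_mul_eq [IsWTwist τ] {F : N →ₛₗ[τ] N} {s : ℕ} {r : ℤ} {M : Submodule 𝕎 N}
    (h : latImg F s M = pPow r M) (j : ℕ) : latImg F (s * j) M = pPow (r * j) M := by
  induction j with
  | zero => simp
  | succ j ih =>
    rw [Nat.mul_succ, add_comm, latImg_add, ih, latImg_pPow, h, pPow_pPow]
    congr 1; push_cast; ring

lemma latImg_mul_le [IsWTwist τ] {F : N →ₛₗ[τ] N} {s : ℕ} {r : ℤ} {M : Submodule 𝕎 N}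
    (h : latImg F s M ≤ pPow r M) (j : ℕ) : latImg F (s * j) M ≤ pPow (r * j) M := by
  induction j with
  | zero => simp
  | succ j ih =>
    rw [Nat.mul_succ, add_comm, latImg_add]
    calc latImg F s (latImg F (s * j) M) ≤ latImg F s (pPow (r * j) M) := latImg_mono ih
      _ = pPow (r * j) (latImg F s M) := latImg_pPow _ _ _ _
      _ ≤ pPow (r * j) (pPow r M) := pPow_mono h
      _ = pPow (r * (j + 1 : ℕ)) M := by rw [pPow_pPow]; congr 1; push_cast; ring

/-! ### Krull intersection -/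

lemma fg_of_le_fg {M M' : Submodule 𝕎 N} (h : M ≤ M') (hfg : M'.FG) : M.FG := by
  have : IsNoetherian 𝕎 M' := isNoetherian_of_fg_of_noetherian M' hfg
  have h2 : (M.comap M'.subtype).FG := IsNoetherian.noetherian _
  have := h2.map M'.subtype
  rwa [Submodule.map_comap_subtype, inf_eq_right.mpr h] at this

lemma eq_zero_of_forall_mem_pPow {M : Submodule 𝕎 N} (hfg : M.FG) {x : N}
    (hx : ∀ n : ℕ, x ∈ pPow (n : ℤ) M) : x = 0 := by
  set Z : Submodule 𝕎 N := ⨅ n : ℕ, pPow (n : ℤ) M with hZ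
  have hZM : Z ≤ M := by
    refine (iInf_le _ 0).trans ?_
    simp
  have hZfg : Z.FG := fg_of_le_fg hZM hfg
  have hZp : Z ≤ pPow 1 Z := by
    intro y hy
    rw [mem_pPow', hZ, Submodule.mem_iInf]
    intro n
    rw [hZ, Submodule.mem_iInf] at hy
    have := hy (n + 1)
    rw [mem_pPow'] at this ⊢
    rw [smul_smul, ← zpow_add₀ p_ne_zero]
    convert this using 2
    push_cast; ring_nf
  have hbot := eq_bot_of_le_pPow_one hZfg hZp
  have hxZ : x ∈ Z := by rw [hZ, Submodule.mem_iInf]; exact hx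
  rw [hbot] at hxZ
  exact hxZ

lemma eq_bot_of_forall_le_pPow {X M : Submodule 𝕎 N} (hfg : M.FG) (c : ℤ)
    (hX : ∀ n : ℕ, X ≤ pPow ((n : ℤ) - c) M) : X = ⊥ := by
  rw [eq_bot_iff]
  intro x hx
  rw [Submodule.mem_bot]
  apply eq_zero_of_forall_mem_pPow hfg
  intro n
  have h1 := hX (n + c.toNat) hx
  refine pPow_anti ?_ M h1
  have := Int.self_le_toNat c
  push_cast
  omega

/-! ### Homomorphisms between isoclinic isocrystals of different slopes -/

theorem hom_eq_zero_of_slope_ne [IsWTwist τ] {F₁ : N →ₛₗ[τ] N} {F₂ : N₂ →ₛₗ[τ] N₂}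
    (h₂ : Function.Injective F₂) {μ₁ μ₂ : ℚ} (hμ₁ : IsIsoclinic F₁ μ₁) (hμ₂ : IsIsoclinic F₂ μ₂)
    (hne : μ₁ ≠ μ₂) (f : N →ₗ[𝕃] N₂) (hf : ∀ x : N, f (F₁ x) = F₂ (f x)) : f = 0 := by
  obtain ⟨M₁, hM₁, r₁, s₁, hs₁, hrs₁, hFM₁⟩ := hμ₁
  obtain ⟨M₂, hM₂, r₂, s₂, hs₂, hrs₂, hFM₂⟩ := hμ₂
  set X : Submodule 𝕎 N₂ := M₁.map (f.restrictScalars 𝕎) with hX
  have hXfg : X.FG := hM₁.fg.map _
  -- common exponent
  have hX' : ∀ j : ℕ, latImg F₂ (s₁ * s₂ * j) X = pPow (r₁ * s₂ * j) X := by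
    intro j
    have h1 := latImg_mul_eq hFM₁ (s₂ * j)
    rw [hX, ← map_latImg f hf, ← mul_assoc] at *
    rw [h1, map_pPow]
    congr 1; push_cast; ring
  have hY' : ∀ j : ℕ, latImg F₂ (s₁ * s₂ * j) M₂ = pPow (r₂ * s₁ * j) M₂ := by
    intro j
    have h1 := latImg_mul_eq hFM₂ (s₁ * j)
    rw [← mul_assoc, mul_comm s₂ s₁] at h1
    rw [h1]
    congr 1; push_cast; ring
  obtain ⟨c, hc⟩ := exists_le_pPow_neg hXfg hM₂.span_eq_top
  have hs₁' : (0 : ℚ) < s₁ := by exact_mod_cast hs₁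
  have hs₂' : (0 : ℚ) < s₂ := by exact_mod_cast hs₂
  have hR : r₁ * s₂ ≠ r₂ * s₁ := by
    intro h
    apply hne
    rw [← hrs₁, ← hrs₂, div_eq_div_iff hs₁'.ne' hs₂'.ne']
    exact_mod_cast h
  have hXbot : X = ⊥ := by
    apply eq_bot_of_forall_le_pPow hM₂.fg c
    intro n
    -- in both cases `X ≤ pPow ((R₂ - R₁) * n - c) M₂` or with the roles exchanged
    rcases lt_or_gt_of_ne hR with hlt | hgt
    · have h1 : latImg F₂ (s₁ * s₂ * n) X ≤ latImg F₂ (s₁ * s₂ * n) (pPow (-(c : ℤ)) M₂) :=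
        latImg_mono hc
      rw [hX', latImg_pPow, hY', pPow_pPow, pPow_le_iff, pPow_pPow] at h1
      refine h1.trans (pPow_anti ?_ M₂)
      have : (n : ℤ) ≤ (r₂ * s₁ - r₁ * s₂) * n := by
        have : 1 ≤ r₂ * s₁ - r₁ * s₂ := by omega
        nlinarith
      linarith
    · have e1 : X = latImg F₂ (s₁ * s₂ * n) (pPow (-(r₁ * s₂ * n)) X) := by
        rw [latImg_pPow, hX', pPow_pPow]; simp
      have e2 : pPow (-(c : ℤ)) M₂ =
          latImg F₂ (s₁ * s₂ * n) (pPow (-(c : ℤ) + -(r₂ * s₁ * n)) M₂) := by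
        rw [latImg_pPow, hY', pPow_pPow]; congr 1; ring
      have h1 : latImg F₂ (s₁ * s₂ * n) (pPow (-(r₁ * s₂ * n)) X) ≤
          latImg F₂ (s₁ * s₂ * n) (pPow (-(c : ℤ) + -(r₂ * s₁ * n)) M₂) := by
        rw [← e1, ← e2]; exact hc
      rw [latImg_le_latImg_iff h₂, pPow_le_iff, pPow_pPow] at h1
      refine h1.trans (pPow_anti ?_ M₂)
      have : (n : ℤ) ≤ (r₁ * s₂ - r₂ * s₁) * n := by
        have : 1 ≤ r₁ * s₂ - r₂ * s₁ := by omega
        nlinarith
      linarith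
  -- `f` vanishes on `M₁`, which spans
  have hker : Submodule.span 𝕃 (M₁ : Set N) ≤ LinearMap.ker f := by
    rw [Submodule.span_le]
    intro m hm
    have : f m ∈ X := ⟨m, hm, rfl⟩
    rw [hXbot, Submodule.mem_bot] at this
    exact this
  rw [hM₁.span_eq_top, top_le_iff] at hker
  exact LinearMap.ker_eq_top.mp hker

end Groth.Agent.H8.IsocLib
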