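import Mathlib
import Groth.Prelude.Def_Isoc
import Groth.Agent.Lib.Helper8.Isoc.Isoclinic

/-! Chains of lattices between `p M` and `M` stabilise within `dim N` steps. -/

set_option autoImplicit false
set_option linter.unusedSectionVars false

open scoped Pointwise Isocrystal
open Isoc

universe u v w

namespace Groth.Agent.H8.IsocLib

variable {p : ℕ} [Fact p.Prime] {k : Type u} [Field k] [CharP k p] [PerfectRing k p]

local notation "𝕎" => WittVector p k
local notation "𝕃" => FractionRing (WittVector p k)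

lemma span_p_isMaximal : (Ideal.span {(p : 𝕎)}).IsMaximal := by
  rw [← (WittVector.irreducible p).maximalIdeal_eq]
  infer_instance

lemma length_quot_span_p : Module.length 𝕎 (𝕎 ⧸ Ideal.span {(p : 𝕎)}) = 1 := by
  have : IsSimpleModule 𝕎 (𝕎 ⧸ Ideal.span {(p : 𝕎)}) :=
    isSimpleModule_iff_isCoatom.mpr (span_p_isMaximal (p := p) (k := k)).out
  exact Module.length_eq_one _ _

lemma length_le_one_of_span_singleton {X : Type w} [AddCommGroup X] [Module 𝕎 X]
    (hp : ∀ y : X, (p : 𝕎) • y = 0) (y : X) (hy : Submodule.span 𝕎 {y} = ⊤) :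
    Module.length 𝕎 X ≤ 1 := by
  let f : 𝕎 →ₗ[𝕎] X := LinearMap.toSpanSingleton 𝕎 X y
  have hle : Ideal.span {(p : 𝕎)} ≤ LinearMap.ker f := by
    rw [Ideal.span_le]
    intro w hw
    rw [Set.mem_singleton_iff] at hw
    subst hw
    show f (p : 𝕎) = 0
    simp [f, hp]
  let g : (𝕎 ⧸ Ideal.span {(p : 𝕎)}) →ₗ[𝕎] X := Submodule.liftQ _ f hle
  have hg : Function.Surjective g := by
    rw [← LinearMap.range_eq_top, Submodule.range_liftQ, LinearMap.range_toSpanSingleton, hy]
  calc Module.length 𝕎 X ≤ Module.length 𝕎 (𝕎 ⧸ Ideal.span {(p : 𝕎)}) :=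
        Module.length_le_of_surjective g hg
    _ = 1 := length_quot_span_p

lemma length_le_of_span_fin : ∀ (h : ℕ) {X : Type w} [AddCommGroup X] [Module 𝕎 X]
    (_ : ∀ y : X, (p : 𝕎) • y = 0) (x : Fin h → X)
    (_ : Submodule.span 𝕎 (Set.range x) = ⊤), Module.length 𝕎 X ≤ h := by
  intro h
  induction h with
  | zero =>
    intro X _ _ _ x hx
    have : Subsingleton X := by
      rw [← Submodule.subsingleton_iff 𝕎, ← subsingleton_iff_bot_eq_top, ← hx]
      simp
    simp [Module.length_eq_zero]
  | succ h ih =>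
    intro X _ _ hp x hx
    set X' : Submodule 𝕎 X := Submodule.span 𝕎 (Set.range (x ∘ Fin.castSucc)) with hX'
    have h1 : Module.length 𝕎 X' ≤ h := by
      refine ih (fun y => Subtype.ext (hp y)) (fun i => ⟨x (Fin.castSucc i),
        Submodule.subset_span ⟨i, rfl⟩⟩) ?_
      apply Submodule.map_injective_of_injective (f := X'.subtype) X'.injective_subtype
      rw [Submodule.map_span, Submodule.map_top, Submodule.range_subtype, ← Set.range_comp]
      rfl
    have h2 : Module.length 𝕎 (X ⧸ X') ≤ 1 := by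
      refine length_le_one_of_span_singleton (fun y => ?_) (X'.mkQ (x (Fin.last h))) ?_
      · obtain ⟨y, rfl⟩ := X'.mkQ_surjective y
        rw [← map_smul, hp, map_zero]
      · rw [eq_top_iff, ← X'.range_mkQ, ← Submodule.map_top, ← hx, Submodule.map_span,
          Submodule.span_le]
        rintro _ ⟨_, ⟨i, rfl⟩, rfl⟩
        induction i using Fin.lastCases with
        | last => exact Submodule.subset_span rfl
        | cast j =>
          have : X'.mkQ (x (Fin.castSucc j)) = 0 := by
            rw [Submodule.mkQ_apply, Submodule.Quotient.mk_eq_zero]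
            exact Submodule.subset_span ⟨j, rfl⟩
          rw [this]
          exact Submodule.zero_mem _
    rw [Module.length_eq_add_of_exact X'.subtype X'.mkQ X'.injective_subtype X'.mkQ_surjective
      (LinearMap.exact_subtype_mkQ X')]
    push_cast
    exact add_le_add h1 h2

lemma exists_eq_succ_of_height_le {α : Type*} [PartialOrder α] {y : α} {h : ℕ}
    (hy : Order.height y ≤ h) (B : ℕ → α) (hB : Monotone B) (hlast : B (h + 1) ≤ y) :
    ∃ i ≤ h, B i = B (i + 1) := by
  by_contra hcon
  push Not at hcon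
  have hlt : ∀ i ≤ h, B i < B (i + 1) := fun i hi =>
    lt_of_le_of_ne (hB (Nat.le_succ i)) (hcon i hi)
  let s : LTSeries α := LTSeries.mk (h + 1) (fun i : Fin (h + 1 + 1) => B i) (by
    rw [Fin.strictMono_iff_lt_succ]
    intro i
    have := hlt i (by omega)
    simpa using this)
  have hs : s.last ≤ y := by
    show B ((Fin.last (h + 1) : Fin (h + 1 + 1)) : ℕ) ≤ y
    simpa using hlast
  have := Order.length_le_height hs
  have h3 : ((h + 1 : ℕ) : ℕ∞) ≤ (h : ℕ∞) := this.trans hy
  have : h + 1 ≤ h := by exact_mod_cast h3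
  omega

variable {N : Type v} [AddCommGroup N] [Module (WittVector p k) N]
  [Module (FractionRing (WittVector p k)) N]
  [IsScalarTower (WittVector p k) (FractionRing (WittVector p k)) N]

lemma finrank_lattice [FiniteDimensional 𝕃 N] {M : Submodule 𝕎 N} (hM : M.IsLattice 𝕃) :
    Module.finrank 𝕎 M = Module.finrank 𝕃 N := by
  have := hM
  exact Module.finrank_eq_of_rank_eq (by
    rw [Submodule.IsLattice.rank' (K := 𝕃) M, Module.finrank_eq_rank])

/-- A monotone chain of submodules between `p M` and `M` stabilises within `dim N` steps. -/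
theorem exists_eq_succ_of_chain [FiniteDimensional 𝕃 N] {M : Submodule 𝕎 N}
    (hM : M.IsLattice 𝕃) {h : ℕ} (hh : Module.finrank 𝕃 N = h) (A : ℕ → Submodule 𝕎 N)
    (hA : Monotone A) (h0 : pPow 1 M ≤ A 0) (hlast : A (h + 1) ≤ M) :
    ∃ i ≤ h, A i = A (i + 1) := by
  have := hM
  set K : Submodule 𝕎 N := pPow 1 M with hK
  set Y : Submodule 𝕎 (N ⧸ K) := M.map K.mkQ with hY
  have hlen : Module.length 𝕎 Y ≤ h := by
    let b := Module.finBasis 𝕎 M
    have hb : Module.finrank 𝕎 M = h := (finrank_lattice hM).trans hh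
    let g : M →ₗ[𝕎] Y := K.mkQ.submoduleMap M
    have hg : Function.Surjective g := K.mkQ.submoduleMap_surjective M
    rw [← hb]
    refine length_le_of_span_fin _ (fun y => ?_) (fun i => g (b i)) ?_
    · obtain ⟨m, rfl⟩ := hg y
      rw [← map_smul]
      apply Subtype.ext
      show K.mkQ ((p : 𝕎) • (m : N)) = 0
      rw [Submodule.mkQ_apply, Submodule.Quotient.mk_eq_zero, hK, mem_pPow]
      refine ⟨m, m.2, ?_⟩
      have := zpow_natCast_smul (p := p) (k := k) 1 (m : N)
      simpa using this
    · have : Set.range (fun i => g (b i)) = g '' Set.range b := by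
        rw [← Set.range_comp]; rfl
      rw [this, ← Submodule.map_span, b.span_eq, Submodule.map_top, LinearMap.range_eq_top.mpr hg]
  have hheight : Order.height Y ≤ h := by
    rw [← Module.length_submodule]; exact hlen
  obtain ⟨i, hi, hBi⟩ := exists_eq_succ_of_height_le hheight (fun i => (A i).map K.mkQ)
    (fun i j hij => Submodule.map_mono (hA hij)) (Submodule.map_mono hlast)
  refine ⟨i, hi, ?_⟩
  have hKi : ∀ j, K ≤ A j := fun j => h0.trans (hA (Nat.zero_le j))
  have := congrArg (Submodule.comap K.mkQ) hBi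
  rwa [Submodule.comap_map_mkQ, Submodule.comap_map_mkQ, sup_eq_right.mpr (hKi i),
    sup_eq_right.mpr (hKi (i + 1))] at this

end Groth.Agent.H8.IsocLib
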