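import Mathlib
import Groth.Prelude.Def_Isoc
import Groth.Agent.Lib.Helper8.Isoc.Chain

/-! `p`-adic completeness of lattices. -/

set_option autoImplicit false
set_option linter.unusedSectionVars false

open scoped Pointwise Isocrystal
open Isoc Module

universe u v w

namespace Groth.Agent.H8.IsocLib

variable {p : ℕ} [Fact p.Prime] {k : Type u} [Field k] [CharP k p] [PerfectRing k p]
variable {N : Type v} [AddCommGroup N] [Module (WittVector p k) N]
  [Module (FractionRing (WittVector p k)) N]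
  [IsScalarTower (WittVector p k) (FractionRing (WittVector p k)) N]

local notation "𝕎" => WittVector p k
local notation "𝕃" => FractionRing (WittVector p k)

/-- Completeness of `W`, in series form. -/
lemma exists_series_limit (a : ℕ → 𝕎) :
    ∃ α : 𝕎, ∀ i : ℕ, ∃ w : 𝕎, α - ∑ t ∈ Finset.range i, (p : 𝕎) ^ t * a t = (p : 𝕎) ^ i * w := by
  have hc : IsPrecomplete (Ideal.span {(p : 𝕎)}) 𝕎 := inferInstance
  set f : ℕ → 𝕎 := fun i => ∑ t ∈ Finset.range i, (p : 𝕎) ^ t * a t with hf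
  have hmem : ∀ (m : ℕ) (x : 𝕎), x ∈ (Ideal.span {(p : 𝕎)} ^ m • ⊤ : Submodule 𝕎 𝕎) ↔
      (p : 𝕎) ^ m ∣ x := by
    intro m x
    rw [smul_eq_mul, Ideal.mul_top, Ideal.span_singleton_pow, Ideal.mem_span_singleton]
  have hcauchy : ∀ {m n : ℕ}, m ≤ n →
      f m ≡ f n [SMOD (Ideal.span {(p : 𝕎)} ^ m • ⊤ : Submodule 𝕎 𝕎)] := by
    intro m n hmn
    rw [SModEq.sub_mem, hmem]
    have : f m - f n = -∑ t ∈ Finset.Ico m n, (p : 𝕎) ^ t * a t := by
      simp only [hf]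
      rw [← Finset.sum_range_add_sum_Ico _ hmn]
      ring
    rw [this, dvd_neg]
    apply Finset.dvd_sum
    intro t ht
    exact Dvd.dvd.mul_right (pow_dvd_pow _ (Finset.mem_Ico.mp ht).1) _
  obtain ⟨L, hL⟩ := hc.prec hcauchy
  refine ⟨L, fun i => ?_⟩
  have := hL i
  rw [SModEq.sub_mem, hmem] at this
  obtain ⟨w, hw⟩ := this
  exact ⟨-w, by rw [mul_neg, ← hw]; ring⟩

/-- Completeness of a lattice, in series form. -/
lemma exists_lattice_series_limit {M : Submodule 𝕎 N} (hM : M.IsLattice 𝕃) (μ : ℕ → N)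
    (hμ : ∀ t, μ t ∈ M) :
    ∃ z ∈ M, ∀ i : ℕ, z - ∑ t ∈ Finset.range i, ((p : 𝕃) ^ (t : ℤ)) • μ t ∈ pPow (i : ℤ) M := by
  have := hM
  let m := Module.finBasis 𝕎 M
  set n := Module.finrank 𝕎 M
  let a : Fin n → ℕ → 𝕎 := fun l t => m.repr ⟨μ t, hμ t⟩ l
  choose α hα using fun l => exists_series_limit (a l)
  choose w hw using hα
  have hμ_eq : ∀ t, μ t = ∑ l, a l t • (m l : N) := by
    intro t
    have := congrArg Subtype.val (m.sum_repr ⟨μ t, hμ t⟩)
    rw [Submodule.coe_sum] at this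
    exact this.symm
  refine ⟨∑ l, α l • (m l : N), Submodule.sum_mem _ fun l _ => M.smul_mem _ (m l).2, fun i => ?_⟩
  have key : ∑ l, α l • (m l : N) - ∑ t ∈ Finset.range i, ((p : 𝕃) ^ (t : ℤ)) • μ t =
      ((p : 𝕃) ^ (i : ℤ)) • ∑ l, w l i • (m l : N) := by
    have h1 : ∑ t ∈ Finset.range i, ((p : 𝕃) ^ (t : ℤ)) • μ t =
        ∑ l, (∑ t ∈ Finset.range i, (p : 𝕎) ^ t * a l t) • (m l : N) := by
      simp_rw [Finset.sum_smul]
      rw [Finset.sum_comm]
      refine Finset.sum_congr rfl fun t _ => ?_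
      rw [hμ_eq t, zpow_natCast_smul, Finset.smul_sum]
      refine Finset.sum_congr rfl fun l _ => ?_
      rw [smul_smul]
    rw [h1, ← Finset.sum_sub_distrib, zpow_natCast_smul, Finset.smul_sum]
    refine Finset.sum_congr rfl fun l _ => ?_
    rw [← sub_smul, hw l i, smul_smul]
  rw [key]
  exact smul_mem_pPow (Submodule.sum_mem _ fun l _ => M.smul_mem _ (m l).2)

/-- Completeness of a lattice: Cauchy sequences converge. -/
lemma exists_limit {M : Submodule 𝕎 N} (hM : M.IsLattice 𝕃) (x : ℕ → N) (c : ℤ)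
    (hx : ∀ i : ℕ, x (i + 1) - x i ∈ pPow (c + i) M) :
    ∃ y, ∀ i : ℕ, y - x i ∈ pPow (c + i) M := by
  have hδ : ∀ t : ℕ, ∃ μ ∈ M, ((p : 𝕃) ^ (c + t)) • μ = x (t + 1) - x t := fun t =>
    mem_pPow.mp (hx t)
  choose μ hμM hμ using hδ
  obtain ⟨z, _, hz⟩ := exists_lattice_series_limit hM μ hμM
  refine ⟨x 0 + ((p : 𝕃) ^ c) • z, fun i => ?_⟩
  have htel : x i = x 0 + ∑ t ∈ Finset.range i, (x (t + 1) - x t) := by
    rw [Finset.sum_range_sub]; abel
  have h1 : x 0 + ((p : 𝕃) ^ c) • z - x i =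
      ((p : 𝕃) ^ c) • (z - ∑ t ∈ Finset.range i, ((p : 𝕃) ^ (t : ℤ)) • μ t) := by
    rw [htel, smul_sub, Finset.smul_sum]
    have : ∀ t : ℕ, ((p : 𝕃) ^ c) • ((p : 𝕃) ^ (t : ℤ)) • μ t = x (t + 1) - x t := by
      intro t
      rw [smul_smul, ← zpow_add₀ p_ne_zero, hμ t]
    simp_rw [this]
    abel
  rw [h1, ← pPow_pPow]
  exact smul_mem_pPow (hz i)

end Groth.Agent.H8.IsocLib
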