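import Mathlib
import Groth.Prelude.Def_Isoc
import Groth.Agent.Lib.Helper8.Isoc.LatImg

/-! The relation `IsOrdP c r` (`ord_p c = r`). -/

set_option autoImplicit false
set_option linter.unusedSectionVars false

open scoped Pointwise Isocrystal
open Isoc

universe u v w

namespace Groth.Agent.H8.IsocLib

variable {p : ℕ} [Fact p.Prime] {k : Type u} [Field k] [CharP k p] [PerfectRing k p]
variable {τ : FractionRing (WittVector p k) →+* FractionRing (WittVector p k)}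

local notation "𝕎" => WittVector p k
local notation "𝕃" => FractionRing (WittVector p k)

lemma _root_.Isoc.IsOrdP.mul {c c' : 𝕃} {r r' : ℤ} (h : IsOrdP c r) (h' : IsOrdP c' r') :
    IsOrdP (c * c') (r + r') := by
  obtain ⟨u, rfl⟩ := h
  obtain ⟨u', rfl⟩ := h'
  refine ⟨u * u', ?_⟩
  rw [zpow_add₀ p_ne_zero, Units.val_mul, map_mul]
  ring

lemma _root_.Isoc.IsOrdP.ne_zero {c : 𝕃} {r : ℤ} (h : IsOrdP c r) : c ≠ 0 := by
  obtain ⟨u, rfl⟩ := h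
  refine mul_ne_zero (zpow_ne_zero _ p_ne_zero) ?_
  exact (map_ne_zero_iff _ (IsFractionRing.injective 𝕎 𝕃)).mpr u.ne_zero

lemma _root_.Isoc.IsOrdP.inv {c : 𝕃} {r : ℤ} (h : IsOrdP c r) : IsOrdP c⁻¹ (-r) := by
  obtain ⟨u, rfl⟩ := h
  refine ⟨u⁻¹, ?_⟩
  rw [mul_inv, zpow_neg]
  congr 1
  have : algebraMap 𝕎 𝕃 (u : 𝕎) * algebraMap 𝕎 𝕃 ((u⁻¹ : 𝕎ˣ) : 𝕎) = 1 := by
    rw [← map_mul, Units.mul_inv, map_one]
  exact inv_eq_of_mul_eq_one_right this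

lemma _root_.Isoc.IsOrdP.map [hτ : IsWTwist τ] {c : 𝕃} {r : ℤ} (h : IsOrdP c r) :
    IsOrdP (τ c) r := by
  obtain ⟨u, rfl⟩ := h
  obtain ⟨e, he⟩ := hτ.out
  refine ⟨Units.map e.toRingHom.toMonoidHom u, ?_⟩
  rw [map_mul, map_p_zpow, he]
  rfl

lemma isOrdP_one : IsOrdP (1 : 𝕃) 0 := ⟨1, by simp⟩

lemma isOrdP_of_isUnit {w : 𝕎} (hw : IsUnit w) (r : ℤ) :
    IsOrdP ((p : 𝕃) ^ r * algebraMap 𝕎 𝕃 w) r := by
  obtain ⟨u, rfl⟩ := hw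
  exact ⟨u, rfl⟩

lemma isOrdP_p_zpow_mul {w : 𝕎} (hw : w ≠ 0) (r : ℤ) :
    ∃ m : ℕ, IsOrdP ((p : 𝕃) ^ r * algebraMap 𝕎 𝕃 w) (r + m) := by
  obtain ⟨m, u, rfl⟩ := WittVector.exists_eq_pow_p_mul' w hw
  refine ⟨m, u, ?_⟩
  rw [zpow_add₀ p_ne_zero, map_mul, map_pow, map_natCast, zpow_natCast]
  ring

lemma exists_isOrdP {c : 𝕃} (hc : c ≠ 0) : ∃ r, IsOrdP c r := by
  obtain ⟨a, b, hb, rfl⟩ := IsFractionRing.div_surjective (A := 𝕎) c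
  have hb0 : b ≠ 0 := nonZeroDivisors.ne_zero hb
  have ha0 : a ≠ 0 := by
    rintro rfl
    simp at hc
  obtain ⟨m, hm⟩ := isOrdP_p_zpow_mul (p := p) (k := k) ha0 0
  obtain ⟨n, hn⟩ := isOrdP_p_zpow_mul (p := p) (k := k) hb0 0
  simp only [zpow_zero, one_mul, zero_add] at hm hn
  exact ⟨m + -n, by rw [div_eq_mul_inv]; exact hm.mul hn.inv⟩

lemma _root_.Isoc.IsOrdP.unique {c : 𝕃} {r r' : ℤ} (h : IsOrdP c r) (h' : IsOrdP c r') :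
    r = r' := by
  have key : ∀ (r r' : ℤ) (u u' : 𝕎ˣ), r < r' →
      (p : 𝕃) ^ r * algebraMap 𝕎 𝕃 (u : 𝕎) ≠ (p : 𝕃) ^ r' * algebraMap 𝕎 𝕃 (u' : 𝕎) := by
    intro r r' u u' hlt heq
    obtain ⟨n, hn⟩ := Int.eq_ofNat_of_zero_le (sub_nonneg.mpr hlt.le)
    have hn1 : 1 ≤ n := by omega
    have h1 : algebraMap 𝕎 𝕃 (u : 𝕎) = algebraMap 𝕎 𝕃 ((p : 𝕎) ^ n * (u' : 𝕎)) := by
      have hr' : r' = r + n := by omega
      rw [hr', zpow_add₀ p_ne_zero, mul_assoc] at heq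
      have := mul_left_cancel₀ (zpow_ne_zero r p_ne_zero) heq
      rw [this, map_mul, map_pow, map_natCast, zpow_natCast]
    have h2 : (u : 𝕎) = (p : 𝕎) ^ n * (u' : 𝕎) := IsFractionRing.injective 𝕎 𝕃 h1
    have h3 : (p : 𝕎) ∣ (u : 𝕎) := by
      rw [h2]
      exact Dvd.dvd.mul_right (dvd_pow_self _ (by omega)) _
    exact (WittVector.irreducible p).not_isUnit (isUnit_of_dvd_unit h3 u.isUnit)
  obtain ⟨u, hu⟩ := h
  obtain ⟨u', hu'⟩ := h'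
  rcases lt_trichotomy r r' with hlt | heq | hgt
  · exact absurd (hu.symm.trans hu') (key r r' u u' hlt)
  · exact heq
  · exact absurd (hu'.symm.trans hu) (key r' r u' u hgt)

lemma _root_.Isoc.IsOrdP.le_of_eq {c : 𝕃} {r r' : ℤ} (h : IsOrdP c r) {w : 𝕎}
    (hc : c = (p : 𝕃) ^ r' * algebraMap 𝕎 𝕃 w) : r' ≤ r := by
  have hw : w ≠ 0 := by
    rintro rfl
    exact h.ne_zero (by rw [hc]; simp)
  obtain ⟨m, hm⟩ := isOrdP_p_zpow_mul (p := p) (k := k) hw r'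
  rw [← hc] at hm
  have := h.unique hm
  omega

lemma _root_.Isoc.IsOrdP.isUnit_of_eq {c : 𝕃} {r : ℤ} (h : IsOrdP c r) {w : 𝕎}
    (hc : c = (p : 𝕃) ^ r * algebraMap 𝕎 𝕃 w) : IsUnit w := by
  have hw : w ≠ 0 := by
    rintro rfl
    exact h.ne_zero (by rw [hc]; simp)
  obtain ⟨m, u, rfl⟩ := WittVector.exists_eq_pow_p_mul' w hw
  have hm : IsOrdP c (r + m) := by
    refine ⟨u, ?_⟩
    rw [hc, zpow_add₀ p_ne_zero, map_mul, map_pow, map_natCast, zpow_natCast]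
    ring
  have := h.unique hm
  have hm0 : m = 0 := by omega
  subst hm0
  simp

end Groth.Agent.H8.IsocLib
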