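import Mathlib
import Groth.Prelude.Def_Isoc
import Groth.Agent.Lib.Helper8.Isoc.OrdP
import Groth.Agent.Lib.Helper8.Isoc.Ord

/-! Determinants of semilinear maps and their `p`-adic orders. -/

set_option autoImplicit false
set_option linter.unusedSectionVars false

open scoped Pointwise Isocrystal
open Isoc Module

universe u v w

namespace Groth.Agent.H8.IsocLib

variable {p : ℕ} [Fact p.Prime] {k : Type u} [Field k] [CharP k p] [PerfectRing k p]
variable {N : Type v} [AddCommGroup N] [Module (WittVector p k) N]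
  [Module (FractionRing (WittVector p k)) N]
  [IsScalarTower (WittVector p k) (FractionRing (WittVector p k)) N]
variable {τ : FractionRing (WittVector p k) →+* FractionRing (WittVector p k)}
variable {n : ℕ}

local notation "𝕎" => WittVector p k
local notation "𝕃" => FractionRing (WittVector p k)

lemma detCoeff_eq (b : Basis (Fin n) 𝕃 N) (F : N →ₛₗ[τ] N) :
    detCoeff b F = (b.toMatrix (F ∘ b)).det := rfl

lemma toMatrix_comp {ι : Type*} (c d : Basis (Fin n) 𝕃 N) (G : N →ₛₗ[τ] N) (x : ι → N) :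
    d.toMatrix (G ∘ x) = d.toMatrix (G ∘ c) * (c.toMatrix x).map τ := by
  ext i j
  rw [Matrix.mul_apply]
  simp only [Basis.toMatrix_apply, Function.comp_apply, Matrix.map_apply]
  conv_lhs => rw [← c.sum_repr (x j)]
  rw [map_sum, map_sum, Finsupp.coe_finsetSum, Finset.sum_apply]
  refine Finset.sum_congr rfl fun l _ => ?_
  rw [map_smulₛₗ, map_smul, Finsupp.smul_apply, smul_eq_mul, mul_comm]

lemma detCoeff_change (b b' : Basis (Fin n) 𝕃 N) (F : N →ₛₗ[τ] N) :
    detCoeff b' F = (b.toMatrix b').det⁻¹ * detCoeff b F * τ (b.toMatrix b').det := by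
  have h1 : b'.toMatrix (F ∘ b') = b'.toMatrix b * b.toMatrix (F ∘ b) * (b.toMatrix b').map τ := by
    rw [toMatrix_comp b b' F b', Basis.toMatrix_mul_toMatrix b' b (F ∘ b)]
  have h2 : (b'.toMatrix b).det = (b.toMatrix b').det⁻¹ := by
    have := congrArg Matrix.det (Basis.toMatrix_mul_toMatrix_flip b b')
    rw [Matrix.det_mul, Matrix.det_one] at this
    exact eq_inv_of_mul_eq_one_right this
  rw [detCoeff_eq, h1, Matrix.det_mul, Matrix.det_mul, h2, detCoeff_eq]
  congr 1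
  exact (RingHom.map_det τ _).symm

lemma isOrdP_detCoeff_change [IsWTwist τ] (b b' : Basis (Fin n) 𝕃 N) (F : N →ₛₗ[τ] N) {d : ℤ}
    (h : IsOrdP (detCoeff b F) d) : IsOrdP (detCoeff b' F) d := by
  have hu : (b.toMatrix b').det ≠ 0 := by
    intro h0
    have := congrArg Matrix.det (Basis.toMatrix_mul_toMatrix_flip b b')
    rw [Matrix.det_mul, h0, zero_mul, Matrix.det_one] at this
    exact zero_ne_one this
  obtain ⟨e, he⟩ := exists_isOrdP hu
  rw [detCoeff_change b b' F]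
  have := (he.inv.mul h).mul (he.map (τ := τ))
  convert this using 1
  ring

lemma detCoeff_iter_succ (b : Basis (Fin n) 𝕃 N) (F : N →ₛₗ[τ] N) (m : ℕ) :
    detCoeff b (iter F (m + 1)) = detCoeff b F * τ (detCoeff b (iter F m)) := by
  have : (⇑(iter F (m + 1)) ∘ b) = F ∘ (⇑(iter F m) ∘ b) := by
    funext j
    show (⇑F)^[m + 1] (b j) = F ((⇑F)^[m] (b j))
    exact Function.iterate_succ_apply' _ _ _
  rw [detCoeff_eq, this, toMatrix_comp b b F, Matrix.det_mul, detCoeff_eq, detCoeff_eq,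
    RingHom.map_det]
  rfl

lemma isOrdP_detCoeff_iter [IsWTwist τ] (b : Basis (Fin n) 𝕃 N) (F : N →ₛₗ[τ] N) {d : ℤ}
    (h : IsOrdP (detCoeff b F) d) (m : ℕ) : IsOrdP (detCoeff b (iter F m)) (m * d) := by
  induction m with
  | zero =>
    have : detCoeff b (iter F 0) = 1 := by
      rw [detCoeff_eq]
      have : (⇑(iter F 0) ∘ b) = b := by ext j; simp
      rw [this, Basis.toMatrix_self, Matrix.det_one]
    rw [this]
    simpa using isOrdP_one (p := p) (k := k)
  | succ m ih =>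
    rw [detCoeff_iter_succ]
    have := h.mul (ih.map (τ := τ))
    convert this using 1
    push_cast; ring

/-! ### Lattices with a basis -/

lemma extend_repr {M : Submodule 𝕎 N} [M.IsLattice 𝕃] (m : Basis (Fin n) 𝕎 M) (y : M)
    (i : Fin n) : (m.extendOfIsLattice 𝕃).repr (y : N) i = algebraMap 𝕎 𝕃 (m.repr y i) := by
  have : (y : N) = ∑ i, algebraMap 𝕎 𝕃 (m.repr y i) • (m.extendOfIsLattice 𝕃) i := by
    conv_lhs => rw [← m.sum_repr y]
    rw [Submodule.coe_sum]
    refine Finset.sum_congr rfl fun i _ => ?_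
    rw [Submodule.coe_smul, algebraMap_smul, Basis.extendOfIsLattice_apply]
  rw [this, Basis.repr_sum_self]

lemma exists_toMatrix_eq {M : Submodule 𝕎 N} [M.IsLattice 𝕃] (m : Basis (Fin n) 𝕎 M)
    (x : Fin n → N) (r : ℤ) (hx : ∀ j, x j ∈ pPow r M) :
    ∃ W : Matrix (Fin n) (Fin n) 𝕎,
      (m.extendOfIsLattice 𝕃).toMatrix x = ((p : 𝕃) ^ r) • W.map (algebraMap 𝕎 𝕃) ∧
      ∀ j, x j = ((p : 𝕃) ^ r) • ∑ i, W i j • (m i : N) := by
  let y : Fin n → M := fun j => ⟨((p : 𝕃) ^ (-r)) • x j, mem_pPow'.mp (hx j)⟩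
  have hxy : ∀ j, x j = ((p : 𝕃) ^ r) • (y j : N) := by
    intro j
    show x j = ((p : 𝕃) ^ r) • (((p : 𝕃) ^ (-r)) • x j)
    rw [smul_smul, ← zpow_add₀ p_ne_zero]; simp
  refine ⟨Matrix.of fun i j => m.repr (y j) i, ?_, ?_⟩
  · ext i j
    rw [Basis.toMatrix_apply, hxy j, map_smul, Finsupp.smul_apply, extend_repr]
    simp
  · intro j
    rw [hxy j]
    congr 1
    conv_lhs => rw [← m.sum_repr (y j)]
    rw [Submodule.coe_sum]
    rfl

lemma det_toMatrix_eq {A : Matrix (Fin n) (Fin n) 𝕃} {W : Matrix (Fin n) (Fin n) 𝕎} {r : ℤ}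
    (h : A = ((p : 𝕃) ^ r) • W.map (algebraMap 𝕎 𝕃)) :
    A.det = (p : 𝕃) ^ (r * n) * algebraMap 𝕎 𝕃 W.det := by
  rw [h, Matrix.det_smul, Fintype.card_fin, ← zpow_natCast, ← zpow_mul, RingHom.map_det]
  rfl

/-- If `G M ⊆ p^r M` then `ord det G ≥ r n`. -/
theorem mul_le_of_latImg_le {G : N →ₛₗ[τ] N} {M : Submodule 𝕎 N} [M.IsLattice 𝕃]
    (m : Basis (Fin n) 𝕎 M) {r e : ℤ} (hle : latImg G 1 M ≤ pPow r M)
    (he : IsOrdP (detCoeff (m.extendOfIsLattice 𝕃) G) e) : r * n ≤ e := by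
  have hx : ∀ j, (G ∘ m.extendOfIsLattice 𝕃) j ∈ pPow r M := by
    intro j
    apply hle
    have : (m.extendOfIsLattice 𝕃) j ∈ M := by
      rw [Basis.extendOfIsLattice_apply]; exact (m j).2
    simpa using iterate_mem_latImg (F := G) (s := 1) this
  obtain ⟨W, hW, -⟩ := exists_toMatrix_eq m _ r hx
  exact he.le_of_eq (det_toMatrix_eq hW)

/-- If `G M = p^r M` then `ord det G = r n`. -/
theorem isOrdP_detCoeff_of_latImg_eq [IsWTwist τ] {G : N →ₛₗ[τ] N} {M : Submodule 𝕎 N}
    [M.IsLattice 𝕃] (m : Basis (Fin n) 𝕎 M) {r : ℤ} (heq : latImg G 1 M = pPow r M) :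
    IsOrdP (detCoeff (m.extendOfIsLattice 𝕃) G) (r * n) := by
  set bM := m.extendOfIsLattice 𝕃 with hbM
  have hbM_mem : ∀ j, bM j ∈ M := by
    intro j
    rw [hbM, Basis.extendOfIsLattice_apply]; exact (m j).2
  have hx : ∀ j, (G ∘ bM) j ∈ pPow r M := by
    intro j
    rw [← heq]
    simpa using iterate_mem_latImg (F := G) (s := 1) (hbM_mem j)
  obtain ⟨W, hW, -⟩ := exists_toMatrix_eq m _ r hx
  -- preimages of `p^r m_i`
  have hz : ∀ i, ∃ z ∈ M, G z = ((p : 𝕃) ^ r) • bM i := by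
    intro i
    have : ((p : 𝕃) ^ r) • bM i ∈ latImg G 1 M := by
      rw [heq]; exact smul_mem_pPow (hbM_mem i)
    obtain ⟨z, hz, hGz⟩ := mem_latImg.mp this
    exact ⟨z, hz, by simpa using hGz⟩
  choose z hzM hGz using hz
  obtain ⟨Z, hZ, -⟩ := exists_toMatrix_eq m z 0 (fun j => by simpa using hzM j)
  have h1 : bM.toMatrix (G ∘ z) = bM.toMatrix (G ∘ bM) * (bM.toMatrix z).map τ :=
    toMatrix_comp bM bM G z
  have h2 : bM.toMatrix (G ∘ z) = ((p : 𝕃) ^ r) • (1 : Matrix (Fin n) (Fin n) 𝕃) := by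
    ext i j
    rw [Basis.toMatrix_apply, Function.comp_apply, hGz, map_smul, Finsupp.smul_apply,
      Basis.repr_self, Matrix.smul_apply, Matrix.one_apply, Finsupp.single_apply]
    simp [eq_comm]
  have h3 := congrArg Matrix.det h1
  rw [h2, Matrix.det_mul, ← RingHom.mapMatrix_apply, ← RingHom.map_det, det_toMatrix_eq hW,
    det_toMatrix_eq hZ, Matrix.det_smul, Matrix.det_one, Fintype.card_fin, ← zpow_natCast,
    ← zpow_mul] at h3
  obtain ⟨e, he⟩ := (inferInstance : IsWTwist τ).out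
  simp only [zero_mul, zpow_zero, one_mul, mul_one, he] at h3
  rw [mul_assoc, ← map_mul] at h3
  have h4 : algebraMap 𝕎 𝕃 (W.det * e Z.det) = 1 := by
    have hp : (p : 𝕃) ^ (r * n) ≠ 0 := zpow_ne_zero _ p_ne_zero
    exact (mul_left_cancel₀ hp (by rw [mul_one]; exact h3)).symm
  have h5 : W.det * e Z.det = 1 := by
    apply IsFractionRing.injective 𝕎 𝕃
    rw [h4, map_one]
  have hunit : IsUnit W.det := IsUnit.of_mul_eq_one _ h5
  rw [detCoeff_eq, det_toMatrix_eq hW]
  exact isOrdP_of_isUnit hunit _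

/-- If `G M ⊆ p^r M` and `ord det G = r n` then `G M = p^r M`. -/
theorem latImg_eq_of_isOrdP [IsWTwist τ] {G : N →ₛₗ[τ] N} {M : Submodule 𝕎 N}
    [M.IsLattice 𝕃] (m : Basis (Fin n) 𝕎 M) {r : ℤ} (hle : latImg G 1 M ≤ pPow r M)
    (he : IsOrdP (detCoeff (m.extendOfIsLattice 𝕃) G) (r * n)) : latImg G 1 M = pPow r M := by
  set bM := m.extendOfIsLattice 𝕃 with hbM
  have hbM_eq : ∀ j, bM j = (m j : N) := fun j => by
    rw [hbM, Basis.extendOfIsLattice_apply]
  have hGmem : ∀ j, G (m j : N) ∈ latImg G 1 M := fun j => by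
    simpa using iterate_mem_latImg (F := G) (s := 1) (m j).2
  have hx : ∀ j, (G ∘ bM) j ∈ pPow r M := by
    intro j
    apply hle
    rw [Function.comp_apply, hbM_eq]
    exact hGmem j
  obtain ⟨W, hW, hW'⟩ := exists_toMatrix_eq m _ r hx
  have hunit : IsUnit W.det := he.isUnit_of_eq (by rw [detCoeff_eq, det_toMatrix_eq hW])
  obtain ⟨V, hWV⟩ : ∃ V : Matrix (Fin n) (Fin n) 𝕎, W * V = 1 :=
    ⟨W⁻¹, Matrix.mul_nonsing_inv W hunit⟩
  refine le_antisymm hle ?_
  -- `p^r m_i ∈ G M`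
  have hmem : ∀ i, ((p : 𝕃) ^ r) • (m i : N) ∈ latImg G 1 M := by
    intro i
    have : ((p : 𝕃) ^ r) • (m i : N) = ∑ j, V j i • G (m j : N) := by
      have hG : ∀ j, G (m j : N) = ((p : 𝕃) ^ r) • ∑ l, W l j • (m l : N) := fun j => by
        have := hW' j
        rwa [Function.comp_apply, hbM_eq] at this
      have hVW : ∀ l, ∑ j, V j i * W l j = if l = i then 1 else 0 := by
        intro l
        have := congrFun (congrFun hWV l) i
        rw [Matrix.mul_apply, Matrix.one_apply] at this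
        rw [← this]
        exact Finset.sum_congr rfl fun j _ => mul_comm _ _
      calc ((p : 𝕃) ^ r) • (m i : N)
          = ((p : 𝕃) ^ r) • ∑ l, (if l = i then (1 : 𝕎) else 0) • (m l : N) := by
            congr 1
            simp
        _ = ((p : 𝕃) ^ r) • ∑ l, (∑ j, V j i * W l j) • (m l : N) := by
            congr 1
            exact Finset.sum_congr rfl fun l _ => by rw [hVW l]
        _ = ((p : 𝕃) ^ r) • ∑ j, V j i • ∑ l, W l j • (m l : N) := by
            congr 1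
            simp_rw [Finset.sum_smul, Finset.smul_sum, smul_smul]
            exact Finset.sum_comm
        _ = ∑ j, V j i • G (m j : N) := by
            rw [Finset.smul_sum]
            refine Finset.sum_congr rfl fun j _ => ?_
            rw [hG j, smul_comm]
    rw [this]
    exact Submodule.sum_mem _ fun j _ => Submodule.smul_mem _ _ (hGmem j)
  intro y hy
  obtain ⟨y', hy', rfl⟩ := mem_pPow.mp hy
  have : y' = ∑ i, m.repr ⟨y', hy'⟩ i • (m i : N) := by
    have := congrArg (Subtype.val) (m.sum_repr ⟨y', hy'⟩)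
    rw [Submodule.coe_sum] at this
    exact this.symm
  rw [this, Finset.smul_sum]
  refine Submodule.sum_mem _ fun i _ => ?_
  rw [smul_comm]
  exact Submodule.smul_mem _ _ (hmem i)

end Groth.Agent.H8.IsocLib
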