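import Mathlib
import Groth.Prelude.Def_Isoc
import Groth.Agent.Lib.Helper8.Isoc.Ord

/-! The twisted iterate `p^m • F^n`. -/

set_option autoImplicit false
set_option linter.unusedSectionVars false

open scoped Pointwise Isocrystal
open Isoc Filter Topology

universe u v

namespace Groth.Agent.H8.IsocLib

variable {p : ℕ} [Fact p.Prime] {k : Type u} [Field k] [CharP k p] [PerfectRing k p]
variable {N : Type v} [AddCommGroup N] [Module (WittVector p k) N]
  [Module (FractionRing (WittVector p k)) N]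
  [IsScalarTower (WittVector p k) (FractionRing (WittVector p k)) N]
variable {τ : FractionRing (WittVector p k) →+* FractionRing (WittVector p k)}

local notation "𝕎" => WittVector p k
local notation "𝕃" => FractionRing (WittVector p k)

lemma smul_iter_apply (F : N →ₛₗ[τ] N) (m : ℤ) (n : ℕ) (x : N) :
    ((p : 𝕃) ^ m • iter F n) x = ((p : 𝕃) ^ m) • (⇑F)^[n] x := rfl

lemma smul_iter_iterate (F : N →ₛₗ[τ] N) (m : ℤ) (n j : ℕ) (x : N) :
    (⇑((p : 𝕃) ^ m • iter F n))^[j] x = ((p : 𝕃) ^ (m * j)) • (⇑F)^[n * j] x := by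
  induction j with
  | zero => simp
  | succ j ih =>
    rw [Function.iterate_succ_apply', ih, smul_iter_apply, iterate_p_zpow_smul, smul_smul,
      ← zpow_add₀ p_ne_zero, ← Function.iterate_add_apply]
    congr 2
    · push_cast; ring
    · ring

lemma latImg_smul_iter [IsWTwist τ] (F : N →ₛₗ[τ] N) (m : ℤ) (n j : ℕ) (M : Submodule 𝕎 N) :
    latImg ((p : 𝕃) ^ m • iter F n) j M = pPow (m * j) (latImg F (n * j) M) := by
  apply le_antisymm
  · rw [latImg_le_iff]
    intro x hx
    rw [smul_iter_iterate]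
    exact smul_mem_pPow (iterate_mem_latImg hx)
  · intro x hx
    obtain ⟨y, hy, rfl⟩ := mem_pPow.mp hx
    obtain ⟨z, hz, rfl⟩ := mem_latImg.mp hy
    rw [← smul_iter_iterate]
    exact iterate_mem_latImg hz

lemma isOrd_smul_iter_iff [IsWTwist τ] (F : N →ₛₗ[τ] N) (m : ℤ) (n j : ℕ) (M : Submodule 𝕎 N)
    (r : ℤ) : IsOrd M ((p : 𝕃) ^ m • iter F n) j r ↔ IsOrd M F (n * j) (r - m * j) := by
  have key : ∀ r' : ℤ, latImg ((p : 𝕃) ^ m • iter F n) j M ≤ pPow r' M ↔
      latImg F (n * j) M ≤ pPow (r' - m * j) M := by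
    intro r'
    rw [latImg_smul_iter, pPow_le_iff, pPow_pPow]
    have : -(m * (j : ℤ)) + r' = r' - m * j := by ring
    rw [this]
  unfold IsOrd
  rw [key, key]
  have : r + 1 - m * (j : ℤ) = r - m * j + 1 := by ring
  rw [this]

/-- First slope of the twisted iterate. -/
theorem isFirstSlope_smul_iter [IsWTwist τ] {F : N →ₛₗ[τ] N} {lam : ℝ}
    (hlam : IsFirstSlope F lam) (m : ℤ) (n : ℕ) :
    IsFirstSlope ((p : 𝕃) ^ m • iter F n) (n * lam + m) := by
  obtain ⟨M, hM, o, ho, hlim⟩ := hlam
  have hne : M ≠ ⊥ := (ho 1 le_rfl).ne_bot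
  set o' : ℕ → ℤ := fun n => if n = 0 then 0 else o n with ho'def
  have ho' : ∀ n, IsOrd M F n (o' n) := by
    intro n
    by_cases hn : n = 0
    · subst hn; simpa [ho'def] using isOrd_zero F hM.fg hne
    · simpa [ho'def, hn] using ho n (Nat.one_le_iff_ne_zero.mpr hn)
  refine ⟨M, hM, fun j => o' (n * j) + m * j, fun j _ => ?_, ?_⟩
  · rw [isOrd_smul_iter_iff]
    simpa using ho' (n * j)
  · rcases Nat.eq_zero_or_pos n with rfl | hn
    · have : Tendsto (fun j : ℕ => (m : ℝ)) atTop (𝓝 (((0 : ℕ) : ℝ) * lam + m)) := by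
        simp
      refine this.congr' ?_
      filter_upwards [eventually_ge_atTop 1] with j hj
      have hj' : (j : ℝ) ≠ 0 := by positivity
      simp [ho'def, hj']
    · have h1 : Tendsto (fun j : ℕ => n * j) atTop atTop :=
        tendsto_atTop_mono (fun j => Nat.le_mul_of_pos_left j hn) tendsto_id
      have h2 := hlim.comp h1
      have h3 : Tendsto (fun j : ℕ => (n : ℝ) * ((o (n * j) : ℝ) / ((n * j : ℕ) : ℝ)) + m) atTop
          (𝓝 (n * lam + m)) := (h2.const_mul (n : ℝ)).add_const (m : ℝ)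
      refine h3.congr' ?_
      filter_upwards [eventually_ge_atTop 1] with j hj
      have hj' : (j : ℝ) ≠ 0 := by positivity
      have hn' : (n : ℝ) ≠ 0 := by positivity
      have hnj : n * j ≠ 0 := by positivity
      simp only [ho'def, hnj, if_false]
      push_cast
      field_simp

end Groth.Agent.H8.IsocLib
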