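import Mathlib
import Groth.Prelude.Def_Isoc
import Groth.Agent.Lib.Helper8.Isoc.Chain
import Groth.Agent.Lib.Helper8.Isoc.Twist

/-! Effectivity criterion: `F^(h+1) M ⊆ p⁻¹ M` implies `F` is effective. -/

set_option autoImplicit false
set_option linter.unusedSectionVars false

open scoped Pointwise Isocrystal
open Isoc

universe u v w

namespace Groth.Agent.H8.IsocLib

variable {p : ℕ} [Fact p.Prime] {k : Type u} [Field k] [CharP k p] [PerfectRing k p]
variable {N : Type v} [AddCommGroup N] [Module (WittVector p k) N]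
  [Module (FractionRing (WittVector p k)) N]
  [IsScalarTower (WittVector p k) (FractionRing (WittVector p k)) N]
variable {τ : FractionRing (WittVector p k) →+* FractionRing (WittVector p k)}

local notation "𝕎" => WittVector p k
local notation "𝕃" => FractionRing (WittVector p k)

/-- `A + F A + ⋯ + F^n A`. -/
noncomputable def cum (F : N →ₛₗ[τ] N) (A : Submodule 𝕎 N) : ℕ → Submodule 𝕎 N
  | 0 => A
  | (n + 1) => cum F A n ⊔ latImg F (n + 1) A

lemma latImg_le_cum (F : N →ₛₗ[τ] N) (A : Submodule 𝕎 N) {j n : ℕ} (h : j ≤ n) :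
    latImg F j A ≤ cum F A n := by
  induction n with
  | zero =>
    have : j = 0 := by omega
    subst this
    simp [cum]
  | succ n ih =>
    rcases Nat.lt_or_ge j (n + 1) with hlt | hge
    · exact (ih (by omega)).trans le_sup_left
    · have : j = n + 1 := by omega
      subst this
      exact le_sup_right

lemma le_cum (F : N →ₛₗ[τ] N) (A : Submodule 𝕎 N) (n : ℕ) : A ≤ cum F A n := by
  have := latImg_le_cum F A (Nat.zero_le n)
  simpa using this

lemma cum_le {F : N →ₛₗ[τ] N} {A B : Submodule 𝕎 N} {n : ℕ}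
    (h : ∀ j ≤ n, latImg F j A ≤ B) : cum F A n ≤ B := by
  induction n with
  | zero => simpa [cum] using h 0 le_rfl
  | succ n ih =>
    exact sup_le (ih fun j hj => h j (by omega)) (h (n + 1) le_rfl)

lemma cum_mono (F : N →ₛₗ[τ] N) (A : Submodule 𝕎 N) : Monotone (cum F A) :=
  monotone_nat_of_le_succ fun _ => le_sup_left

lemma latImg_cum_le [IsWTwist τ] {F : N →ₛₗ[τ] N} {A B : Submodule 𝕎 N} {i n : ℕ}
    (h : ∀ j ≤ n, latImg F (i + j) A ≤ B) : latImg F i (cum F A n) ≤ B := by
  induction n with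
  | zero => simpa [cum] using h 0 le_rfl
  | succ n ih =>
    rw [cum, latImg_sup]
    refine sup_le (ih fun j hj => h j (by omega)) ?_
    rw [← latImg_add]
    exact h (n + 1) le_rfl

lemma cum_fg [IsWTwist τ] (F : N →ₛₗ[τ] N) {A : Submodule 𝕎 N} (hA : A.FG) (n : ℕ) :
    (cum F A n).FG := by
  induction n with
  | zero => exact hA
  | succ n ih => exact ih.sup (latImg_fg F (n + 1) hA)

lemma isLattice_cum [IsWTwist τ] (F : N →ₛₗ[τ] N) {A : Submodule 𝕎 N} (hA : A.IsLattice 𝕃)
    (n : ℕ) : (cum F A n).IsLattice 𝕃 := by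
  have := hA
  exact Submodule.IsLattice.of_le_of_isLattice_of_fg 𝕃 (le_cum F A n) (cum_fg F hA.fg n)

lemma le_pPow_neg_one (A : Submodule 𝕎 N) : A ≤ pPow (-1) A := by
  have := pPow_anti (r := -1) (r' := 0) (by omega) A
  simpa using this

lemma pPow_one_le (A : Submodule 𝕎 N) : pPow 1 A ≤ A := by
  have := pPow_anti (r := 0) (r' := 1) (by omega) A
  simpa using this

/-- If `F^(h+1) M ⊆ p⁻¹ M` with `h = dim N`, then `F` is effective. -/
theorem isEffective_of_latImg_succ_le [IsWTwist τ] [FiniteDimensional 𝕃 N] {F : N →ₛₗ[τ] N}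
    {h : ℕ} (hh : Module.finrank 𝕃 N = h) {M : Submodule 𝕎 N} (hM : M.IsLattice 𝕃)
    (hFM : latImg F (h + 1) M ≤ pPow (-1) M) : IsEffective F := by
  set C := cum F M h with hC
  -- (a) all iterates up to `2h+1` land in `p⁻¹ C`
  have ha : ∀ t ≤ 2 * h + 1, latImg F t M ≤ pPow (-1) C := by
    intro t ht
    rcases Nat.lt_or_ge t (h + 1) with hlt | hge
    · exact (latImg_le_cum F M (by omega)).trans (le_pPow_neg_one C)
    · obtain ⟨u, rfl⟩ : ∃ u, t = u + (h + 1) := ⟨t - (h + 1), by omega⟩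
      rw [latImg_add]
      calc latImg F u (latImg F (h + 1) M) ≤ latImg F u (pPow (-1) M) := latImg_mono hFM
        _ = pPow (-1) (latImg F u M) := latImg_pPow _ _ _ _
        _ ≤ pPow (-1) C := pPow_mono (latImg_le_cum F M (by omega))
  set Ms : Submodule 𝕎 N := M ⊔ pPow 1 C with hMs
  have hMsfg : Ms.FG := hM.fg.sup (pPow_fg (cum_fg F hM.fg h) 1)
  have hMsL : Ms.IsLattice 𝕃 := by
    have := hM
    exact Submodule.IsLattice.of_le_of_isLattice_of_fg 𝕃 le_sup_left hMsfg
  have hMs' : pPow (-1) Ms = pPow (-1) M ⊔ C := by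
    rw [hMs, pPow_sup, pPow_pPow]; simp
  -- (∗)
  have hstar : ∀ i, i ≤ h + 1 → latImg F i Ms ≤ pPow (-1) Ms := by
    intro i hi
    rw [hMs, latImg_sup, latImg_pPow, ← hMs]
    refine sup_le ?_ ?_
    · rcases Nat.lt_or_ge i (h + 1) with hlt | hge
      · rw [hMs']
        exact (latImg_le_cum F M (by omega)).trans le_sup_right
      · have : i = h + 1 := by omega
        subst this
        rw [hMs']
        exact hFM.trans le_sup_left
    · have h1 : latImg F i C ≤ pPow (-1) C :=
        latImg_cum_le fun j hj => ha (i + j) (by omega)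
      calc pPow 1 (latImg F i C) ≤ pPow 1 (pPow (-1) C) := pPow_mono h1
        _ = C := by rw [pPow_pPow]; simp
        _ ≤ pPow (-1) Ms := by rw [hMs']; exact le_sup_right
  -- the chain
  have hchain := exists_eq_succ_of_chain hMsL hh (fun i => pPow 1 (cum F Ms i))
    (fun i j hij => pPow_mono (cum_mono F Ms hij)) (by simp [cum]) (by
      have : cum F Ms (h + 1) ≤ pPow (-1) Ms := cum_le fun j hj => hstar j hj
      calc pPow 1 (cum F Ms (h + 1)) ≤ pPow 1 (pPow (-1) Ms) := pPow_mono this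
        _ = Ms := by rw [pPow_pPow]; simp)
  obtain ⟨i, _, hi⟩ := hchain
  have hi' : cum F Ms i = cum F Ms (i + 1) :=
    le_antisymm (pPow_le_pPow_iff.mp hi.le) (pPow_le_pPow_iff.mp hi.ge)
  refine ⟨cum F Ms i, isLattice_cum F hMsL i, ?_⟩
  have : latImg F 1 (cum F Ms i) ≤ cum F Ms (i + 1) :=
    latImg_cum_le fun j hj => latImg_le_cum F Ms (by omega)
  rwa [← hi'] at this

end Groth.Agent.H8.IsocLib
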