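import Mathlib
import Groth.Prelude.Def_Isoc
import Groth.Agent.Lib.Helper8.Isoc.Effective

/-! Consequences of the effectivity criterion for the first slope. -/

set_option autoImplicit false
set_option linter.unusedSectionVars false

open scoped Pointwise Isocrystal
open Isoc Filter Topology

universe u v w

namespace Groth.Agent.H8.IsocLib

variable {p : ℕ} [Fact p.Prime] {k : Type u} [Field k] [CharP k p] [PerfectRing k p]
variable {N : Type v} [AddCommGroup N] [Module (WittVector p k) N]
  [Module (FractionRing (WittVector p k)) N]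
  [IsScalarTower (WittVector p k) (FractionRing (WittVector p k)) N]
variable {τ : FractionRing (WittVector p k) →+* FractionRing (WittVector p k)}

local notation "𝕎" => WittVector p k
local notation "𝕃" => FractionRing (WittVector p k)

/-- Positive first slope implies effective. -/
theorem isEffective_of_firstSlope_pos [IsWTwist τ] {G : N →ₛₗ[τ] N} {lam : ℝ}
    (hlam : IsFirstSlope G lam) (hpos : 0 < lam) : IsEffective G := by
  obtain ⟨M, hM, o, ho, hlim⟩ := hlam
  have hev : ∀ᶠ n : ℕ in atTop, 0 < (o n : ℝ) / n := hlim.eventually (lt_mem_nhds hpos)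
  obtain ⟨n, hn, hn1⟩ := (hev.and (eventually_ge_atTop 1)).exists
  have hn' : (0 : ℝ) < n := by exact_mod_cast hn1
  have hon : 0 ≤ o n := by
    have : 0 < (o n : ℝ) := by
      rcases (div_pos_iff.mp hn) with h | h
      · exact h.1
      · linarith [h.2]
    have : 0 < o n := by exact_mod_cast this
    omega
  obtain ⟨n', rfl⟩ : ∃ n', n = n' + 1 := ⟨n - 1, by omega⟩
  refine ⟨cum G M n', isLattice_cum G hM n', ?_⟩
  apply latImg_cum_le
  intro j hj
  rcases Nat.lt_or_ge j n' with hlt | hge
  · exact latImg_le_cum G M (by omega)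
  · have : j = n' := by omega
    subst this
    rw [add_comm]
    calc latImg G (j + 1) M ≤ pPow (o (j + 1)) M := (ho _ hn1).1
      _ ≤ pPow 0 M := pPow_anti hon M
      _ = M := pPow_zero M
      _ ≤ cum G M j := le_cum G M j

/-- Nonnegative first slope implies effective. -/
theorem isEffective_of_firstSlope_nonneg [IsWTwist τ] [FiniteDimensional 𝕃 N] {G : N →ₛₗ[τ] N}
    {lam : ℝ} (hlam : IsFirstSlope G lam) (hpos : 0 ≤ lam) : IsEffective G := by
  set h := Module.finrank 𝕃 N with hh
  have h1 := isFirstSlope_smul_iter hlam 1 (h + 1)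
  have h2 : (0 : ℝ) < ((h + 1 : ℕ) : ℝ) * lam + ((1 : ℤ) : ℝ) := by
    have : (0 : ℝ) ≤ ((h + 1 : ℕ) : ℝ) * lam := by positivity
    push_cast at this ⊢
    linarith
  obtain ⟨M, hM, hle⟩ := isEffective_of_firstSlope_pos h1 h2
  rw [latImg_smul_iter, pPow_le_iff] at hle
  refine isEffective_of_latImg_succ_le hh.symm hM ?_
  simpa using hle

/-- If `r / s ≤ λ₁` then some lattice has `F^s M ⊆ p^r M`. -/
theorem exists_lattice_of_le_firstSlope [IsWTwist τ] [FiniteDimensional 𝕃 N] {F : N →ₛₗ[τ] N}
    {lam : ℝ} (hlam : IsFirstSlope F lam) (r : ℤ) (s : ℕ) (hs : 0 < s)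
    (hrs : (r : ℝ) / s ≤ lam) :
    ∃ M : Submodule 𝕎 N, M.IsLattice 𝕃 ∧ latImg F s M ≤ pPow r M := by
  have h1 := isFirstSlope_smul_iter hlam (-r) s
  have hs' : (0 : ℝ) < s := by exact_mod_cast hs
  have h2 : (0 : ℝ) ≤ (s : ℝ) * lam + ((-r : ℤ) : ℝ) := by
    rw [div_le_iff₀ hs'] at hrs
    push_cast
    linarith
  obtain ⟨M, hM, hle⟩ := isEffective_of_firstSlope_nonneg h1 h2
  refine ⟨M, hM, ?_⟩
  rw [latImg_smul_iter, pPow_le_iff] at hle
  simpa using hle

end Groth.Agent.H8.IsocLib
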