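import Mathlib
import Groth.Prelude.Def_Isoc
import Groth.Agent.Lib.Helper8.Isoc.Det
import Groth.Agent.Lib.Helper8.Isoc.Slope

/-! Orders of determinants versus orders on lattices; the isoclinic case. -/

set_option autoImplicit false
set_option linter.unusedSectionVars false

open scoped Pointwise Isocrystal
open Isoc Module Filter Topology

universe u v w

namespace Groth.Agent.H8.IsocLib

variable {p : ℕ} [Fact p.Prime] {k : Type u} [Field k] [CharP k p] [PerfectRing k p]
variable {N : Type v} [AddCommGroup N] [Module (WittVector p k) N]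
  [Module (FractionRing (WittVector p k)) N]
  [IsScalarTower (WittVector p k) (FractionRing (WittVector p k)) N]
variable {τ : FractionRing (WittVector p k) →+* FractionRing (WittVector p k)}

local notation "𝕎" => WittVector p k
local notation "𝕃" => FractionRing (WittVector p k)

lemma latImg_iter_one (F : N →ₛₗ[τ] N) (n : ℕ) (M : Submodule 𝕎 N) :
    latImg (iter F n) 1 M = latImg F n M := by
  simp [latImg]

lemma finrank_eq_of_basis {h : ℕ} (b : Basis (Fin h) 𝕃 N) : Module.finrank 𝕃 N = h := by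
  rw [Module.finrank_eq_card_basis b, Fintype.card_fin]

theorem mul_le_mul_of_latImg_le [IsWTwist τ] {F : N →ₛₗ[τ] N} {h : ℕ} (b : Basis (Fin h) 𝕃 N)
    {d : ℤ} (hd : IsOrdP (detCoeff b F) d) {M : Submodule 𝕎 N} (hM : M.IsLattice 𝕃) {n : ℕ}
    {rn : ℤ} (hle : latImg F n M ≤ pPow rn M) : rn * h ≤ n * d := by
  have := hM
  have : FiniteDimensional 𝕃 N := Module.Finite.of_basis b
  let m := Module.finBasisOfFinrankEq 𝕎 M ((finrank_lattice hM).trans (finrank_eq_of_basis b))
  have h1 := isOrdP_detCoeff_iter _ F (isOrdP_detCoeff_change b (m.extendOfIsLattice 𝕃) F hd) n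
  exact mul_le_of_latImg_le m (by rw [latImg_iter_one]; exact hle) h1

theorem mul_eq_mul_of_latImg_eq [IsWTwist τ] {F : N →ₛₗ[τ] N} {h : ℕ} (b : Basis (Fin h) 𝕃 N)
    {d : ℤ} (hd : IsOrdP (detCoeff b F) d) {M : Submodule 𝕎 N} (hM : M.IsLattice 𝕃) {s : ℕ}
    {r : ℤ} (heq : latImg F s M = pPow r M) : r * h = s * d := by
  have := hM
  have : FiniteDimensional 𝕃 N := Module.Finite.of_basis b
  let m := Module.finBasisOfFinrankEq 𝕎 M ((finrank_lattice hM).trans (finrank_eq_of_basis b))
  have h1 := isOrdP_detCoeff_iter _ F (isOrdP_detCoeff_change b (m.extendOfIsLattice 𝕃) F hd) s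
  have h2 := isOrdP_detCoeff_of_latImg_eq (G := iter F s) m (by rw [latImg_iter_one]; exact heq)
  exact h2.unique h1

theorem latImg_eq_of_mul_eq [IsWTwist τ] {F : N →ₛₗ[τ] N} {h : ℕ} (b : Basis (Fin h) 𝕃 N)
    {d : ℤ} (hd : IsOrdP (detCoeff b F) d) {M : Submodule 𝕎 N} (hM : M.IsLattice 𝕃) {s : ℕ}
    {r : ℤ} (hle : latImg F s M ≤ pPow r M) (hrs : r * h = s * d) :
    latImg F s M = pPow r M := by
  have := hM
  have : FiniteDimensional 𝕃 N := Module.Finite.of_basis b
  let m := Module.finBasisOfFinrankEq 𝕎 M ((finrank_lattice hM).trans (finrank_eq_of_basis b))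
  have h1 := isOrdP_detCoeff_iter _ F (isOrdP_detCoeff_change b (m.extendOfIsLattice 𝕃) F hd) s
  rw [← hrs] at h1
  have := latImg_eq_of_isOrdP (G := iter F s) m (by rw [latImg_iter_one]; exact hle) h1
  rwa [latImg_iter_one] at this

/-- If `F^s M = p^r M` on a non-zero space then the first slope is `r / s`. -/
theorem isFirstSlope_of_latImg_eq [IsWTwist τ] [Nontrivial N] {F : N →ₛₗ[τ] N}
    (hF : Function.Bijective F) {M : Submodule 𝕎 N} (hM : M.IsLattice 𝕃) {s : ℕ} (hs : 0 < s)
    {r : ℤ} (heq : latImg F s M = pPow r M) : IsFirstSlope F ((r : ℝ) / s) := by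
  have hne : M ≠ ⊥ := ne_bot_of_isLattice hM
  choose o ho using fun n : ℕ => exists_isOrd hF hM hne n
  obtain ⟨lam, hlam⟩ := exists_tendsto_of_isOrd hF.surjective hM o (fun n _ => ho n)
  refine ⟨M, hM, o, fun n _ => ho n, ?_⟩
  have hsub : ∀ j : ℕ, o (s * j) = r * j := by
    intro j
    apply (ho (s * j)).unique
    refine ⟨(latImg_mul_eq heq j).le, ?_⟩
    rw [latImg_mul_eq heq j, pPow_le_pPow_self_iff hM.fg hne]
    omega
  have h1 : Tendsto (fun j : ℕ => s * j) atTop atTop :=
    tendsto_atTop_mono (fun j => Nat.le_mul_of_pos_left j hs) tendsto_id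
  have h2 := hlam.comp h1
  have h3 : Tendsto (fun j : ℕ => (r : ℝ) / s) atTop (𝓝 lam) := by
    refine h2.congr' ?_
    filter_upwards [eventually_ge_atTop 1] with j hj
    have hj' : (j : ℝ) ≠ 0 := by positivity
    have hs' : (s : ℝ) ≠ 0 := by positivity
    simp only [Function.comp_apply, hsub]
    push_cast
    field_simp
  have := tendsto_nhds_unique h3 tendsto_const_nhds
  rw [← this]
  exact hlam

end Groth.Agent.H8.IsocLib
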