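import Mathlib
import Groth.Prelude.Def_Isoc
import Groth.Agent.Lib.Helper8.Isoc.DetSlope

/-! Rationality of the first slope. -/

set_option autoImplicit false
set_option linter.unusedSectionVars false

open scoped Pointwise Isocrystal
open Isoc Module Filter Topology

universe u v w

namespace Groth.Agent.H8.IsocLib

variable {p : ℕ} [Fact p.Prime] {k : Type u} [Field k] [CharP k p] [PerfectRing k p]
variable {N : Type v} [AddCommGroup N] [Module (WittVector p k) N]
  [Module (FractionRing (WittVector p k)) N]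
  [IsScalarTower (WittVector p k) (FractionRing (WittVector p k)) N]
variable {τ : FractionRing (WittVector p k) →+* FractionRing (WittVector p k)}

local notation "𝕎" => WittVector p k
local notation "𝕃" => FractionRing (WittVector p k)

lemma smul_iter_bijective {F : N →ₛₗ[τ] N} (hF : Function.Bijective F) (m : ℤ) (n : ℕ) :
    Function.Bijective ((p : 𝕃) ^ m • iter F n) := by
  have h1 : Function.Bijective ((⇑F)^[n]) := hF.iterate n
  have hp : (p : 𝕃) ^ m ≠ 0 := zpow_ne_zero _ p_ne_zero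
  constructor
  · intro x y hxy
    rw [smul_iter_apply, smul_iter_apply] at hxy
    exact h1.1 (smul_right_injective N hp hxy)
  · intro y
    obtain ⟨x, hx⟩ := h1.2 (((p : 𝕃) ^ m)⁻¹ • y)
    exact ⟨x, by rw [smul_iter_apply, hx, smul_smul, mul_inv_cancel₀ hp, one_smul]⟩

/-- A bound `F^n M ⊆ p^c M` bounds the first slope from below. -/
lemma div_le_of_latImg_le [IsWTwist τ] {G : N →ₛₗ[τ] N} {M : Submodule 𝕎 N} {o : ℕ → ℤ}
    (ho : ∀ n : ℕ, 1 ≤ n → IsOrd M G n (o n)) {L : ℝ}
    (hL : Tendsto (fun n : ℕ => (o n : ℝ) / n) atTop (𝓝 L)) {n : ℕ} (hn : 1 ≤ n) {c : ℤ}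
    (hle : latImg G n M ≤ pPow c M) : (c : ℝ) / n ≤ L := by
  have h1 : Tendsto (fun j : ℕ => n * j) atTop atTop :=
    tendsto_atTop_mono (fun j => Nat.le_mul_of_pos_left j hn) tendsto_id
  have h2 := hL.comp h1
  refine ge_of_tendsto h2 ?_
  filter_upwards [eventually_ge_atTop 1] with j hj
  have hnj : 1 ≤ n * j := Nat.one_le_iff_ne_zero.mpr (by positivity)
  have h3 : c * j ≤ o (n * j) := (ho _ hnj).le_iff.mp (latImg_mul_le hle j)
  have hj' : (0 : ℝ) < j := by exact_mod_cast hj
  have hn' : (0 : ℝ) < n := by exact_mod_cast hn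
  simp only [Function.comp_apply]
  rw [div_le_div_iff₀ hn' (by push_cast; positivity)]
  have h4 : ((c * j : ℤ) : ℝ) ≤ (o (n * j) : ℝ) := by exact_mod_cast h3
  push_cast at h4 ⊢
  nlinarith

/-- The first slope can be computed on any lattice. -/
lemma exists_ord_tendsto_of_isFirstSlope [IsWTwist τ] {G : N →ₛₗ[τ] N}
    (hG : Function.Bijective G) {lam : ℝ} (hlam : IsFirstSlope G lam) {M : Submodule 𝕎 N}
    (hM : M.IsLattice 𝕃) :
    ∃ o : ℕ → ℤ, (∀ n : ℕ, IsOrd M G n (o n)) ∧
      Tendsto (fun n : ℕ => (o n : ℝ) / n) atTop (𝓝 lam) := by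
  obtain ⟨M₀, hM₀, o₀, ho₀, hlim₀⟩ := hlam
  have hne₀ : M₀ ≠ ⊥ := (ho₀ 1 le_rfl).ne_bot
  have : Nontrivial N := by
    by_contra hcon
    rw [not_nontrivial_iff_subsingleton] at hcon
    exact hne₀ (Subsingleton.elim _ _)
  have hne : M ≠ ⊥ := ne_bot_of_isLattice hM
  choose o ho using fun n : ℕ => exists_isOrd hG hM hne n
  obtain ⟨L, hL⟩ := exists_tendsto_of_isOrd hG.surjective hM o (fun n _ => ho n)
  have := tendsto_unique_of_isOrd hM hM₀ o o₀ (fun n _ => ho n) ho₀ L lam hL hlim₀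
  exact ⟨o, ho, this ▸ hL⟩

/-- For an effective lattice the images `G^n M + p M` stabilise from `n = dim N` on. -/
lemma latImg_sup_stable [IsWTwist τ] [FiniteDimensional 𝕃 N] {G : N →ₛₗ[τ] N} {h : ℕ}
    (hh : Module.finrank 𝕃 N = h) {M : Submodule 𝕎 N} (hM : M.IsLattice 𝕃)
    (hGM : latImg G 1 M ≤ M) {n : ℕ} (hn : h ≤ n) :
    latImg G n M ⊔ pPow 1 M = latImg G h M ⊔ pPow 1 M := by
  set V : ℕ → Submodule 𝕎 N := fun i => latImg G i M ⊔ pPow 1 M with hV
  have hanti : Antitone V := by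
    apply antitone_nat_of_succ_le
    intro i
    refine sup_le_sup_right ?_ _
    rw [latImg_add]
    exact latImg_mono hGM
  have hstep : ∀ i, V (i + 1) = latImg G 1 (V i) ⊔ pPow 1 M := by
    intro i
    simp only [hV]
    rw [latImg_sup, ← latImg_add, latImg_pPow, sup_assoc, add_comm 1 i]
    congr 1
    exact (sup_eq_right.mpr (pPow_mono hGM)).symm
  obtain ⟨i, hi, hVi⟩ := exists_eq_succ_of_chain hM hh (fun i => V (h + 1 - i))
    (fun i j hij => hanti (by omega)) le_sup_right (by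
      simp only [hV, Nat.sub_self, latImg_zero]
      exact sup_le le_rfl (pPow_one_le M))
  -- `V t = V (t + 1)` for `t = h - i`
  obtain ⟨t, ht, hVt⟩ : ∃ t ≤ h, V t = V (t + 1) := by
    refine ⟨h - i, by omega, ?_⟩
    have e1 : h + 1 - i = h - i + 1 := by omega
    have e2 : h + 1 - (i + 1) = h - i := by omega
    rw [e1, e2] at hVi
    exact hVi.symm
  have hconst : ∀ j, V (t + j) = V t := by
    intro j
    induction j with
    | zero => rfl
    | succ j ih =>
      have : V (t + j + 1) = V (t + j) := by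
        rw [hstep, ih, ← hstep, ← hVt]
      rw [← add_assoc, this, ih]
  have e1 : V n = V t := by
    obtain ⟨j, rfl⟩ : ∃ j, n = t + j := ⟨n - t, by omega⟩
    exact hconst j
  have e2 : V h = V t := by
    obtain ⟨j, hj⟩ : ∃ j, h = t + j := ⟨h - t, by omega⟩
    rw [hj]; exact hconst j
  show V n = V h
  rw [e1, e2]

/-- Rationality of the first slope, with a lattice realising it. -/
theorem exists_rational_slope [IsWTwist τ] {F : N →ₛₗ[τ] N} (hF : Function.Bijective F) {h : ℕ}
    (b : Basis (Fin h) 𝕃 N) {d : ℤ} (hd : IsOrdP (detCoeff b F) d) {lam : ℝ}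
    (hlam : IsFirstSlope F lam) :
    ∃ (r : ℤ) (s : ℕ) (M : Submodule 𝕎 N), 0 < s ∧ s ≤ h ∧ lam = (r : ℝ) / s ∧
      M.IsLattice 𝕃 ∧ IsOrd M F s r ∧ r * h ≤ s * d := by
  have hfd : FiniteDimensional 𝕃 N := Module.Finite.of_basis b
  have hfr : Module.finrank 𝕃 N = h := finrank_eq_of_basis b
  have hh : 0 < h := by
    rcases Nat.eq_zero_or_pos h with rfl | hpos
    · exfalso
      obtain ⟨M, hM, o, ho, -⟩ := hlam
      apply (ho 1 le_rfl).ne_bot
      have : Subsingleton N := Module.finrank_zero_iff.mp hfr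
      exact Subsingleton.elim _ _
    · exact hpos
  obtain ⟨r, k', hk0, hkh, habs⟩ := Real.exists_int_int_abs_mul_sub_le lam hh
  obtain ⟨s, rfl⟩ := Int.eq_ofNat_of_zero_le hk0.le
  have hs : 0 < s := by exact_mod_cast hk0
  have hsh : s ≤ h := by exact_mod_cast hkh
  have hs' : (0 : ℝ) < s := by exact_mod_cast hs
  have hh' : (0 : ℝ) < h := by exact_mod_cast hh
  set F' := (p : 𝕃) ^ (-r) • iter F s with hF'def
  have hF' : Function.Bijective F' := smul_iter_bijective hF (-r) s
  set lam' : ℝ := (s : ℝ) * lam + ((-r : ℤ) : ℝ) with hlam'def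
  have hlam' : IsFirstSlope F' lam' := isFirstSlope_smul_iter hlam (-r) s
  have habs' : |lam'| ≤ 1 / ((h : ℝ) + 1) := by
    have : lam' = ((s : ℤ) : ℝ) * lam - (r : ℝ) := by
      rw [hlam'def]; push_cast; ring
    rw [this]; exact habs
  have hlo : -(1 / ((h : ℝ) + 1)) ≤ lam' := (abs_le.mp habs').1
  have hhi : lam' ≤ 1 / ((h : ℝ) + 1) := (abs_le.mp habs').2
  -- an effective lattice for `F'`
  obtain ⟨M, hM, hFM⟩ : IsEffective F' := by
    have h1 := isFirstSlope_smul_iter hlam' 1 (h + 1)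
    have h2 : (0 : ℝ) ≤ ((h + 1 : ℕ) : ℝ) * lam' + ((1 : ℤ) : ℝ) := by
      have h3 : (0 : ℝ) < (h : ℝ) + 1 := by positivity
      have : ((h : ℝ) + 1) * -(1 / ((h : ℝ) + 1)) ≤ ((h : ℝ) + 1) * lam' :=
        mul_le_mul_of_nonneg_left hlo h3.le
      have h4 : ((h : ℝ) + 1) * -(1 / ((h : ℝ) + 1)) = -1 := by field_simp
      push_cast
      linarith
    obtain ⟨M₁, hM₁, hle⟩ := isEffective_of_firstSlope_nonneg h1 h2
    rw [latImg_smul_iter, pPow_le_iff] at hle
    exact isEffective_of_latImg_succ_le hfr hM₁ (by simpa using hle)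
  obtain ⟨o, ho, hlim⟩ := exists_ord_tendsto_of_isFirstSlope hF' hlam' hM
  have ho' : ∀ n : ℕ, 1 ≤ n → IsOrd M F' n (o n) := fun n _ => ho n
  -- `lam' ≥ 0`
  have hge : 0 ≤ lam' := by
    have := div_le_of_latImg_le ho' hlim le_rfl (c := 0) (by simpa using hFM)
    simpa using this
  -- `lam' ≤ 0`
  have hle0 : lam' ≤ 0 := by
    by_contra hpos
    push Not at hpos
    have hev : ∀ᶠ n : ℕ in atTop, 0 < (o n : ℝ) / n := hlim.eventually (lt_mem_nhds hpos)
    obtain ⟨n, hn, hnh⟩ := (hev.and (eventually_ge_atTop h)).exists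
    have hn1 : 1 ≤ n := by omega
    have hn' : (0 : ℝ) < n := by exact_mod_cast hn1
    have hon : 1 ≤ o n := by
      have : 0 < (o n : ℝ) := by
        rcases (div_pos_iff.mp hn) with h' | h'
        · exact h'.1
        · linarith [h'.2]
      have : 0 < o n := by exact_mod_cast this
      omega
    have h1 : latImg F' n M ≤ pPow 1 M := (ho n).le_iff.mpr hon
    have h2 := latImg_sup_stable hfr hM hFM hnh
    rw [sup_eq_right.mpr h1] at h2
    have h3 : latImg F' h M ≤ pPow 1 M := by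
      rw [h2]; exact le_sup_left
    have h4 := div_le_of_latImg_le ho' hlim hh h3
    have h5 : 1 / ((h : ℝ) + 1) < 1 / (h : ℝ) := by
      apply one_div_lt_one_div_of_lt hh'; linarith
    push_cast at h4
    linarith
  have hzero : lam' = 0 := le_antisymm hle0 hge
  have hord : IsOrd M F' 1 0 := by
    refine ⟨by simpa using hFM, fun hcon => ?_⟩
    have := div_le_of_latImg_le ho' hlim le_rfl hcon
    rw [hzero] at this
    norm_num at this
  have hord' : IsOrd M F s r := by
    have := (isOrd_smul_iter_iff F (-r) s 1 M 0).mp hord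
    simpa using this
  refine ⟨r, s, M, hs, hsh, ?_, hM, hord', mul_le_mul_of_latImg_le b hd hM hord'.1⟩
  rw [hlam'def] at hzero
  push_cast at hzero
  field_simp
  linarith

end Groth.Agent.H8.IsocLib
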