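import Mathlib
import Groth.Prelude.Def_Isoc
import Groth.Agent.Lib.Helper8.Isoc.Complete
import Groth.Agent.Lib.Helper8.Isoc.Rational

/-! Fitting decomposition of an effective lattice under a bijective semilinear map. -/

set_option autoImplicit false
set_option linter.unusedSectionVars false

open scoped Pointwise Isocrystal
open Isoc Module

universe u v w

namespace Groth.Agent.H8.IsocLib

variable {p : ℕ} [Fact p.Prime] {k : Type u} [Field k] [CharP k p] [PerfectRing k p]
variable {N : Type v} [AddCommGroup N] [Module (WittVector p k) N]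
  [Module (FractionRing (WittVector p k)) N]
  [IsScalarTower (WittVector p k) (FractionRing (WittVector p k)) N]
variable {τ : FractionRing (WittVector p k) →+* FractionRing (WittVector p k)}

local notation "𝕎" => WittVector p k
local notation "𝕃" => FractionRing (WittVector p k)

lemma exists_seq_of_step {α : Type*} (P : ℕ → α → Prop) (R : ℕ → α → α → Prop) (a₀ : α)
    (h₀ : P 0 a₀) (hstep : ∀ i a, P i a → ∃ a', P (i + 1) a' ∧ R i a a') :
    ∃ f : ℕ → α, f 0 = a₀ ∧ (∀ i, P i (f i)) ∧ ∀ i, R i (f i) (f (i + 1)) := by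
  choose! g hg using hstep
  let f : ℕ → α := fun i => Nat.rec a₀ (fun i a => g i a) i
  have hP : ∀ i, P i (f i) := by
    intro i
    induction i with
    | zero => exact h₀
    | succ i ih => exact (hg i (f i) ih).1
  exact ⟨f, rfl, hP, fun i => (hg i (f i) (hP i)).2⟩

lemma latImg_antitone [IsWTwist τ] {T : N →ₛₗ[τ] N} {M : Submodule 𝕎 N}
    (hTM : latImg T 1 M ≤ M) : Antitone (fun n => latImg T n M) := by
  apply antitone_nat_of_succ_le
  intro n
  rw [latImg_add]
  exact latImg_mono hTM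

lemma latImg_le_self [IsWTwist τ] {T : N →ₛₗ[τ] N} {M : Submodule 𝕎 N}
    (hTM : latImg T 1 M ≤ M) (n : ℕ) : latImg T n M ≤ M := by
  have := latImg_antitone hTM (Nat.zero_le n)
  simpa using this

/-- Level `j` stabilisation of the images. -/
lemma latImg_mul_le_sup [IsWTwist τ] [FiniteDimensional 𝕃 N] {T : N →ₛₗ[τ] N} {h : ℕ}
    (hh : Module.finrank 𝕃 N = h) {M : Submodule 𝕎 N} (hM : M.IsLattice 𝕃)
    (hTM : latImg T 1 M ≤ M) (j : ℕ) :
    ∀ n, j * h ≤ n → latImg T (j * h) M ≤ latImg T n M ⊔ pPow (j : ℤ) M := by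
  induction j with
  | zero =>
    intro n _
    simp
  | succ j ih =>
    intro n hn
    have hn' : h ≤ n := by nlinarith
    have e1 : (j + 1) * h = h + j * h := by ring
    have e2 : h + (n - h) = n := by omega
    have hIH := ih (n - h) (by
      have : (j + 1) * h = j * h + h := by ring
      omega)
    have hA1 : latImg T h M ≤ latImg T n M ⊔ pPow 1 M := by
      have := latImg_sup_stable hh hM hTM hn'
      rw [this]
      exact le_sup_left
    calc latImg T ((j + 1) * h) M = latImg T h (latImg T (j * h) M) := by rw [e1, latImg_add]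
      _ ≤ latImg T h (latImg T (n - h) M ⊔ pPow (j : ℤ) M) := latImg_mono hIH
      _ = latImg T n M ⊔ pPow (j : ℤ) (latImg T h M) := by
          rw [latImg_sup, ← latImg_add, e2, latImg_pPow]
      _ ≤ latImg T n M ⊔ pPow (j : ℤ) (latImg T n M ⊔ pPow 1 M) :=
          sup_le_sup_left (pPow_mono hA1) _
      _ = latImg T n M ⊔ (pPow (j : ℤ) (latImg T n M) ⊔ pPow ((j : ℤ) + 1) M) := by
          rw [pPow_sup, pPow_pPow]
      _ ≤ latImg T n M ⊔ pPow (((j + 1 : ℕ) : ℤ)) M := by
          refine sup_le le_sup_left (sup_le ?_ ?_)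
          · refine le_trans ?_ le_sup_left
            have := pPow_anti (r := 0) (r' := (j : ℤ)) (by omega) (latImg T n M)
            simpa using this
          · push_cast
            exact le_sup_right

/-- The stable image `⋂ T^n M`. -/
noncomputable def stableImg (T : N →ₛₗ[τ] N) (M : Submodule 𝕎 N) : Submodule 𝕎 N :=
  ⨅ n : ℕ, latImg T n M

lemma mem_stableImg {T : N →ₛₗ[τ] N} {M : Submodule 𝕎 N} {x : N} :
    x ∈ stableImg T M ↔ ∀ n, x ∈ latImg T n M := Submodule.mem_iInf _

lemma stableImg_le (T : N →ₛₗ[τ] N) (M : Submodule 𝕎 N) : stableImg T M ≤ M := by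
  refine (iInf_le _ 0).trans ?_
  simp

lemma stableImg_le_latImg (T : N →ₛₗ[τ] N) (M : Submodule 𝕎 N) (n : ℕ) :
    stableImg T M ≤ latImg T n M := iInf_le _ n

/-- `T` maps the stable image onto itself. -/
lemma latImg_stableImg [IsWTwist τ] {T : N →ₛₗ[τ] N} (hT : Function.Injective T)
    {M : Submodule 𝕎 N} (hTM : latImg T 1 M ≤ M) :
    latImg T 1 (stableImg T M) = stableImg T M := by
  apply le_antisymm
  · rw [latImg_le_iff]
    intro x hx
    rw [mem_stableImg] at hx ⊢
    intro n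
    have h1 : (⇑T)^[1] x ∈ latImg T 1 (latImg T n M) := iterate_mem_latImg (hx n)
    rw [← latImg_add] at h1
    exact latImg_antitone hTM (by omega : n ≤ 1 + n) h1
  · intro y hy
    rw [mem_stableImg] at hy
    obtain ⟨x, hxM, hxy⟩ := mem_latImg.mp (hy 1)
    refine mem_latImg.mpr ⟨x, ?_, hxy⟩
    rw [mem_stableImg]
    intro n
    have h1 := hy (1 + n)
    rw [latImg_add] at h1
    obtain ⟨x', hx', hxy'⟩ := mem_latImg.mp h1
    have : x = x' := by
      simp only [Function.iterate_one] at hxy hxy'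
      exact hT (hxy.trans hxy'.symm)
    rw [this]
    exact hx'

lemma closed_aux [IsWTwist τ] {T : N →ₛₗ[τ] N} (hT : Function.Surjective T)
    {M : Submodule 𝕎 N} (hM : M.IsLattice 𝕃) (hTM : latImg T 1 M ≤ M) {c : ℤ} {y : N}
    {x : ℕ → N} {g : ℕ → ℕ} (hg : ∀ i, i ≤ g i) (hx : ∀ i, x i ∈ latImg T (g i) M)
    (hy : ∀ i : ℕ, y - x i ∈ pPow (c + i) M) : y ∈ stableImg T M := by
  rw [mem_stableImg]
  intro n
  obtain ⟨c', hc'⟩ := exists_pPow_le hM.fg (isLattice_latImg hT n hM).span_eq_top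
  set i := max n (c' - c).toNat with hi
  have h1 : x i ∈ latImg T n M :=
    latImg_antitone hTM ((le_max_left _ _).trans (hg i)) (hx i)
  have h2 : y - x i ∈ latImg T n M := by
    apply hc'
    refine pPow_anti ?_ M (hy i)
    have : (c' - c).toNat ≤ i := le_max_right _ _
    have := Int.self_le_toNat (c' - c)
    omega
  have : y = x i + (y - x i) := by abel
  rw [this]
  exact Submodule.add_mem _ h1 h2

/-- `T^(j h) M ⊆ B + p^j M` for the stable image `B`. -/
lemma latImg_le_stableImg_sup [IsWTwist τ] [FiniteDimensional 𝕃 N] {T : N →ₛₗ[τ] N}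
    (hT : Function.Surjective T) {h : ℕ} (hh : Module.finrank 𝕃 N = h) (hpos : 0 < h)
    {M : Submodule 𝕎 N} (hM : M.IsLattice 𝕃) (hTM : latImg T 1 M ≤ M) (j : ℕ) :
    latImg T (j * h) M ≤ stableImg T M ⊔ pPow (j : ℤ) M := by
  intro x hx
  obtain ⟨f, hf0, hfP, hfR⟩ := exists_seq_of_step
    (fun i y => y ∈ latImg T ((j + i) * h) M) (fun i y y' => y' - y ∈ pPow ((j : ℤ) + i) M) x
    (by simpa using hx) (by
      intro i y hy
      have := latImg_mul_le_sup hh hM hTM (j + i) ((j + (i + 1)) * h) (by nlinarith) hy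
      obtain ⟨y', hy', z, hz, hyz⟩ := Submodule.mem_sup.mp this
      refine ⟨y', hy', ?_⟩
      have : y' - y = -z := by rw [← hyz]; abel
      rw [this]
      push_cast at hz
      exact Submodule.neg_mem _ hz)
  obtain ⟨y, hy⟩ := exists_limit hM f (j : ℤ) hfR
  have hyB : y ∈ stableImg T M :=
    closed_aux hT hM hTM (g := fun i => (j + i) * h) (fun i => by nlinarith) hfP hy
  have h0 := hy 0
  rw [hf0] at h0
  have : x = y + -(y - x) := by abel
  rw [this]
  refine Submodule.add_mem_sup hyB (Submodule.neg_mem _ ?_)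
  simpa using h0

/-- Splitting: every element of `M` is congruent to an element of the stable image modulo the
topologically nilpotent part. -/
lemma exists_stableImg_sub [IsWTwist τ] [FiniteDimensional 𝕃 N] {T : N →ₛₗ[τ] N}
    (hT : Function.Bijective T) {h : ℕ} (hh : Module.finrank 𝕃 N = h) (hpos : 0 < h)
    {M : Submodule 𝕎 N} (hM : M.IsLattice 𝕃) (hTM : latImg T 1 M ≤ M) {x : N} (hx : x ∈ M) :
    ∃ b ∈ stableImg T M, ∀ i : ℕ, (⇑T)^[i * h] (x - b) ∈ pPow (i : ℤ) M := by
  set B := stableImg T M with hB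
  have hBB : ∀ n, latImg T n B = B := by
    intro n
    have h0 : latImg T 1 B = pPow 0 B := by
      rw [pPow_zero]; exact latImg_stableImg hT.injective hTM
    have := latImg_mul_eq h0 n
    simpa using this
  have hC3 : latImg T h M ≤ B ⊔ pPow 1 M := by
    have := latImg_le_stableImg_sup hT.surjective hh hpos hM hTM 1
    simpa using this
  obtain ⟨f, hf0, hfP, hfR⟩ := exists_seq_of_step
    (fun i b => b ∈ B ∧ (⇑T)^[i * h] (x - b) ∈ pPow (i : ℤ) M)
    (fun i b b' => b' - b ∈ pPow ((0 : ℤ) + i) M) 0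
    ⟨Submodule.zero_mem _, by simpa using hx⟩ (by
      rintro i b ⟨hbB, hb⟩
      obtain ⟨y, hyM, hy⟩ := mem_pPow.mp hb
      have h1 : (⇑T)^[h] y ∈ B ⊔ pPow 1 M := hC3 (iterate_mem_latImg hyM)
      obtain ⟨β, hβ, z, hz, hβz⟩ := Submodule.mem_sup.mp h1
      have h2 : β ∈ latImg T ((i + 1) * h) B := by rw [hBB]; exact hβ
      obtain ⟨β', hβ'B, hβ'⟩ := mem_latImg.mp h2
      have hsm : ((p : 𝕃) ^ (i : ℤ)) • β' ∈ B := by
        rw [zpow_natCast_smul]; exact B.smul_mem _ hβ'B
      refine ⟨b + ((p : 𝕃) ^ (i : ℤ)) • β', ⟨B.add_mem hbB hsm, ?_⟩, ?_⟩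
      · have e1 : (i + 1) * h = h + i * h := by ring
        have h3 : (⇑T)^[(i + 1) * h] (x - (b + ((p : 𝕃) ^ (i : ℤ)) • β')) =
            ((p : 𝕃) ^ (i : ℤ)) • z := by
          have hsub : x - (b + ((p : 𝕃) ^ (i : ℤ)) • β') = (x - b) - ((p : 𝕃) ^ (i : ℤ)) • β' := by
            abel
          have hadd : (⇑T)^[(i + 1) * h] ((x - b) - ((p : 𝕃) ^ (i : ℤ)) • β') =
              (⇑T)^[(i + 1) * h] (x - b) - (⇑T)^[(i + 1) * h] (((p : 𝕃) ^ (i : ℤ)) • β') :=
            map_sub (iter T ((i + 1) * h)) _ _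
          rw [hsub, hadd, iterate_p_zpow_smul, hβ', e1, Function.iterate_add_apply, ← hy,
            iterate_p_zpow_smul, ← smul_sub, ← hβz]
          congr 1
          abel
        rw [h3]
        obtain ⟨z', hz', rfl⟩ := mem_pPow.mp hz
        rw [smul_smul, ← zpow_add₀ p_ne_zero]
        push_cast
        exact smul_mem_pPow hz'
      · have : b + ((p : 𝕃) ^ (i : ℤ)) • β' - b = ((p : 𝕃) ^ (i : ℤ)) • β' := by abel
        rw [this, zero_add]
        exact smul_mem_pPow (stableImg_le T M hβ'B))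
  obtain ⟨b, hb⟩ := exists_limit hM f 0 hfR
  have hbB : b ∈ B := by
    refine closed_aux hT.surjective hM hTM (g := fun i => i) (fun i => le_rfl)
      (fun i => stableImg_le_latImg T M i (hfP i).1) hb
  refine ⟨b, hbB, fun i => ?_⟩
  have e : x - b = (x - f i) - (b - f i) := by abel
  have hadd : (⇑T)^[i * h] ((x - f i) - (b - f i)) =
      (⇑T)^[i * h] (x - f i) - (⇑T)^[i * h] (b - f i) := map_sub (iter T (i * h)) _ _
  rw [e, hadd]
  refine Submodule.sub_mem _ (hfP i).2 ?_
  have h1 : (⇑T)^[i * h] (b - f i) ∈ latImg T (i * h) (pPow (i : ℤ) M) :=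
    iterate_mem_latImg (by simpa using hb i)
  rw [latImg_pPow] at h1
  exact pPow_mono (latImg_le_self hTM _) h1

end Groth.Agent.H8.IsocLib
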