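import Mathlib
import Groth.Prelude.Def_Isoc
import Groth.Agent.Lib.Helper8.Isoc.Isoclinic

/-! Isoclinic isocrystals: sub-objects, quotients, the slope part. -/

set_option autoImplicit false
set_option linter.unusedSectionVars false

open scoped Pointwise Isocrystal
open Isoc Filter Topology

universe u v w

namespace Groth.Agent.H8.IsocLib

variable {p : ℕ} [Fact p.Prime] {k : Type u} [Field k] [CharP k p] [PerfectRing k p]
variable {N : Type v} [AddCommGroup N] [Module (WittVector p k) N]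
  [Module (FractionRing (WittVector p k)) N]
  [IsScalarTower (WittVector p k) (FractionRing (WittVector p k)) N]
variable {τ : FractionRing (WittVector p k) →+* FractionRing (WittVector p k)}

local notation "𝕎" => WittVector p k
local notation "𝕃" => FractionRing (WittVector p k)

/-- Quotients of isoclinic isocrystals are isoclinic of the same slope. -/
theorem isIsoclinic_mapQ {F : N →ₛₗ[τ] N} {μ : ℚ} (hμ : IsIsoclinic F μ) (P : Submodule 𝕃 N)
    (hP : P ≤ P.comap F) : IsIsoclinic (P.mapQ P F hP) μ := by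
  obtain ⟨M, hM, r, s, hs, hrs, hFM⟩ := hμ
  refine ⟨M.map (P.mkQ.restrictScalars 𝕎), ⟨hM.fg.map _, ?_⟩, r, s, hs, hrs, ?_⟩
  · have : ((M.map (P.mkQ.restrictScalars 𝕎) : Submodule 𝕎 (N ⧸ P)) : Set (N ⧸ P)) =
        P.mkQ '' (M : Set N) := rfl
    rw [this, Submodule.span_image, hM.span_eq_top, Submodule.map_top, Submodule.range_mkQ]
  · rw [← map_latImg P.mkQ (fun x => rfl), hFM, map_pPow]

/-- The ambient form of "the restriction of `F` to `P` is isoclinic of slope `μ`". -/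
def IsoclinicOn (F : N →ₛₗ[τ] N) (P : Submodule 𝕃 N) (μ : ℚ) : Prop :=
  ∃ M : Submodule 𝕎 N, M.FG ∧ Submodule.span 𝕃 (M : Set N) = P ∧
    ∃ (r : ℤ) (s : ℕ), 0 < s ∧ (r : ℚ) / s = μ ∧ latImg F s M = pPow r M

lemma isIsoclinic_iff_top {F : N →ₛₗ[τ] N} {μ : ℚ} : IsIsoclinic F μ ↔ IsoclinicOn F ⊤ μ :=
  ⟨fun ⟨M, hM, h⟩ => ⟨M, hM.fg, hM.span_eq_top, h⟩,
    fun ⟨M, hfg, hspan, h⟩ => ⟨M, ⟨hfg, hspan⟩, h⟩⟩

lemma isIsoclinic_restrict_iff {F : N →ₛₗ[τ] N} {P : Submodule 𝕃 N} (hP : ∀ x ∈ P, F x ∈ P)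
    {μ : ℚ} : IsIsoclinic (F.restrict hP) μ ↔ IsoclinicOn F P μ := by
  have hf : ∀ x : P, P.subtype ((F.restrict hP) x) = F (P.subtype x) := fun x => rfl
  have hinj : Function.Injective (P.subtype.restrictScalars 𝕎) := P.injective_subtype
  constructor
  · rintro ⟨M', hM', r, s, hs, hrs, hFM⟩
    refine ⟨M'.map (P.subtype.restrictScalars 𝕎), hM'.fg.map _, ?_, r, s, hs, hrs, ?_⟩
    · have : ((M'.map (P.subtype.restrictScalars 𝕎) : Submodule 𝕎 N) : Set N) =
          P.subtype '' (M' : Set P) := rfl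
      rw [this, Submodule.span_image, hM'.span_eq_top, Submodule.map_top, Submodule.range_subtype]
    · rw [← map_latImg P.subtype hf, hFM, map_pPow]
  · rintro ⟨M, hfg, hspan, r, s, hs, hrs, hFM⟩
    have hMP : M ≤ P.restrictScalars 𝕎 := by
      intro m hm
      have : m ∈ Submodule.span 𝕃 (M : Set N) := Submodule.subset_span hm
      rw [hspan] at this
      exact this
    have hmap : (M.comap (P.subtype.restrictScalars 𝕎)).map (P.subtype.restrictScalars 𝕎) = M := by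
      rw [Submodule.map_comap_eq]
      apply inf_eq_right.mpr
      intro m hm
      exact ⟨⟨m, hMP hm⟩, rfl⟩
    refine ⟨M.comap (P.subtype.restrictScalars 𝕎), ⟨?_, ?_⟩, r, s, hs, hrs, ?_⟩
    · exact Submodule.fg_of_fg_map_injective _ hinj (by rw [hmap]; exact hfg)
    · apply Submodule.map_injective_of_injective (f := P.subtype) P.injective_subtype
      rw [Submodule.map_span, Submodule.map_top, Submodule.range_subtype]
      have : P.subtype '' ((M.comap (P.subtype.restrictScalars 𝕎) : Submodule 𝕎 P) : Set P) =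
          (((M.comap (P.subtype.restrictScalars 𝕎)).map (P.subtype.restrictScalars 𝕎) :
            Submodule 𝕎 N) : Set N) := rfl
      rw [this, hmap, hspan]
    · apply Submodule.map_injective_of_injective (f := P.subtype.restrictScalars 𝕎) hinj
      rw [map_latImg P.subtype hf, map_pPow, hmap, hFM]

/-- Sub-isocrystals of isoclinic isocrystals are isoclinic of the same slope (ambient form). -/
theorem isoclinicOn_of_top [IsWTwist τ] [FiniteDimensional 𝕃 N] {F : N →ₛₗ[τ] N}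
    (hF : Function.Injective F) {μ : ℚ} (hμ : IsoclinicOn F ⊤ μ) {P : Submodule 𝕃 N}
    (hP : ∀ x ∈ P, F x ∈ P) : IsoclinicOn F P μ := by
  obtain ⟨M, hfg, hspan, r, s, hs, hrs, hFM⟩ := hμ
  have hiterP : ∀ (n : ℕ), ∀ x ∈ P, (⇑F)^[n] x ∈ P := by
    intro n x hx
    induction n with
    | zero => exact hx
    | succ n ih => rw [Function.iterate_succ_apply']; exact hP _ ih
  have hsurj : Function.Surjective (F.restrict hP) :=
    surjective_of_injective _ (fun x y hxy => Subtype.ext (hF (congrArg Subtype.val hxy)))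
  have hval : ∀ x : P, (((⇑(F.restrict hP))^[s] x : P) : N) = (⇑F)^[s] (x : N) := fun x =>
    Function.Semiconj.iterate_right (f := (Subtype.val : P → N)) (ga := F.restrict hP) (gb := F)
      (fun x => rfl) s x
  refine ⟨M ⊓ P.restrictScalars 𝕎, fg_of_le_fg inf_le_left hfg, ?_, r, s, hs, hrs, ?_⟩
  · apply le_antisymm
    · rw [Submodule.span_le]
      intro x hx
      exact hx.2
    · intro x hx
      have hx' : x ∈ Submodule.span 𝕃 (M : Set N) := by rw [hspan]; trivial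
      obtain ⟨c, hc⟩ := exists_mem_pPow_neg_of_mem_span hx'
      rw [mem_pPow', neg_neg] at hc
      have hy : ((p : 𝕃) ^ (c : ℤ)) • x ∈ M ⊓ P.restrictScalars 𝕎 :=
        ⟨hc, P.smul_mem _ hx⟩
      have : x = ((p : 𝕃) ^ (-(c : ℤ))) • (((p : 𝕃) ^ (c : ℤ)) • x) := by
        rw [smul_smul, ← zpow_add₀ p_ne_zero]; simp
      rw [this]
      exact Submodule.smul_mem _ _ (Submodule.subset_span hy)
  · apply le_antisymm
    · rw [latImg_le_iff]
      intro m hm
      rw [mem_pPow']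
      refine ⟨?_, P.smul_mem _ (hiterP s m hm.2)⟩
      have : (⇑F)^[s] m ∈ pPow r M := hFM ▸ iterate_mem_latImg hm.1
      exact mem_pPow'.mp this
    · intro y hy
      rw [mem_pPow'] at hy
      have hyM : y ∈ latImg F s M := by rw [hFM, mem_pPow']; exact hy.1
      have hyP : y ∈ P := by
        have : y = ((p : 𝕃) ^ r) • (((p : 𝕃) ^ (-r)) • y) := by
          rw [smul_smul, ← zpow_add₀ p_ne_zero]; simp
        rw [this]
        exact P.smul_mem _ hy.2
      obtain ⟨x, hxM, hxy⟩ := mem_latImg.mp hyM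
      obtain ⟨x', hx'⟩ := hsurj.iterate s ⟨y, hyP⟩
      have h1 : (⇑F)^[s] (x' : N) = y := by rw [← hval, hx']
      have h2 : x = x' := hF.iterate s (hxy.trans h1.symm)
      rw [← hxy]
      exact iterate_mem_latImg ⟨hxM, h2 ▸ x'.2⟩

theorem isIsoclinic_restrict [IsWTwist τ] [FiniteDimensional 𝕃 N] {F : N →ₛₗ[τ] N}
    (hF : Function.Injective F) {μ : ℚ} (hμ : IsIsoclinic F μ) {P : Submodule 𝕃 N}
    (hP : ∀ x ∈ P, F x ∈ P) : IsIsoclinic (F.restrict hP) μ :=
  (isIsoclinic_restrict_iff hP).mpr (isoclinicOn_of_top hF (isIsoclinic_iff_top.mp hμ) hP)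

lemma isoclinicOn_bot (F : N →ₛₗ[τ] N) (μ : ℚ) : IsoclinicOn F ⊥ μ := by
  refine ⟨⊥, Submodule.fg_bot, by simp, μ.num, μ.den, μ.den_pos, ?_, ?_⟩
  · exact_mod_cast Rat.num_div_den μ
  · rw [latImg_bot, pPow_bot]

lemma span_sup (M₁ M₂ : Submodule 𝕎 N) :
    Submodule.span 𝕃 ((M₁ ⊔ M₂ : Submodule 𝕎 N) : Set N) =
      Submodule.span 𝕃 (M₁ : Set N) ⊔ Submodule.span 𝕃 (M₂ : Set N) := by
  apply le_antisymm
  · rw [Submodule.span_le]
    intro x hx
    obtain ⟨a, ha, b, hb, rfl⟩ := Submodule.mem_sup.mp hx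
    exact Submodule.add_mem_sup (Submodule.subset_span ha) (Submodule.subset_span hb)
  · exact sup_le (Submodule.span_mono (le_sup_left (a := M₁) (b := M₂)))
      (Submodule.span_mono (le_sup_right (a := M₁) (b := M₂)))

lemma isoclinicOn_sup [IsWTwist τ] {F : N →ₛₗ[τ] N} {μ : ℚ} {P₁ P₂ : Submodule 𝕃 N}
    (h₁ : IsoclinicOn F P₁ μ) (h₂ : IsoclinicOn F P₂ μ) : IsoclinicOn F (P₁ ⊔ P₂) μ := by
  obtain ⟨M₁, hfg₁, hspan₁, r₁, s₁, hs₁, hrs₁, hFM₁⟩ := h₁
  obtain ⟨M₂, hfg₂, hspan₂, r₂, s₂, hs₂, hrs₂, hFM₂⟩ := h₂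
  have hs₁' : (0 : ℚ) < s₁ := by exact_mod_cast hs₁
  have hs₂' : (0 : ℚ) < s₂ := by exact_mod_cast hs₂
  have hR : r₁ * s₂ = r₂ * s₁ := by
    have : (r₁ : ℚ) / s₁ = r₂ / s₂ := by rw [hrs₁, hrs₂]
    rw [div_eq_div_iff hs₁'.ne' hs₂'.ne'] at this
    exact_mod_cast this
  refine ⟨M₁ ⊔ M₂, hfg₁.sup hfg₂, by rw [span_sup, hspan₁, hspan₂], r₁ * s₂, s₁ * s₂,
    Nat.mul_pos hs₁ hs₂, ?_, ?_⟩
  · rw [← hrs₁]
    push_cast
    field_simp
  · rw [latImg_sup, pPow_sup, latImg_mul_eq hFM₁ s₂, mul_comm s₁ s₂, latImg_mul_eq hFM₂ s₁, hR]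

/-- The slope part is `F`-stable and isoclinic. -/
theorem slopePart_isIsoclinic [IsWTwist τ] [FiniteDimensional 𝕃 N] (F : N →ₛₗ[τ] N) (μ : ℚ) :
    ∃ hP : ∀ x ∈ slopePart F μ, F x ∈ slopePart F μ, IsIsoclinic (F.restrict hP) μ := by
  set S : Set (Submodule 𝕃 N) :=
    {P : Submodule 𝕃 N | ∃ hP : ∀ x ∈ P, F x ∈ P, IsIsoclinic (F.restrict hP) μ} with hS
  have hne : S.Nonempty := ⟨⊥, by
    refine ⟨fun x hx => ?_, ?_⟩
    · rw [Submodule.mem_bot] at hx; subst hx; simp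
    · exact (isIsoclinic_restrict_iff _).mpr (isoclinicOn_bot F μ)⟩
  have hsup : SupClosed S := by
    rintro P₁ ⟨hP₁, h₁⟩ P₂ ⟨hP₂, h₂⟩
    have hP : ∀ x ∈ P₁ ⊔ P₂, F x ∈ P₁ ⊔ P₂ := by
      intro x hx
      obtain ⟨a, ha, b, hb, rfl⟩ := Submodule.mem_sup.mp hx
      rw [map_add]
      exact Submodule.add_mem_sup (hP₁ a ha) (hP₂ b hb)
    exact ⟨hP, (isIsoclinic_restrict_iff hP).mpr
      (isoclinicOn_sup ((isIsoclinic_restrict_iff hP₁).mp h₁) ((isIsoclinic_restrict_iff hP₂).mp h₂))⟩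
  have hwf : WellFoundedGT (Submodule 𝕃 N) := inferInstance
  exact CompleteLattice.WellFoundedGT.isSupClosedCompact _ hwf S hne hsup

end Groth.Agent.H8.IsocLib
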