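import Mathlib
import Groth.Prelude.Def_Isoc
import Groth.Agent.Lib.Helper8.Isoc.DetSlope
import Groth.Agent.Lib.Helper8.Isoc.SubQuot

/-! The standard isocrystals are isoclinic and simple. -/

set_option autoImplicit false
set_option linter.unusedSectionVars false

open scoped Pointwise Isocrystal
open Isoc Module

universe u v w

namespace Groth.Agent.H8.IsocLib

variable {p : ℕ} [Fact p.Prime] {k : Type u} [Field k] [CharP k p] [PerfectRing k p]
variable {N : Type v} [AddCommGroup N] [Module (WittVector p k) N]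
  [Module (FractionRing (WittVector p k)) N]
  [IsScalarTower (WittVector p k) (FractionRing (WittVector p k)) N]
variable {τ : FractionRing (WittVector p k) →+* FractionRing (WittVector p k)}

local notation "𝕎" => WittVector p k
local notation "𝕃" => FractionRing (WittVector p k)

lemma latImg_span_eq [IsWTwist τ] (F : N →ₛₗ[τ] N) (s : ℕ) (S : Set N) :
    latImg F s (Submodule.span 𝕎 S) = Submodule.span 𝕎 ((⇑F)^[s] '' S) := by
  obtain ⟨e, he⟩ := exists_map_wsmul (N := N) (τ ^ s)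
  apply le_antisymm
  · rw [latImg_le_iff]
    intro m hm
    induction hm using Submodule.span_induction with
    | mem x hx => exact Submodule.subset_span ⟨x, hx, rfl⟩
    | zero =>
      have : (⇑F)^[s] 0 = 0 := map_zero (iter F s)
      rw [this]; exact Submodule.zero_mem _
    | add x y _ _ hx hy =>
      have : (⇑F)^[s] (x + y) = (⇑F)^[s] x + (⇑F)^[s] y := map_add (iter F s) x y
      rw [this]; exact Submodule.add_mem _ hx hy
    | smul w x _ hx =>
      have : (⇑F)^[s] (w • x) = e w • (⇑F)^[s] x := he (iter F s) w x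
      rw [this]; exact Submodule.smul_mem _ _ hx
  · rw [Submodule.span_le]
    rintro _ ⟨x, hx, rfl⟩
    exact iterate_mem_latImg (Submodule.subset_span hx)

lemma pPow_span_eq (r : ℤ) (S : Set N) :
    pPow r (Submodule.span 𝕎 S) = Submodule.span 𝕎 ((fun x => ((p : 𝕃) ^ r) • x) '' S) :=
  Submodule.map_span (DistribSMul.toLinearMap 𝕎 N ((p : 𝕃) ^ r)) S

/-- The slope of a non-zero isoclinic isocrystal is `orddet / height`. -/
theorem exists_slope_eq_div_finrank [IsWTwist τ] [FiniteDimensional 𝕃 N] [Nontrivial N]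
    {G : N →ₛₗ[τ] N} {μ : ℚ} (hμ : IsIsoclinic G μ) :
    ∃ d' : ℤ, μ = (d' : ℚ) / (Module.finrank 𝕃 N : ℚ) := by
  obtain ⟨M, hM, r, s, hs, hrs, heq⟩ := hμ
  have := hM
  set n := Module.finrank 𝕃 N with hn
  have hn0 : 0 < n := Module.finrank_pos
  let m := Module.finBasisOfFinrankEq 𝕎 M (finrank_lattice hM)
  set bM := m.extendOfIsLattice 𝕃 with hbM
  have h2 := isOrdP_detCoeff_of_latImg_eq (G := iter G s) m (by rw [latImg_iter_one]; exact heq)
  have hne : detCoeff bM G ≠ 0 := by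
    intro h0
    obtain ⟨s', rfl⟩ : ∃ s', s = s' + 1 := ⟨s - 1, by omega⟩
    apply h2.ne_zero
    rw [detCoeff_iter_succ, h0, zero_mul]
  obtain ⟨d', hd'⟩ := exists_isOrdP hne
  have h3 := mul_eq_mul_of_latImg_eq bM hd' hM heq
  refine ⟨d', ?_⟩
  rw [← hrs]
  have hs' : (s : ℚ) ≠ 0 := by positivity
  have hn' : (n : ℚ) ≠ 0 := by positivity
  rw [div_eq_div_iff hs' hn']
  have h3' : (r : ℚ) * (n : ℚ) = (s : ℚ) * (d' : ℚ) := by exact_mod_cast h3
  linarith

section Std

variable (τ) (d : ℤ) (h' : ℕ)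

/-- The basis vector at position `v mod h`. -/
noncomputable def stdE (v : ℕ) : Fin (h' + 1) → 𝕃 :=
  Pi.single (⟨v % (h' + 1), Nat.mod_lt _ (Nat.succ_pos _)⟩ : Fin (h' + 1)) 1

lemma stdIsoc_stdE (v : ℕ) :
    stdIsoc τ d (h' + 1) (stdE (p := p) (k := k) h' v) =
      (if (v + 1) % (h' + 1) = 0 then (p : 𝕃) ^ d else 1) • stdE h' (v + 1) := by
  have key : finRotate (h' + 1) ⟨v % (h' + 1), Nat.mod_lt _ (Nat.succ_pos _)⟩ =
      ⟨(v + 1) % (h' + 1), Nat.mod_lt _ (Nat.succ_pos _)⟩ := by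
    rw [finRotate_apply]
    ext
    simp [Fin.val_add, Nat.add_mod]
  ext i
  rw [stdIsoc_apply, Pi.smul_apply, smul_eq_mul]
  unfold stdE
  by_cases hi : i = ⟨(v + 1) % (h' + 1), Nat.mod_lt _ (Nat.succ_pos _)⟩
  · have h1 : (finRotate (h' + 1)).symm i = ⟨v % (h' + 1), Nat.mod_lt _ (Nat.succ_pos _)⟩ := by
      rw [hi, ← key, Equiv.symm_apply_apply]
    rw [h1, Pi.single_eq_same, map_one, hi, Pi.single_eq_same]
  · have h1 : (finRotate (h' + 1)).symm i ≠ ⟨v % (h' + 1), Nat.mod_lt _ (Nat.succ_pos _)⟩ := by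
      intro hcon
      apply hi
      rw [← key, ← hcon, Equiv.apply_symm_apply]
    rw [Pi.single_eq_of_ne h1, map_zero, Pi.single_eq_of_ne hi, mul_zero, mul_zero]

lemma stdIsoc_iterate_stdE (n v : ℕ) :
    (⇑(stdIsoc τ d (h' + 1)))^[n] (stdE (p := p) (k := k) h' v) =
      ((p : 𝕃) ^ (d * (((v + n) / (h' + 1) : ℕ) - (v / (h' + 1) : ℕ)))) • stdE h' (v + n) := by
  induction n with
  | zero => simp
  | succ n ih =>
    rw [Function.iterate_succ_apply', ih, map_p_zpow_smul, stdIsoc_stdE, smul_smul]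
    have hdiv := Nat.succ_div (a := v + n) (b := h' + 1)
    have hiff : (h' + 1 ∣ v + n + 1) ↔ (v + n + 1) % (h' + 1) = 0 := Nat.dvd_iff_mod_eq_zero
    congr 1
    rw [← add_assoc, hdiv]
    by_cases hc : (v + n + 1) % (h' + 1) = 0
    · rw [if_pos hc, if_pos (hiff.mpr hc), ← zpow_add₀ p_ne_zero]
      congr 1
      push_cast; ring
    · rw [if_neg hc, if_neg (fun h => hc (hiff.mp h)), mul_one, add_zero]

lemma stdIsoc_iterate_single (i : Fin (h' + 1)) :
    (⇑(stdIsoc τ d (h' + 1)))^[h' + 1] (Pi.single i (1 : 𝕃)) =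
      ((p : 𝕃) ^ d) • Pi.single i (1 : 𝕃) := by
  have h1 : stdE (p := p) (k := k) h' i.val = Pi.single i 1 := by
    unfold stdE
    congr 1
    ext
    simp [Nat.mod_eq_of_lt i.isLt]
  have h2 : stdE (p := p) (k := k) h' (i.val + (h' + 1)) = Pi.single i 1 := by
    unfold stdE
    congr 1
    ext
    simp [Nat.mod_eq_of_lt i.isLt]
  have := stdIsoc_iterate_stdE (p := p) (k := k) τ d h' (h' + 1) i.val
  rw [h1, h2] at this
  rw [this]
  congr 2
  have e1 : (i.val + (h' + 1)) / (h' + 1) = 1 := by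
    rw [Nat.add_div_right _ (Nat.succ_pos _), Nat.div_eq_of_lt i.isLt]
  have e2 : i.val / (h' + 1) = 0 := Nat.div_eq_of_lt i.isLt
  rw [e1, e2]
  simp

/-- The standard lattice. -/
noncomputable def stdLattice : Submodule 𝕎 (Fin (h' + 1) → 𝕃) :=
  Submodule.span 𝕎 (Set.range fun i : Fin (h' + 1) => (Pi.single i (1 : 𝕃) : Fin (h' + 1) → 𝕃))

lemma isLattice_stdLattice : (stdLattice (p := p) (k := k) h').IsLattice 𝕃 := by
  refine ⟨Submodule.fg_span (Set.finite_range _), ?_⟩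
  unfold stdLattice
  rw [Submodule.span_span_of_tower]
  have : (fun i : Fin (h' + 1) => (Pi.single i (1 : 𝕃) : Fin (h' + 1) → 𝕃)) =
      ⇑(Pi.basisFun 𝕃 (Fin (h' + 1))) := by
    funext i
    rw [Pi.basisFun_apply]
  rw [this]
  exact (Pi.basisFun 𝕃 (Fin (h' + 1))).span_eq

lemma latImg_stdLattice [IsWTwist τ] :
    latImg (stdIsoc τ d (h' + 1)) (h' + 1) (stdLattice (p := p) (k := k) h') =
      pPow d (stdLattice h') := by
  unfold stdLattice
  rw [latImg_span_eq, pPow_span_eq, ← Set.range_comp, ← Set.range_comp]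
  congr 2
  funext i
  exact stdIsoc_iterate_single τ d h' i

lemma stdIsoc_injective : Function.Injective (stdIsoc (p := p) (k := k) τ d (h' + 1)) := by
  intro x y hxy
  funext i
  have := congrFun hxy (finRotate (h' + 1) i)
  rw [stdIsoc_apply, stdIsoc_apply, Equiv.symm_apply_apply] at this
  have hc : (if (finRotate (h' + 1) i).val = 0 then (p : 𝕃) ^ d else 1) ≠ 0 := by
    split_ifs
    · exact zpow_ne_zero _ p_ne_zero
    · exact one_ne_zero
  exact τ.injective (mul_left_cancel₀ hc this)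

theorem isIsoclinic_stdIsoc [IsWTwist τ] :
    IsIsoclinic (stdIsoc (p := p) (k := k) τ d (h' + 1)) ((d : ℚ) / ((h' + 1 : ℕ) : ℚ)) :=
  ⟨stdLattice h', isLattice_stdLattice h', d, h' + 1, Nat.succ_pos _, rfl,
    latImg_stdLattice τ d h'⟩

/-- The standard isocrystal `N_{d/h}` with `gcd(d, h) = 1` is simple. -/
theorem stdIsoc_simple [IsWTwist τ] (hdh : Int.gcd d ((h' + 1 : ℕ) : ℤ) = 1)
    (P : Submodule 𝕃 (Fin (h' + 1) → 𝕃))
    (hP : ∀ x ∈ P, stdIsoc τ d (h' + 1) x ∈ P) : P = ⊥ ∨ P = ⊤ := by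
  by_cases hbot : P = ⊥
  · exact Or.inl hbot
  right
  have hnt : Nontrivial P := Submodule.nontrivial_iff_ne_bot.mpr hbot
  have hiso := isIsoclinic_restrict (stdIsoc_injective τ d h') (isIsoclinic_stdIsoc τ d h') hP
  obtain ⟨d', hd'⟩ := exists_slope_eq_div_finrank hiso
  set n := Module.finrank 𝕃 P with hn
  have hn0 : 0 < n := Module.finrank_pos
  have hnle : n ≤ h' + 1 := by
    have := Submodule.finrank_le P
    simpa using this
  have hq : (d : ℚ) * n = d' * ((h' + 1 : ℕ) : ℚ) := by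
    have h1 : ((h' + 1 : ℕ) : ℚ) ≠ 0 := by positivity
    have h2 : (n : ℚ) ≠ 0 := by positivity
    rwa [div_eq_div_iff h1 h2] at hd'
  have hz : d * (n : ℤ) = d' * ((h' + 1 : ℕ) : ℤ) := by exact_mod_cast hq
  have hdvd : ((h' + 1 : ℕ) : ℤ) ∣ d * (n : ℤ) := ⟨d', by rw [hz]; ring⟩
  have hcop : IsCoprime ((h' + 1 : ℕ) : ℤ) d := by
    rw [Int.isCoprime_iff_gcd_eq_one, Int.gcd_comm]; exact hdh
  have hdvd' : ((h' + 1 : ℕ) : ℤ) ∣ (n : ℤ) := hcop.dvd_of_dvd_mul_left hdvd
  have hdvd'' : (h' + 1) ∣ n := by exact_mod_cast hdvd'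
  have hle : h' + 1 ≤ n := Nat.le_of_dvd hn0 hdvd''
  apply Submodule.eq_top_of_finrank_eq
  rw [← hn]
  simp
  omega

end Std

end Groth.Agent.H8.IsocLib
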