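import Mathlib
import Groth.Prelude.Def_Isoc
import Groth.Agent.Lib.Helper8.Isoc.Fitting
import Groth.Agent.Lib.Helper8.Isoc.Std

/-! Peeling off the part of smallest slope. -/

set_option autoImplicit false
set_option linter.unusedSectionVars false

open scoped Pointwise Isocrystal
open Isoc Module Filter Topology

universe u v w

namespace Groth.Agent.H8.IsocLib

variable {p : ℕ} [Fact p.Prime] {k : Type u} [Field k] [CharP k p] [PerfectRing k p]
variable {N : Type v} [AddCommGroup N] [Module (WittVector p k) N]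
  [Module (FractionRing (WittVector p k)) N]
  [IsScalarTower (WittVector p k) (FractionRing (WittVector p k)) N]
variable {τ : FractionRing (WittVector p k) →+* FractionRing (WittVector p k)}

local notation "𝕎" => WittVector p k
local notation "𝕃" => FractionRing (WittVector p k)

/-- Iterates of `τ` do not increase denominators. -/
lemma exists_bound_twist [IsWTwist τ] (l : 𝕃) :
    ∃ c : ℕ, ∀ n : ℕ, ∃ w : 𝕎, (p : 𝕃) ^ (c : ℤ) * (τ ^ n) l = algebraMap 𝕎 𝕃 w := by
  obtain ⟨c, w, hw⟩ := exists_p_pow_mul_eq l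
  refine ⟨c, fun n => ?_⟩
  obtain ⟨e, he⟩ := (inferInstance : IsWTwist (τ ^ n)).out
  refine ⟨e w, ?_⟩
  rw [← he, ← hw, map_mul, map_p_zpow]

lemma iterate_mem_pPow_of_le [IsWTwist τ] {T : N →ₛₗ[τ] N} {M : Submodule 𝕎 N}
    (hTM : latImg T 1 M ≤ M) {j : ℤ} {x : N} (hx : x ∈ pPow j M) (n : ℕ) :
    (⇑T)^[n] x ∈ pPow j M := by
  have h1 : (⇑T)^[n] x ∈ latImg T n (pPow j M) := iterate_mem_latImg hx
  rw [latImg_pPow] at h1
  exact pPow_mono (latImg_le_self hTM n) h1

/-- The topologically nilpotent part `{x | T^n x → 0}`. -/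
noncomputable def nilSpace [IsWTwist τ] (T : N →ₛₗ[τ] N) (M : Submodule 𝕎 N) : Submodule 𝕃 N where
  carrier := {x | ∀ j : ℤ, ∃ n₀ : ℕ, ∀ n ≥ n₀, (⇑T)^[n] x ∈ pPow j M}
  zero_mem' := by
    intro j
    refine ⟨0, fun n _ => ?_⟩
    have : (⇑T)^[n] 0 = 0 := map_zero (iter T n)
    rw [this]; exact Submodule.zero_mem _
  add_mem' := by
    intro x y hx hy j
    obtain ⟨n₁, h₁⟩ := hx j
    obtain ⟨n₂, h₂⟩ := hy j
    refine ⟨max n₁ n₂, fun n hn => ?_⟩
    have : (⇑T)^[n] (x + y) = (⇑T)^[n] x + (⇑T)^[n] y := map_add (iter T n) x y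
    rw [this]
    exact Submodule.add_mem _ (h₁ n (le_trans (le_max_left _ _) hn))
      (h₂ n (le_trans (le_max_right _ _) hn))
  smul_mem' := by
    intro l x hx j
    obtain ⟨c, hc⟩ := exists_bound_twist (τ := τ) l
    obtain ⟨n₀, h₀⟩ := hx (j + c)
    refine ⟨n₀, fun n hn => ?_⟩
    have h1 : (⇑T)^[n] (l • x) = (τ ^ n) l • (⇑T)^[n] x := map_smulₛₗ (iter T n) l x
    obtain ⟨w, hw⟩ := hc n
    obtain ⟨m, hm, hmx⟩ := mem_pPow.mp (h₀ n hn)
    rw [h1, ← hmx, smul_smul]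
    have : (τ ^ n) l * (p : 𝕃) ^ (j + c) = (p : 𝕃) ^ j * algebraMap 𝕎 𝕃 w := by
      rw [← hw, zpow_add₀ p_ne_zero]; ring
    rw [this, mul_smul, algebraMap_smul]
    exact smul_mem_pPow (M.smul_mem _ hm)

lemma mem_nilSpace [IsWTwist τ] {T : N →ₛₗ[τ] N} {M : Submodule 𝕎 N} {x : N} :
    x ∈ nilSpace T M ↔ ∀ j : ℤ, ∃ n₀ : ℕ, ∀ n ≥ n₀, (⇑T)^[n] x ∈ pPow j M := Iff.rfl

/-- Stability of the nilpotent part under a commuting map. -/
lemma nilSpace_stable [IsWTwist τ] {τ' : 𝕃 →+* 𝕃} {T : N →ₛₗ[τ] N} {G : N →ₛₗ[τ'] N}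
    (hcomm : ∀ x, G (T x) = T (G x)) {M : Submodule 𝕎 N} {c : ℕ}
    (hGM : latImg G 1 M ≤ pPow (-(c : ℤ)) M) {x : N} (hx : x ∈ nilSpace T M) :
    G x ∈ nilSpace T M := by
  intro j
  obtain ⟨n₀, h₀⟩ := hx (j + c)
  refine ⟨n₀, fun n hn => ?_⟩
  have h1 : (⇑T)^[n] (G x) = G ((⇑T)^[n] x) :=
    (Function.Semiconj.iterate_right (f := G) (ga := T) (gb := T) hcomm n x).symm
  rw [h1]
  obtain ⟨m, hm, hmx⟩ := mem_pPow.mp (h₀ n hn)
  rw [← hmx, map_p_zpow_smul]
  have h2 : G m ∈ pPow (-(c : ℤ)) M := hGM (by simpa using iterate_mem_latImg (F := G) (s := 1) hm)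
  have h3 := smul_mem_pPow (r := j + c) h2
  rw [pPow_pPow] at h3
  convert h3 using 2
  ring

/-- Stability of the span of the stable image under a commuting map. -/
lemma span_stableImg_stable [IsWTwist τ] {τ' : 𝕃 →+* 𝕃} {T : N →ₛₗ[τ] N} {G : N →ₛₗ[τ'] N}
    (hcomm : ∀ x, G (T x) = T (G x)) {M : Submodule 𝕎 N} {c : ℕ}
    (hGM : latImg G 1 M ≤ pPow (-(c : ℤ)) M) {x : N}
    (hx : x ∈ Submodule.span 𝕃 (stableImg T M : Set N)) :
    G x ∈ Submodule.span 𝕃 (stableImg T M : Set N) := by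
  induction hx using Submodule.span_induction with
  | mem b hb =>
    have key : ((p : 𝕃) ^ (c : ℤ)) • G b ∈ stableImg T M := by
      rw [mem_stableImg]
      intro n
      obtain ⟨m, hm, rfl⟩ := mem_latImg.mp (mem_stableImg.mp hb n)
      have h1 : G ((⇑T)^[n] m) = (⇑T)^[n] (G m) :=
        Function.Semiconj.iterate_right (f := G) (ga := T) (gb := T) hcomm n m
      rw [h1, ← iterate_p_zpow_smul]
      apply iterate_mem_latImg
      have h2 : G m ∈ pPow (-(c : ℤ)) M :=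
        hGM (by simpa using iterate_mem_latImg (F := G) (s := 1) hm)
      rw [mem_pPow', neg_neg] at h2
      exact h2
    have : G b = ((p : 𝕃) ^ (-(c : ℤ))) • (((p : 𝕃) ^ (c : ℤ)) • G b) := by
      rw [smul_smul, ← zpow_add₀ p_ne_zero]; simp
    rw [this]
    exact Submodule.smul_mem _ _ (Submodule.subset_span key)
  | zero => rw [map_zero]; exact Submodule.zero_mem _
  | add x y _ _ hx hy => rw [map_add]; exact Submodule.add_mem _ hx hy
  | smul l x _ hx => rw [map_smulₛₗ]; exact Submodule.smul_mem _ _ hx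

lemma detCoeff_ne_zero [IsWTwist τ] [FiniteDimensional 𝕃 N] {n : ℕ} (b : Basis (Fin n) 𝕃 N)
    {G : N →ₛₗ[τ] N} (hG : Function.Injective G) : detCoeff b G ≠ 0 := by
  have hli : LinearIndependent 𝕃 (G ∘ b) :=
    b.linearIndependent.map_of_surjective_injectiveₛ τ G.toAddMonoidHom (IsWTwist.surjective τ) hG
      (fun r m => map_smulₛₗ G r m)
  have hspan : Submodule.span 𝕃 (Set.range (G ∘ b)) = ⊤ :=
    hli.span_eq_top_of_card_eq_finrank' (by
      rw [Module.finrank_eq_card_basis b])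
  have hunit : IsUnit (b.det (G ∘ b)) := (Basis.is_basis_iff_det b).mp ⟨hli, hspan⟩
  rw [Basis.det_apply] at hunit
  exact hunit.ne_zero

/-- Existence of the first slope. -/
lemma exists_isFirstSlope [IsWTwist τ] [FiniteDimensional 𝕃 N] [Nontrivial N] {G : N →ₛₗ[τ] N}
    (hG : Function.Bijective G) : ∃ lam : ℝ, IsFirstSlope G lam := by
  let b := Module.finBasis 𝕃 N
  set M₀ : Submodule 𝕎 N := Submodule.span 𝕎 (Set.range b) with hM₀
  have hM₀L : M₀.IsLattice 𝕃 := by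
    refine ⟨Submodule.fg_span (Set.finite_range _), ?_⟩
    rw [hM₀, Submodule.span_span_of_tower]
    exact b.span_eq
  have hne : M₀ ≠ ⊥ := ne_bot_of_isLattice hM₀L
  choose o ho using fun n : ℕ => exists_isOrd hG hM₀L hne n
  obtain ⟨lam, hlam⟩ := exists_tendsto_of_isOrd hG.surjective hM₀L o (fun n _ => ho n)
  exact ⟨lam, M₀, hM₀L, o, fun n _ => ho n, hlam⟩

/-- Peeling off the part of smallest slope. -/
theorem exists_peel [IsWTwist τ] [FiniteDimensional 𝕃 N] [Nontrivial N] {G : N →ₛₗ[τ] N}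
    (hG : Function.Bijective G) :
    ∃ (μ : ℚ) (Q₁ Q₂ : Submodule 𝕃 N), (∀ x ∈ Q₁, G x ∈ Q₁) ∧ (∀ x ∈ Q₂, G x ∈ Q₂) ∧
      IsoclinicOn G Q₁ μ ∧ Q₁ ⊔ Q₂ = ⊤ ∧ Q₂ ≠ ⊤ := by
  let b := Module.finBasis 𝕃 N
  set h := Module.finrank 𝕃 N with hh
  have hpos : 0 < h := Module.finrank_pos
  obtain ⟨d, hd⟩ := exists_isOrdP (detCoeff_ne_zero b hG.injective)
  obtain ⟨lam, hlam⟩ := exists_isFirstSlope hG
  obtain ⟨r, s, M, hs, -, hlamrs, hM, hord, -⟩ := exists_rational_slope hG b hd hlam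
  obtain ⟨T, hTdef⟩ : ∃ T : N →ₛₗ[τ ^ s] N, T = (p : 𝕃) ^ (-r) • iter G s := ⟨_, rfl⟩
  have hT : Function.Bijective T := by rw [hTdef]; exact smul_iter_bijective hG (-r) s
  have hTM : latImg T 1 M ≤ M := by
    rw [hTdef, latImg_smul_iter, pPow_le_iff]
    simpa using hord.1
  have hslope : IsFirstSlope T 0 := by
    have := isFirstSlope_smul_iter hlam (-r) s
    have hs' : (s : ℝ) ≠ 0 := by positivity
    have h0 : (s : ℝ) * lam + ((-r : ℤ) : ℝ) = 0 := by
      rw [hlamrs]; push_cast; field_simp; ring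
    rw [h0] at this
    rw [hTdef]; exact this
  obtain ⟨o, ho, hlim⟩ := exists_ord_tendsto_of_isFirstSlope hT hslope hM
  have ho' : ∀ n : ℕ, 1 ≤ n → IsOrd M T n (o n) := fun n _ => ho n
  have hcomm : ∀ x, G (T x) = T (G x) := by
    intro x
    rw [hTdef, smul_iter_apply, smul_iter_apply, map_p_zpow_smul]
    congr 1
    exact (Function.iterate_succ_apply' G s x).symm.trans (Function.iterate_succ_apply G s x)
  obtain ⟨c, hGM⟩ := exists_le_pPow_neg (latImg_fg G 1 hM.fg) hM.span_eq_top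
  set B := stableImg T M with hB
  have hBfg : B.FG := fg_of_le_fg (stableImg_le T M) hM.fg
  refine ⟨(r : ℚ) / s, Submodule.span 𝕃 (B : Set N), nilSpace T M,
    fun x hx => span_stableImg_stable hcomm hGM hx, fun x hx => nilSpace_stable hcomm hGM hx,
    ⟨B, hBfg, rfl, r, s, hs, rfl, ?_⟩, ?_, ?_⟩
  · -- `G^s B = p^r B`
    have h1 : latImg T 1 B = B := latImg_stableImg hT.injective hTM
    have e : latImg T 1 B = pPow (-r * (1 : ℕ)) (latImg G (s * 1) B) := by
      rw [hTdef]; exact latImg_smul_iter G (-r) s 1 B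
    rw [e] at h1
    have h2 := congrArg (pPow r) h1
    rw [pPow_pPow] at h2
    simpa using h2
  · -- spanning
    rw [eq_top_iff, ← hM.span_eq_top, Submodule.span_le]
    intro x hx
    obtain ⟨β, hβ, hβx⟩ := exists_stableImg_sub hT hh.symm hpos hM hTM hx
    have h1 : x - β ∈ nilSpace T M := by
      intro j
      refine ⟨j.toNat * h, fun n hn => ?_⟩
      obtain ⟨m, rfl⟩ : ∃ m, n = m + j.toNat * h := ⟨n - j.toNat * h, by omega⟩
      rw [Function.iterate_add_apply]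
      apply iterate_mem_pPow_of_le hTM
      exact pPow_anti (Int.self_le_toNat j) M (hβx j.toNat)
    have : x = β + (x - β) := by abel
    rw [this]
    exact Submodule.add_mem_sup (Submodule.subset_span hβ) h1
  · -- the nilpotent part is proper
    intro htop
    obtain ⟨S, hS⟩ := hM.fg
    have hall : ∀ g ∈ S, ∃ n₀ : ℕ, ∀ n ≥ n₀, (⇑T)^[n] g ∈ pPow 1 M := by
      intro g _
      have : g ∈ nilSpace T M := by rw [htop]; trivial
      exact this 1
    choose! n₀ hn₀ using hall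
    set n := max 1 (S.sup n₀) with hn
    have hle : latImg T n M ≤ pPow 1 M := by
      have : latImg T n (Submodule.span 𝕎 (S : Set N)) ≤ pPow 1 M := by
        rw [latImg_span_eq, Submodule.span_le]
        rintro _ ⟨g, hg, rfl⟩
        exact hn₀ g hg n ((Finset.le_sup (f := n₀) hg).trans (le_max_right _ _))
      rwa [hS] at this
    have hn1 : 1 ≤ n := le_max_left _ _
    have := div_le_of_latImg_le ho' hlim hn1 hle
    have hn' : (0 : ℝ) < n := by exact_mod_cast hn1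
    have : (0 : ℝ) < ((1 : ℤ) : ℝ) / n := by positivity
    linarith

end Groth.Agent.H8.IsocLib
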