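import Mathlib
import Groth.Prelude.Def_Isoc
import Groth.Agent.Lib.Helper8.Isoc.Peel

/-! The slope decomposition. -/

set_option autoImplicit false
set_option linter.unusedSectionVars false

open scoped Pointwise Isocrystal
open Isoc Module Filter Topology

universe u v w

namespace Groth.Agent.H8.IsocLib

variable {p : ℕ} [Fact p.Prime] {k : Type u} [Field k] [CharP k p] [PerfectRing k p]
variable {N : Type v} [AddCommGroup N] [Module (WittVector p k) N]
  [Module (FractionRing (WittVector p k)) N]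
  [IsScalarTower (WittVector p k) (FractionRing (WittVector p k)) N]
variable {τ : FractionRing (WittVector p k) →+* FractionRing (WittVector p k)}

local notation "𝕎" => WittVector p k
local notation "𝕃" => FractionRing (WittVector p k)

/-! ### Transport to the ambient space -/

lemma isoclinicOn_map_subtype {F : N →ₛₗ[τ] N} {P : Submodule 𝕃 N} (hP : ∀ x ∈ P, F x ∈ P)
    {Q : Submodule 𝕃 P} {μ : ℚ} (hQ : IsoclinicOn (F.restrict hP) Q μ) :
    IsoclinicOn F (Q.map P.subtype) μ := by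
  obtain ⟨M, hfg, hspan, r, s, hs, hrs, hFM⟩ := hQ
  have hf : ∀ x : P, P.subtype ((F.restrict hP) x) = F (P.subtype x) := fun x => rfl
  refine ⟨M.map (P.subtype.restrictScalars 𝕎), hfg.map _, ?_, r, s, hs, hrs, ?_⟩
  · have : ((M.map (P.subtype.restrictScalars 𝕎) : Submodule 𝕎 N) : Set N) =
        P.subtype '' (M : Set P) := rfl
    rw [this, Submodule.span_image, hspan]
  · rw [← map_latImg P.subtype hf, hFM, map_pPow]

lemma le_slopePart {F : N →ₛₗ[τ] N} {P : Submodule 𝕃 N} (hP : ∀ x ∈ P, F x ∈ P) {μ : ℚ}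
    (h : IsoclinicOn F P μ) : P ≤ slopePart F μ :=
  le_sSup ⟨hP, (isIsoclinic_restrict_iff hP).mpr h⟩

lemma slopePart_stable [IsWTwist τ] [FiniteDimensional 𝕃 N] (F : N →ₛₗ[τ] N) (μ : ℚ) :
    ∀ x ∈ slopePart F μ, F x ∈ slopePart F μ :=
  (slopePart_isIsoclinic F μ).1

lemma slopePart_isoclinicOn [IsWTwist τ] [FiniteDimensional 𝕃 N] (F : N →ₛₗ[τ] N) (μ : ℚ) :
    IsoclinicOn F (slopePart F μ) μ := by
  obtain ⟨hP, h⟩ := slopePart_isIsoclinic F μ
  exact (isIsoclinic_restrict_iff hP).mp h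

/-! ### Spanning -/

theorem le_iSup_slopePart [IsWTwist τ] [FiniteDimensional 𝕃 N] {F : N →ₛₗ[τ] N}
    (hF : Function.Injective F) :
    ∀ (n : ℕ) (P : Submodule 𝕃 N), (∀ x ∈ P, F x ∈ P) → Module.finrank 𝕃 P = n →
      P ≤ ⨆ μ : ℚ, slopePart F μ := by
  intro n
  induction n using Nat.strong_induction_on with
  | _ n ih =>
    intro P hP hn
    by_cases hbot : P = ⊥
    · rw [hbot]; exact bot_le
    have hnt : Nontrivial P := Submodule.nontrivial_iff_ne_bot.mpr hbot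
    have hinj : Function.Injective (F.restrict hP) :=
      fun x y hxy => Subtype.ext (hF (congrArg Subtype.val hxy))
    have hG : Function.Bijective (F.restrict hP) := ⟨hinj, surjective_of_injective _ hinj⟩
    obtain ⟨μ, Q₁, Q₂, hQ₁, hQ₂, hiso, hsup, hne⟩ := exists_peel hG
    have hP_eq : P = Q₁.map P.subtype ⊔ Q₂.map P.subtype := by
      rw [← Submodule.map_sup, hsup, Submodule.map_top, Submodule.range_subtype]
    have hstab : ∀ (Q : Submodule 𝕃 P), (∀ x ∈ Q, (F.restrict hP) x ∈ Q) →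
        ∀ x ∈ Q.map P.subtype, F x ∈ Q.map P.subtype := by
      rintro Q hQ _ ⟨q, hq, rfl⟩
      exact ⟨(F.restrict hP) q, hQ q hq, rfl⟩
    have h1 : Q₁.map P.subtype ≤ ⨆ μ : ℚ, slopePart F μ :=
      (le_slopePart (hstab Q₁ hQ₁) (isoclinicOn_map_subtype hP hiso)).trans
        (le_iSup (fun μ => slopePart F μ) μ)
    have h2 : Q₂.map P.subtype ≤ ⨆ μ : ℚ, slopePart F μ := by
      refine ih (Module.finrank 𝕃 (Q₂.map P.subtype)) ?_ _ (hstab Q₂ hQ₂) rfl
      rw [← hn]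
      have e1 : Module.finrank 𝕃 (Q₂.map P.subtype) = Module.finrank 𝕃 Q₂ :=
        LinearEquiv.finrank_eq (Submodule.equivMapOfInjective P.subtype P.injective_subtype Q₂).symm
      rw [e1]
      exact Submodule.finrank_lt hne
    rw [hP_eq]
    exact sup_le h1 h2

theorem iSup_slopePart_eq_top [IsWTwist τ] [FiniteDimensional 𝕃 N] {F : N →ₛₗ[τ] N}
    (hF : Function.Injective F) : ⨆ μ : ℚ, slopePart F μ = ⊤ := by
  rw [eq_top_iff]
  exact le_iSup_slopePart hF _ ⊤ (fun _ _ => trivial) rfl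

/-! ### Independence -/

lemma exists_le_pPow_neg_of_le_span {X Y : Submodule 𝕎 N} (hX : X.FG)
    (hXY : ∀ x ∈ X, x ∈ Submodule.span 𝕃 (Y : Set N)) : ∃ c : ℕ, X ≤ pPow (-(c : ℤ)) Y := by
  obtain ⟨S, rfl⟩ := hX
  have key : ∀ x ∈ S, ∃ c : ℕ, x ∈ pPow (-(c : ℤ)) Y := fun x hx =>
    exists_mem_pPow_neg_of_mem_span (hXY x (Submodule.subset_span hx))
  choose! c hc using key
  refine ⟨S.sup c, ?_⟩
  rw [Submodule.span_le]
  intro x hx
  exact pPow_anti (by simpa using Finset.le_sup (f := c) hx) Y (hc x hx)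

/-- Two "isoclinic lattices" of different slopes, one bounded by the other: the first is zero. -/
lemma eq_bot_of_slopes_ne [IsWTwist τ] {F : N →ₛₗ[τ] N} (hF : Function.Injective F)
    {X Y : Submodule 𝕎 N} (hY : Y.FG) {c : ℕ} (hc : X ≤ pPow (-(c : ℤ)) Y) {r₁ r₂ : ℤ}
    {s₁ s₂ : ℕ} (hFX : latImg F s₁ X = pPow r₁ X) (hFY : latImg F s₂ Y = pPow r₂ Y)
    (hR : r₁ * s₂ ≠ r₂ * s₁) : X = ⊥ := by
  have hX' : ∀ j : ℕ, latImg F (s₁ * s₂ * j) X = pPow (r₁ * s₂ * j) X := by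
    intro j
    have h1 := latImg_mul_eq hFX (s₂ * j)
    rw [← mul_assoc] at h1
    rw [h1]
    congr 1; push_cast; ring
  have hY' : ∀ j : ℕ, latImg F (s₁ * s₂ * j) Y = pPow (r₂ * s₁ * j) Y := by
    intro j
    have h1 := latImg_mul_eq hFY (s₁ * j)
    rw [← mul_assoc, mul_comm s₂ s₁] at h1
    rw [h1]
    congr 1; push_cast; ring
  apply eq_bot_of_forall_le_pPow hY c
  intro n
  rcases lt_or_gt_of_ne hR with hlt | hgt
  · have h1 : latImg F (s₁ * s₂ * n) X ≤ latImg F (s₁ * s₂ * n) (pPow (-(c : ℤ)) Y) :=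
      latImg_mono hc
    rw [hX', latImg_pPow, hY', pPow_pPow, pPow_le_iff, pPow_pPow] at h1
    refine h1.trans (pPow_anti ?_ Y)
    have : (n : ℤ) ≤ (r₂ * s₁ - r₁ * s₂) * n := by
      have : 1 ≤ r₂ * s₁ - r₁ * s₂ := by omega
      nlinarith
    linarith
  · have e1 : X = latImg F (s₁ * s₂ * n) (pPow (-(r₁ * s₂ * n)) X) := by
      rw [latImg_pPow, hX', pPow_pPow]; simp
    have e2 : pPow (-(c : ℤ)) Y =
        latImg F (s₁ * s₂ * n) (pPow (-(c : ℤ) + -(r₂ * s₁ * n)) Y) := by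
      rw [latImg_pPow, hY', pPow_pPow]; congr 1; ring
    have h1 : latImg F (s₁ * s₂ * n) (pPow (-(r₁ * s₂ * n)) X) ≤
        latImg F (s₁ * s₂ * n) (pPow (-(c : ℤ) + -(r₂ * s₁ * n)) Y) := by
      rw [← e1, ← e2]; exact hc
    rw [latImg_le_latImg_iff hF, pPow_le_iff, pPow_pPow] at h1
    refine h1.trans (pPow_anti ?_ Y)
    have : (n : ℤ) ≤ (r₁ * s₂ - r₂ * s₁) * n := by
      have : 1 ≤ r₁ * s₂ - r₂ * s₁ := by omega
      nlinarith
    linarith

/-- Monotonicity of `IsoclinicOn` in the subspace. -/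
theorem IsoclinicOn.mono [IsWTwist τ] [FiniteDimensional 𝕃 N] {F : N →ₛₗ[τ] N}
    (hF : Function.Injective F) {μ : ℚ} {P₁ P : Submodule 𝕃 N} (hμ : IsoclinicOn F P₁ μ)
    (hle : P ≤ P₁) (hP : ∀ x ∈ P, F x ∈ P) : IsoclinicOn F P μ := by
  obtain ⟨M, hfg, hspan, r, s, hs, hrs, hFM⟩ := hμ
  have hiterP : ∀ (n : ℕ), ∀ x ∈ P, (⇑F)^[n] x ∈ P := by
    intro n x hx
    induction n with
    | zero => exact hx
    | succ n ih => rw [Function.iterate_succ_apply']; exact hP _ ih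
  have hsurj : Function.Surjective (F.restrict hP) :=
    surjective_of_injective _ (fun x y hxy => Subtype.ext (hF (congrArg Subtype.val hxy)))
  have hval : ∀ x : P, (((⇑(F.restrict hP))^[s] x : P) : N) = (⇑F)^[s] (x : N) := fun x =>
    Function.Semiconj.iterate_right (f := (Subtype.val : P → N)) (ga := F.restrict hP) (gb := F)
      (fun x => rfl) s x
  refine ⟨M ⊓ P.restrictScalars 𝕎, fg_of_le_fg inf_le_left hfg, ?_, r, s, hs, hrs, ?_⟩
  · apply le_antisymm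
    · rw [Submodule.span_le]
      intro x hx
      exact hx.2
    · intro x hx
      have hx' : x ∈ Submodule.span 𝕃 (M : Set N) := by rw [hspan]; exact hle hx
      obtain ⟨c, hc⟩ := exists_mem_pPow_neg_of_mem_span hx'
      rw [mem_pPow', neg_neg] at hc
      have hy : ((p : 𝕃) ^ (c : ℤ)) • x ∈ M ⊓ P.restrictScalars 𝕎 :=
        ⟨hc, P.smul_mem _ hx⟩
      have : x = ((p : 𝕃) ^ (-(c : ℤ))) • (((p : 𝕃) ^ (c : ℤ)) • x) := by
        rw [smul_smul, ← zpow_add₀ p_ne_zero]; simp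
      rw [this]
      exact Submodule.smul_mem _ _ (Submodule.subset_span hy)
  · apply le_antisymm
    · rw [latImg_le_iff]
      intro m hm
      rw [mem_pPow']
      refine ⟨?_, P.smul_mem _ (hiterP s m hm.2)⟩
      have : (⇑F)^[s] m ∈ pPow r M := hFM ▸ iterate_mem_latImg hm.1
      exact mem_pPow'.mp this
    · intro y hy
      rw [mem_pPow'] at hy
      have hyM : y ∈ latImg F s M := by rw [hFM, mem_pPow']; exact hy.1
      have hyP : y ∈ P := by
        have : y = ((p : 𝕃) ^ r) • (((p : 𝕃) ^ (-r)) • y) := by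
          rw [smul_smul, ← zpow_add₀ p_ne_zero]; simp
        rw [this]
        exact P.smul_mem _ hy.2
      obtain ⟨x, hxM, hxy⟩ := mem_latImg.mp hyM
      obtain ⟨x', hx'⟩ := hsurj.iterate s ⟨y, hyP⟩
      have h1 : (⇑F)^[s] (x' : N) = y := by rw [← hval, hx']
      have h2 : x = x' := hF.iterate s (hxy.trans h1.symm)
      rw [← hxy]
      exact iterate_mem_latImg ⟨hxM, h2 ▸ x'.2⟩

/-- If `P` (slope `μ`) lies in `Q + Q'` with `Q` of slope `ν ≠ μ`, then `P ≤ Q'`. -/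
lemma le_of_le_sup_of_slope_ne [IsWTwist τ] [FiniteDimensional 𝕃 N] {F : N →ₛₗ[τ] N}
    (hF : Function.Injective F) {μ ν : ℚ} (hne : μ ≠ ν) {P Q Q' : Submodule 𝕃 N}
    (hPμ : IsoclinicOn F P μ) (hQν : IsoclinicOn F Q ν) (hQ' : ∀ x ∈ Q', F x ∈ Q')
    (hle : P ≤ Q ⊔ Q') : P ≤ Q' := by
  obtain ⟨X, hXfg, hXspan, r₁, s₁, hs₁, hrs₁, hFX⟩ := hPμ
  obtain ⟨Y, hYfg, hYspan, r₂, s₂, hs₂, hrs₂, hFY⟩ := hQν
  have hQ'c : Q' ≤ Q'.comap F := fun x hx => hQ' x hx
  set Fq := Q'.mapQ Q' F hQ'c with hFq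
  have hsurjQ' : Function.Surjective (F.restrict hQ') :=
    surjective_of_injective _ (fun x y hxy => Subtype.ext (hF (congrArg Subtype.val hxy)))
  have hFq_inj : Function.Injective Fq := by
    rw [← LinearMap.ker_eq_bot, LinearMap.ker_eq_bot']
    intro y hy
    obtain ⟨x, rfl⟩ := Q'.mkQ_surjective y
    have h1 : F x ∈ Q' := by
      have : Q'.mkQ (F x) = 0 := hy
      rwa [Submodule.mkQ_apply, Submodule.Quotient.mk_eq_zero] at this
    obtain ⟨q, hq⟩ := hsurjQ' ⟨F x, h1⟩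
    have h2 : F (q : N) = F x := congrArg Subtype.val hq
    have h3 : x = q := (hF h2).symm
    rw [Submodule.mkQ_apply, Submodule.Quotient.mk_eq_zero, h3]
    exact q.2
  have hf : ∀ x, Q'.mkQ (F x) = Fq (Q'.mkQ x) := fun x => rfl
  set Xq := X.map (Q'.mkQ.restrictScalars 𝕎) with hXq
  set Yq := Y.map (Q'.mkQ.restrictScalars 𝕎) with hYq
  have hFXq : latImg Fq s₁ Xq = pPow r₁ Xq := by
    rw [hXq, ← map_latImg Q'.mkQ hf, hFX, map_pPow]
  have hFYq : latImg Fq s₂ Yq = pPow r₂ Yq := by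
    rw [hYq, ← map_latImg Q'.mkQ hf, hFY, map_pPow]
  have hXYq : ∀ x ∈ Xq, x ∈ Submodule.span 𝕃 (Yq : Set (N ⧸ Q')) := by
    rintro _ ⟨x, hx, rfl⟩
    have hxP : x ∈ P := by rw [← hXspan]; exact Submodule.subset_span hx
    obtain ⟨q, hq, q', hq', rfl⟩ := Submodule.mem_sup.mp (hle hxP)
    have h1 : Q'.mkQ (q + q') = Q'.mkQ q := by
      rw [map_add]
      have : Q'.mkQ q' = 0 := by
        rw [Submodule.mkQ_apply, Submodule.Quotient.mk_eq_zero]; exact hq'
      rw [this, add_zero]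
    show Q'.mkQ (q + q') ∈ _
    rw [h1]
    have h2 : ((Yq : Submodule 𝕎 (N ⧸ Q')) : Set (N ⧸ Q')) = Q'.mkQ '' (Y : Set N) := rfl
    rw [h2, Submodule.span_image]
    exact ⟨q, by rw [hYspan]; exact hq, rfl⟩
  obtain ⟨c, hc⟩ := exists_le_pPow_neg_of_le_span (hXfg.map _) hXYq
  have hs₁' : (0 : ℚ) < s₁ := by exact_mod_cast hs₁
  have hs₂' : (0 : ℚ) < s₂ := by exact_mod_cast hs₂
  have hR : r₁ * s₂ ≠ r₂ * s₁ := by
    intro h
    apply hne
    rw [← hrs₁, ← hrs₂, div_eq_div_iff hs₁'.ne' hs₂'.ne']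
    exact_mod_cast h
  have hbot : Xq = ⊥ := eq_bot_of_slopes_ne hFq_inj (hYfg.map _) hc hFXq hFYq hR
  rw [← hXspan, Submodule.span_le]
  intro x hx
  have : Q'.mkQ x ∈ Xq := ⟨x, hx, rfl⟩
  rw [hbot, Submodule.mem_bot, Submodule.mkQ_apply, Submodule.Quotient.mk_eq_zero] at this
  exact this

lemma eq_bot_of_le_finset_sup [IsWTwist τ] [FiniteDimensional 𝕃 N] {F : N →ₛₗ[τ] N}
    (hF : Function.Injective F) {μ : ℚ} {P : Submodule 𝕃 N} (hPμ : IsoclinicOn F P μ)
    (S : Finset ℚ) (hS : μ ∉ S) (hle : P ≤ ⨆ ν ∈ S, slopePart F ν) : P = ⊥ := by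
  classical
  induction S using Finset.induction_on with
  | empty => simpa using hle
  | insert ν S' hν ih =>
    rw [Finset.iSup_insert] at hle
    have hne : μ ≠ ν := fun h => hS (h ▸ Finset.mem_insert_self _ _)
    have hstab : ∀ x ∈ ⨆ ν ∈ S', slopePart F ν, F x ∈ ⨆ ν ∈ S', slopePart F ν := by
      intro x hx
      have hmap : (⨆ ν ∈ S', slopePart F ν).map F ≤ ⨆ ν ∈ S', slopePart F ν := by
        simp only [Submodule.map_iSup]
        refine iSup₂_mono fun ν _ => ?_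
        rintro _ ⟨y, hy, rfl⟩
        exact slopePart_stable F ν y hy
      exact hmap ⟨x, hx, rfl⟩
    have := le_of_le_sup_of_slope_ne hF hne hPμ (slopePart_isoclinicOn F ν) hstab hle
    exact ih (fun h => hS (Finset.mem_insert_of_mem h)) this

theorem iSupIndep_slopePart [IsWTwist τ] [FiniteDimensional 𝕃 N] {F : N →ₛₗ[τ] N}
    (hF : Function.Injective F) : iSupIndep (fun μ : ℚ => slopePart F μ) := by
  classical
  intro μ
  rw [Submodule.disjoint_def]
  intro x hx₁ hx₂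
  -- a finite subfamily suffices
  have h1 : (⨆ ν, ⨆ (_ : ν ≠ μ), slopePart F ν) =
      ⨆ ν : ℚ, (if ν = μ then (⊥ : Submodule 𝕃 N) else slopePart F ν) := by
    refine iSup_congr fun ν => ?_
    by_cases h : ν = μ
    · simp [h]
    · simp [h]
  rw [h1] at hx₂
  obtain ⟨S, hS⟩ := (Submodule.mem_iSup_iff_exists_finset).mp hx₂
  have h2 : (⨆ ν ∈ S, (if ν = μ then (⊥ : Submodule 𝕃 N) else slopePart F ν)) ≤
      ⨆ ν ∈ S.erase μ, slopePart F ν := by
    refine iSup₂_le fun ν hν => ?_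
    by_cases h : ν = μ
    · simp [h]
    · rw [if_neg h]
      exact le_iSup₂ (f := fun ν _ => slopePart F ν) ν (Finset.mem_erase.mpr ⟨h, hν⟩)
  set P : Submodule 𝕃 N := slopePart F μ ⊓ ⨆ ν ∈ S.erase μ, slopePart F ν with hP
  have hxP : x ∈ P := ⟨hx₁, h2 hS⟩
  have hPstab : ∀ y ∈ P, F y ∈ P := by
    rintro y ⟨hy₁, hy₂⟩
    refine ⟨slopePart_stable F μ y hy₁, ?_⟩
    have hmap : (⨆ ν ∈ S.erase μ, slopePart F ν).map F ≤ ⨆ ν ∈ S.erase μ, slopePart F ν := by
      simp only [Submodule.map_iSup]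
      refine iSup₂_mono fun ν _ => ?_
      rintro _ ⟨z, hz, rfl⟩
      exact slopePart_stable F ν z hz
    exact hmap ⟨y, hy₂, rfl⟩
  have hPμ : IsoclinicOn F P μ :=
    IsoclinicOn.mono hF (slopePart_isoclinicOn F μ) inf_le_left hPstab
  have hbot := eq_bot_of_le_finset_sup hF hPμ (S.erase μ) (Finset.notMem_erase μ S) inf_le_right
  rw [hbot, Submodule.mem_bot] at hxP
  exact hxP

/-- The slope decomposition. -/
theorem isInternal_slopePart [IsWTwist τ] [FiniteDimensional 𝕃 N] {F : N →ₛₗ[τ] N}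
    (hF : Function.Injective F) : DirectSum.IsInternal (fun μ : ℚ => slopePart F μ) := by
  classical
  rw [DirectSum.isInternal_submodule_iff_iSupIndep_and_iSup_eq_top]
  exact ⟨iSupIndep_slopePart hF, iSup_slopePart_eq_top hF⟩

end Groth.Agent.H8.IsocLib
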