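import Mathlib
import Groth.Prelude.Def_Isoc
import Groth.Agent.Lib.Helper8.Isoc.Basic

/-! Characteristic zero of `W(k)`, and `σ^m = id` for a finite field with `p^m` elements. -/

set_option autoImplicit false
set_option linter.unusedSectionVars false

open scoped Pointwise Isocrystal
open Isoc

universe u v

namespace Groth.Agent.H8.IsocLib

variable {p : ℕ} [Fact p.Prime] {k : Type u} [Field k] [CharP k p] [PerfectRing k p]

local notation "𝕎" => WittVector p k
local notation "𝕃" => FractionRing (WittVector p k)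

instance wittVector_charZero : CharZero 𝕎 := by
  obtain ⟨c, hc⟩ := CharP.exists 𝕎
  rcases CharP.char_is_prime_or_zero 𝕎 c with hq | rfl
  · exfalso
    have h0 : ((c : ℕ) : 𝕎) = 0 := CharP.cast_eq_zero 𝕎 c
    have h1 : ((c : ℕ) : k) = 0 := by
      have := congrArg (WittVector.constantCoeff (p := p) (R := k)) h0
      rwa [map_natCast, map_zero] at this
    have h2 : p ∣ c := (CharP.cast_eq_zero_iff k p c).mp h1
    have h3 : p = c := (Nat.prime_dvd_prime_iff_eq (Fact.out) hq).mp h2
    subst h3
    exact WittVector.p_nonzero p k h0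
  · exact CharP.charP_to_charZero 𝕎

instance fractionRing_charZero : CharZero 𝕃 :=
  charZero_of_injective_algebraMap (IsFractionRing.injective 𝕎 𝕃)

lemma frob_one_algebraMap (w : 𝕎) :
    frob p k 1 (algebraMap 𝕎 𝕃 w) = algebraMap 𝕎 𝕃 (WittVector.frobenius w) := by
  rw [frob_algebraMap, zpow_one, WittVector.frobeniusEquiv_apply]

lemma frob_one_iterate_algebraMap (j : ℕ) (w : 𝕎) :
    (⇑(frob p k 1))^[j] (algebraMap 𝕎 𝕃 w) = algebraMap 𝕎 𝕃 (WittVector.frobenius^[j] w) := by
  induction j with
  | zero => rfl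
  | succ j ih => rw [Function.iterate_succ_apply', ih, frob_one_algebraMap,
      Function.iterate_succ_apply']

lemma frobenius_iterate_eq_self [Fintype k] {m : ℕ} (hm : Fintype.card k = p ^ m) (w : 𝕎) :
    WittVector.frobenius^[m] w = w := by
  ext i
  rw [WittVector.iterate_frobenius_coeff, ← hm, FiniteField.pow_card]

lemma frob_one_iterate_eq_self [Fintype k] {m : ℕ} (hm : Fintype.card k = p ^ m) (x : 𝕃) :
    (⇑(frob p k 1))^[m] x = x := by
  obtain ⟨a, b, _, rfl⟩ := IsFractionRing.div_surjective (A := 𝕎) x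
  rw [← RingHom.coe_pow, map_div₀, RingHom.coe_pow, frob_one_iterate_algebraMap,
    frob_one_iterate_algebraMap, frobenius_iterate_eq_self hm, frobenius_iterate_eq_self hm]

end Groth.Agent.H8.IsocLib
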