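import Mathlib

/-! Lang's lemma for Frobenius-semilinear maps over an algebraically closed field. -/

set_option autoImplicit false
set_option linter.unusedSectionVars false

open Polynomial Module

universe u v

namespace Groth.Agent.H8.Lang

variable {K : Type u} [Field K] [IsAlgClosed K]

/-! ### The elimination polynomials -/

/-- The polynomials `H i` with `G i = X ^ q * H i`. -/
noncomputable def Hpoly (q : ℕ) (c : ℕ → K) : ℕ → K[X]
  | 0 => C (c 0)
  | (i + 1) => X ^ (q * (q - 1)) * (Hpoly q c i) ^ q + C (c (i + 1))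

lemma Hpoly_ne_zero {q : ℕ} (hq : 2 ≤ q) (c : ℕ → K) (hc : c 0 ≠ 0) (i : ℕ) :
    Hpoly q c i ≠ 0 := by
  induction i with
  | zero => exact C_ne_zero.mpr hc
  | succ i ih =>
    intro h
    have h1 := congrArg natDegree h
    rw [Hpoly, natDegree_add_C, natDegree_mul (pow_ne_zero _ X_ne_zero) (pow_ne_zero _ ih),
      natDegree_X_pow, natDegree_zero] at h1
    have : 2 ≤ q * (q - 1) := by
      have : 1 ≤ q - 1 := by omega
      nlinarith
    omega

lemma exists_root_aux {q : ℕ} (hq : 2 ≤ q) (c : ℕ → K) (hc : c 0 ≠ 0) (n : ℕ) :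
    ∃ y : K, y ≠ 0 ∧ y ^ q * eval y (Hpoly q c n) = y := by
  set R : K[X] := X ^ (q - 1) * Hpoly q c n - C 1 with hR
  have hH := Hpoly_ne_zero hq c hc n
  have hnd : R.natDegree ≠ 0 := by
    rw [hR, natDegree_sub_C, natDegree_mul (pow_ne_zero _ X_ne_zero) hH, natDegree_X_pow]
    omega
  have hdeg : R.degree ≠ 0 := fun h => hnd (by rw [natDegree, h]; rfl)
  obtain ⟨y, hy⟩ := IsAlgClosed.exists_root R hdeg
  rw [IsRoot, hR, eval_sub, eval_mul, eval_pow, eval_X, eval_C, sub_eq_zero] at hy
  have hy0 : y ≠ 0 := by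
    rintro rfl
    rw [zero_pow (by omega), zero_mul] at hy
    exact zero_ne_one hy
  refine ⟨y, hy0, ?_⟩
  have : y ^ q = y * y ^ (q - 1) := by
    rw [← pow_succ']; congr 1; omega
  rw [this, mul_assoc, hy, mul_one]

lemma eval_Hpoly_succ {q : ℕ} (hq : 2 ≤ q) (c : ℕ → K) (y : K) (i : ℕ) :
    y ^ q * eval y (Hpoly q c (i + 1)) =
      (y ^ q * eval y (Hpoly q c i)) ^ q + c (i + 1) * y ^ q := by
  rw [Hpoly, eval_add, eval_mul, eval_pow, eval_pow, eval_X, eval_C, mul_pow, ← pow_mul]
  have : q * q = q + q * (q - 1) := by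
    obtain ⟨t, rfl⟩ := Nat.exists_eq_add_of_le hq
    have : 2 + t - 1 = 1 + t := by omega
    rw [this]; ring
  rw [this, pow_add]
  ring


/-! ### Existence of a non-zero fixed vector -/

variable {q : ℕ} {φ : K →+* K}
variable {V : Type v} [AddCommGroup V] [Module K V]

lemma phi_surjective (hq : 2 ≤ q) (hφ : ∀ x, φ x = x ^ q) : Function.Surjective φ := by
  intro a
  obtain ⟨z, hz⟩ := IsAlgClosed.exists_pow_nat_eq a (by omega : 0 < q)
  exact ⟨z, by rw [hφ, hz]⟩

lemma mem_span_iterates_iff (f : V → V) (v : V) (j : ℕ) (x : V) :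
    x ∈ Submodule.span K ((fun i => f^[i] v) '' (Finset.range j : Set ℕ)) ↔
      ∃ c : ℕ → K, x = ∑ i ∈ Finset.range j, c i • f^[i] v := by
  constructor
  · intro hx
    rw [Finsupp.mem_span_image_iff_linearCombination] at hx
    obtain ⟨l, hl, rfl⟩ := hx
    refine ⟨l, ?_⟩
    rw [Finsupp.linearCombination_apply]
    refine Finsupp.sum_of_support_subset l (fun i hi => ?_) _ (fun i _ => zero_smul _ _)
    have := (Finsupp.mem_supported K l).mp hl (Finset.mem_coe.mpr hi)
    simpa using this
  · rintro ⟨c, rfl⟩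
    refine Submodule.sum_mem _ fun i hi => Submodule.smul_mem _ _ (Submodule.subset_span ?_)
    exact ⟨i, by exact_mod_cast hi, rfl⟩

theorem exists_fixed_ne_zero [FiniteDimensional K V] [Nontrivial V] (hq : 2 ≤ q)
    (hφ : ∀ x, φ x = x ^ q) (f : V →ₛₗ[φ] V) (hf : Function.Injective f) :
    ∃ w : V, w ≠ 0 ∧ f w = w := by
  obtain ⟨v, hv⟩ := exists_ne (0 : V)
  set D : ℕ → Prop := fun j =>
    (⇑f)^[j] v ∈ Submodule.span K ((fun i => (⇑f)^[i] v) '' (Finset.range j : Set ℕ)) with hD
  -- some iterate depends on the previous ones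
  have hex : ∃ j, D j := by
    let U : ℕ →o Submodule K V :=
      ⟨fun j => Submodule.span K ((fun i => (⇑f)^[i] v) '' (Finset.range j : Set ℕ)), by
        intro a b hab
        apply Submodule.span_mono
        apply Set.image_mono
        intro i hi
        simp only [Finset.coe_range, Set.mem_Iio] at hi ⊢
        omega⟩
    obtain ⟨n, hn⟩ := monotone_stabilizes_iff_noetherian.mpr
      (inferInstance : IsNoetherian K V) U
    refine ⟨n, ?_⟩
    have h1 : (⇑f)^[n] v ∈ U (n + 1) :=
      Submodule.subset_span ⟨n, by simp, rfl⟩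
    rw [← hn (n + 1) (Nat.le_succ n)] at h1
    exact h1
  classical
  have hmin : ∀ j < Nat.find hex, ¬ D j := fun j hj => Nat.find_min hex hj
  have hDm : D (Nat.find hex) := Nat.find_spec hex
  have hne0 : Nat.find hex ≠ 0 := by
    intro h0
    rw [h0] at hDm
    simp only [hD, Finset.range_zero, Finset.coe_empty, Set.image_empty, Submodule.span_empty,
      Submodule.mem_bot, Function.iterate_zero, id_eq] at hDm
    exact hv hDm
  obtain ⟨n, hn⟩ : ∃ n, Nat.find hex = n + 1 := Nat.exists_eq_succ_of_ne_zero hne0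
  rw [hn] at hDm hmin
  obtain ⟨c, hc⟩ := (mem_span_iterates_iff (K := K) f v (n + 1) _).mp hDm
  have hDn : ¬ D n := hmin n (Nat.lt_succ_self n)
  -- the constant coefficient does not vanish
  have hc0 : c 0 ≠ 0 := by
    intro h0
    apply hDn
    have hsurj := phi_surjective hq hφ
    choose d hd using fun i : ℕ => hsurj (c (i + 1))
    show (⇑f)^[n] v ∈ _
    rw [mem_span_iterates_iff]
    refine ⟨d, hf ?_⟩
    rw [← Function.iterate_succ_apply' (⇑f) n v, hc, Finset.sum_range_succ', h0, zero_smul, add_zero,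
      map_sum]
    refine Finset.sum_congr rfl fun i _ => ?_
    rw [map_smulₛₗ, hd, Function.iterate_succ_apply']
  obtain ⟨y, hy0, hy⟩ := exists_root_aux hq c hc0 n
  set x : ℕ → K := fun i => y ^ q * eval y (Hpoly q c i) with hx
  have hxn : x n = y := hy
  have hx0 : x 0 = c 0 * φ y := by
    simp only [hx, Hpoly, eval_C, hφ]; ring
  have hxs : ∀ i, x (i + 1) = φ (x i) + c (i + 1) * φ y := by
    intro i
    simp only [hx, hφ]
    exact eval_Hpoly_succ hq c y i
  refine ⟨∑ i ∈ Finset.range (n + 1), x i • (⇑f)^[i] v, ?_, ?_⟩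
  · intro hw
    apply hDn
    show (⇑f)^[n] v ∈ _
    rw [mem_span_iterates_iff]
    rw [Finset.sum_range_succ, hxn] at hw
    refine ⟨fun i => -(y⁻¹ * x i), ?_⟩
    have h1 : y • (⇑f)^[n] v = -∑ i ∈ Finset.range n, x i • (⇑f)^[i] v :=
      eq_neg_of_add_eq_zero_right hw
    have h2 : (⇑f)^[n] v = y⁻¹ • (y • (⇑f)^[n] v) := by
      rw [smul_smul, inv_mul_cancel₀ hy0, one_smul]
    rw [h2, h1, smul_neg, Finset.smul_sum, ← Finset.sum_neg_distrib]
    refine Finset.sum_congr rfl fun i _ => ?_
    rw [smul_smul, neg_smul]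
  · rw [map_sum]
    have h1 : ∀ i ∈ Finset.range (n + 1), f (x i • (⇑f)^[i] v) = φ (x i) • (⇑f)^[i + 1] v := by
      intro i _
      rw [map_smulₛₗ, Function.iterate_succ_apply']
    rw [Finset.sum_congr rfl h1, Finset.sum_range_succ, hxn, hc, Finset.smul_sum,
      Finset.sum_range_succ' (fun i => φ y • c i • (⇑f)^[i] v),
      Finset.sum_range_succ' (fun i => x i • (⇑f)^[i] v), ← add_assoc, ← Finset.sum_add_distrib]
    congr 1
    · refine Finset.sum_congr rfl fun i _ => ?_
      rw [hxs, add_smul, smul_smul, mul_comm]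
    · rw [hx0, smul_smul, mul_comm]


/-! ### Artin–Schreier -/

lemma exists_phi_sub_eq (hq : 2 ≤ q) (hφ : ∀ x, φ x = x ^ q) (a : K) : ∃ x : K, φ x - x = a := by
  set R : K[X] := X ^ q - (X + C a) with hR
  have hdeg : R.degree ≠ 0 := by
    have h1 : (X + C a : K[X]).degree < (X ^ q : K[X]).degree := by
      rw [degree_X_add_C, degree_X_pow]
      exact_mod_cast (by omega : 1 < q)
    rw [hR, degree_sub_eq_left_of_degree_lt h1, degree_X_pow]
    exact_mod_cast (by omega : q ≠ 0)
  obtain ⟨x, hx⟩ := IsAlgClosed.exists_root R hdeg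
  rw [IsRoot, hR, eval_sub, eval_add, eval_pow, eval_X, eval_C] at hx
  refine ⟨x, ?_⟩
  rw [hφ]
  linear_combination hx

/-! ### Lang's lemma -/

theorem lang_aux (hq : 2 ≤ q) (hφ : ∀ x, φ x = x ^ q) :
    ∀ (n : ℕ) (V : Type v) [AddCommGroup V] [Module K V] [FiniteDimensional K V]
      (f : V →ₛₗ[φ] V), Function.Injective f → Module.finrank K V = n →
      Submodule.span K {v | f v = v} = ⊤ ∧ ∀ u, ∃ w, f w - w = u := by
  intro n
  induction n with
  | zero =>
    intro V _ _ _ f _ hn
    have : Subsingleton V := Module.finrank_zero_iff.mp hn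
    exact ⟨Subsingleton.elim _ _, fun u => ⟨0, Subsingleton.elim _ _⟩⟩
  | succ n ih =>
    intro V _ _ _ f hf hn
    have hnt : Nontrivial V := Module.nontrivial_of_finrank_pos (R := K) (by omega)
    obtain ⟨v₁, hv₁, hfv₁⟩ := exists_fixed_ne_zero hq hφ f hf
    have hsurjφ := phi_surjective hq hφ
    set U : Submodule K V := Submodule.span K {v₁} with hU
    have hUf : U ≤ U.comap f := by
      intro x hx
      obtain ⟨a, rfl⟩ := Submodule.mem_span_singleton.mp hx
      rw [Submodule.mem_comap, map_smulₛₗ, hfv₁]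
      exact Submodule.smul_mem _ _ (Submodule.mem_span_singleton_self v₁)
    set fbar : (V ⧸ U) →ₛₗ[φ] (V ⧸ U) := U.mapQ U f hUf with hfbar
    have hfbar_mk : ∀ x : V, fbar (U.mkQ x) = U.mkQ (f x) := fun x => rfl
    have hinj : Function.Injective fbar := by
      rw [injective_iff_map_eq_zero]
      intro xb hxb
      obtain ⟨x, rfl⟩ := U.mkQ_surjective xb
      rw [hfbar_mk, Submodule.mkQ_apply, Submodule.Quotient.mk_eq_zero] at hxb
      obtain ⟨a, ha⟩ := Submodule.mem_span_singleton.mp hxb
      obtain ⟨a', rfl⟩ := hsurjφ a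
      have : f (a' • v₁) = f x := by rw [map_smulₛₗ, hfv₁, ha]
      have := hf this
      rw [Submodule.mkQ_apply, Submodule.Quotient.mk_eq_zero, ← this]
      exact Submodule.smul_mem _ _ (Submodule.mem_span_singleton_self v₁)
    have hrank : Module.finrank K (V ⧸ U) = n := by
      have h1 := Submodule.finrank_quotient_add_finrank U
      have h2 : Module.finrank K U = 1 := finrank_span_singleton hv₁
      omega
    obtain ⟨hspan', hsurj'⟩ := ih (V ⧸ U) fbar hinj hrank
    -- lifting modulo `U`
    have hlift : ∀ (w₀ u : V), U.mkQ (f w₀ - w₀) = U.mkQ u → ∃ w, f w - w = u ∧ U.mkQ w = U.mkQ w₀ := by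
      intro w₀ u h
      rw [← sub_eq_zero, ← map_sub, Submodule.mkQ_apply, Submodule.Quotient.mk_eq_zero] at h
      obtain ⟨a, ha⟩ := Submodule.mem_span_singleton.mp h
      obtain ⟨x, hx⟩ := exists_phi_sub_eq hq hφ (-a)
      refine ⟨w₀ + x • v₁, ?_, ?_⟩
      · rw [map_add, map_smulₛₗ, hfv₁]
        have : f w₀ - w₀ = u + a • v₁ := by rw [ha]; abel
        calc f w₀ + φ x • v₁ - (w₀ + x • v₁) = (f w₀ - w₀) + (φ x - x) • v₁ := by
              rw [sub_smul]; abel
          _ = u := by rw [this, hx, neg_smul]; abel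
      · rw [map_add, add_eq_left, Submodule.mkQ_apply, Submodule.Quotient.mk_eq_zero]
        exact Submodule.smul_mem _ _ (Submodule.mem_span_singleton_self v₁)
    refine ⟨?_, ?_⟩
    · set S : Submodule K V := Submodule.span K {v | f v = v} with hS
      have hUS : U ≤ S := by
        rw [hU, Submodule.span_le, Set.singleton_subset_iff]
        exact Submodule.subset_span hfv₁
      have hmap : S.map U.mkQ = ⊤ := by
        rw [eq_top_iff, ← hspan', Submodule.span_le]
        intro wb hwb
        obtain ⟨w₀, rfl⟩ := U.mkQ_surjective wb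
        have hwb' : fbar (U.mkQ w₀) = U.mkQ w₀ := hwb
        obtain ⟨w, hw, hww₀⟩ := hlift w₀ 0 (by rw [map_sub, ← hfbar_mk, hwb', sub_self, map_zero])
        exact ⟨w, Submodule.subset_span (sub_eq_zero.mp hw), hww₀⟩
      rw [Submodule.map_mkQ_eq_top, sup_eq_right.mpr hUS] at hmap
      exact hmap
    · intro u
      obtain ⟨wb, hwb⟩ := hsurj' (U.mkQ u)
      obtain ⟨w₀, rfl⟩ := U.mkQ_surjective wb
      obtain ⟨w, hw, -⟩ := hlift w₀ u (by rw [map_sub, ← hfbar_mk, hwb])
      exact ⟨w, hw⟩

/-- An injective semilinear endomorphism (surjective twist) of a finite-dimensional space is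
surjective. -/
lemma surjective_of_injective' {σ : K →+* K} (hσ : Function.Surjective σ)
    [FiniteDimensional K V] (G : V →ₛₗ[σ] V) (hG : Function.Injective G) :
    Function.Surjective G := by
  have : RingHomSurjective σ := ⟨hσ⟩
  let b := Module.finBasis K V
  have hli : LinearIndependent K (G ∘ b) :=
    b.linearIndependent.map_of_surjective_injectiveₛ σ G.toAddMonoidHom hσ hG
      (fun r m => map_smulₛₗ G r m)
  have hspan : Submodule.span K (Set.range (G ∘ b)) = ⊤ :=
    hli.span_eq_top_of_card_eq_finrank' (by simp)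
  have hrange : LinearMap.range G = ⊤ := by
    rw [eq_top_iff, ← hspan, Submodule.span_le]
    rintro _ ⟨i, rfl⟩
    exact ⟨b i, rfl⟩
  exact LinearMap.range_eq_top.mp hrange

/-- Lang's lemma: a bijective Frobenius-semilinear (or inverse-Frobenius-semilinear) endomorphism of
a finite-dimensional space over an algebraically closed field has a spanning set of fixed vectors,
and `f - 1` is surjective. -/
theorem lang (hq : 2 ≤ q) (e : K ≃+* K)
    (he : (∀ x, e x = x ^ q) ∨ (∀ x, e.symm x = x ^ q))
    [FiniteDimensional K V] (f : V →ₛₗ[(e : K →+* K)] V) (hf : Function.Injective f) :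
    Submodule.span K {v | f v = v} = ⊤ ∧ ∀ u, ∃ w, f w - w = u := by
  rcases he with he | he
  · exact lang_aux (φ := (e : K →+* K)) hq (fun x => he x) _ V f hf rfl
  · have hsurj : Function.Surjective f :=
      surjective_of_injective' (σ := (e : K →+* K)) e.surjective f hf
    let E := Equiv.ofBijective f ⟨hf, hsurj⟩
    have hE : ∀ x, f (E.symm x) = x := fun x => E.apply_symm_apply x
    have hE' : ∀ x, E.symm (f x) = x := fun x => E.symm_apply_apply x
    let g : V →ₛₗ[(e.symm : K →+* K)] V :=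
      { toFun := E.symm
        map_add' := fun x y => hf (by rw [hE, map_add, hE, hE])
        map_smul' := fun c x => hf (by
          rw [hE, map_smulₛₗ, hE]
          simp) }
    have hg : ∀ x, g x = E.symm x := fun x => rfl
    have hginj : Function.Injective g := E.symm.injective
    obtain ⟨hspan, hsub⟩ := lang_aux (φ := (e.symm : K →+* K)) hq (fun x => he x) _ V g hginj rfl
    refine ⟨?_, ?_⟩
    · have : {v | f v = v} = {v | g v = v} := by
        ext v
        simp only [Set.mem_ofPred_eq, hg]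
        constructor
        · intro h; rw [← h, hE', h]
        · intro h; rw [← h, hE, h]
      rw [this]; exact hspan
    · intro u
      obtain ⟨w, hw⟩ := hsub (-u)
      refine ⟨g w, ?_⟩
      rw [hg, hE]
      rw [hg] at hw
      rw [← neg_eq_iff_eq_neg] at hw
      rw [← hw]; abel

end Groth.Agent.H8.Lang
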