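import Mathlib
import Groth.Prelude.Def_Isoc
import Groth.Agent.Lib.Helper8.Isoc.Lang
import Groth.Agent.Lib.Helper8.Isoc.Fitting

/-! The unit-root theorem: over an algebraically closed field, a `σ^b`-semilinear (`b ≠ 0`) map
`T` with `T M = M` for a lattice `M` has a spanning set of fixed vectors. -/

set_option autoImplicit false
set_option linter.unusedSectionVars false

open scoped Pointwise Isocrystal
open Isoc Module

universe u v

namespace Groth.Agent.H8.IsocLib

variable {p : ℕ} [Fact p.Prime] {k : Type u} [Field k] [CharP k p] [PerfectRing k p]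

local notation "𝕎" => WittVector p k
local notation "𝕃" => FractionRing (WittVector p k)

/-! ### Reduction modulo `p` on Witt vectors -/

lemma exists_p_mul_of_coeff_zero (w : 𝕎) (h : w.coeff 0 = 0) : ∃ w' : 𝕎, w = (p : 𝕎) * w' := by
  by_cases hw : w = 0
  · exact ⟨0, by rw [hw, mul_zero]⟩
  obtain ⟨m, b, hb, rfl⟩ := WittVector.exists_eq_pow_p_mul w hw
  rcases m with _ | m
  · rw [pow_zero, one_mul] at h
    exact absurd h hb
  · exact ⟨(p : 𝕎) ^ m * b, by rw [pow_succ']; ring⟩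

lemma constantCoeff_p : WittVector.constantCoeff ((p : ℕ) : 𝕎) = 0 := by
  rw [map_natCast]; exact CharP.cast_eq_zero k p

lemma constantCoeff_frobeniusEquiv_zpow (b : ℤ) (w : 𝕎) :
    WittVector.constantCoeff ((WittVector.frobeniusEquiv p k ^ b) w) =
      (frobeniusEquiv k p ^ b) (WittVector.constantCoeff w) := by
  have base : ∀ w : 𝕎, WittVector.constantCoeff ((WittVector.frobeniusEquiv p k) w) =
      (frobeniusEquiv k p) (WittVector.constantCoeff w) := by
    intro w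
    rw [WittVector.frobeniusEquiv_apply, frobeniusEquiv_def]
    exact WittVector.coeff_frobenius_charP (p := p) w 0
  have base' : ∀ w : 𝕎, WittVector.constantCoeff ((WittVector.frobeniusEquiv p k)⁻¹ w) =
      (frobeniusEquiv k p)⁻¹ (WittVector.constantCoeff w) := by
    intro w
    have := base ((WittVector.frobeniusEquiv p k)⁻¹ w)
    rw [RingAut.inv_apply, RingEquiv.apply_symm_apply] at this
    rw [RingAut.inv_apply, RingAut.inv_apply, this, RingEquiv.symm_apply_apply]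
  induction b using Int.induction_on generalizing w with
  | zero => simp
  | succ i ih =>
    rw [zpow_add_one, zpow_add_one, RingAut.mul_apply, RingAut.mul_apply, ih, base]
  | pred i ih =>
    rw [zpow_sub_one, zpow_sub_one, RingAut.mul_apply, RingAut.mul_apply, ih, base']

lemma frobeniusEquiv_zpow_natCast (n : ℕ) (x : k) :
    (frobeniusEquiv k p ^ (n : ℤ)) x = x ^ p ^ n := by
  induction n generalizing x with
  | zero => simp
  | succ n ih =>
    rw [Nat.cast_succ, zpow_add_one, RingAut.mul_apply, ih, frobeniusEquiv_def, ← pow_mul, pow_succ']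


/-! ### Reduction of a lattice modulo `p` -/

variable {N : Type v} [AddCommGroup N] [Module (WittVector p k) N]
  [Module (FractionRing (WittVector p k)) N]
  [IsScalarTower (WittVector p k) (FractionRing (WittVector p k)) N]
variable {τ : FractionRing (WittVector p k) →+* FractionRing (WittVector p k)}

lemma p_smul_eq (x : N) : ((p : ℕ) : 𝕎) • x = ((p : 𝕃) ^ (1 : ℤ)) • x := by
  have := zpow_natCast_smul (p := p) (k := k) 1 x
  simpa using this.symm

/-- A reduction map `M → k^n` with kernel `pM`. -/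
lemma exists_reduction {M : Submodule 𝕎 N} (hM : M.IsLattice 𝕃) :
    ∃ (n : ℕ) (ρ : N → (Fin n → k)),
      (∀ m ∈ M, ∀ m' ∈ M, ρ (m + m') = ρ m + ρ m') ∧
      (∀ (w : 𝕎), ∀ m ∈ M, ρ (w • m) = WittVector.constantCoeff w • ρ m) ∧
      (∀ x : Fin n → k, ∃ m ∈ M, ρ m = x) ∧
      (∀ m ∈ M, ρ m = 0 ↔ m ∈ pPow 1 M) := by
  have := hM
  let e := Module.finBasis 𝕎 M
  classical
  let ρ : N → (Fin (Module.finrank 𝕎 M) → k) := fun x =>
    if h : x ∈ M then (fun i => WittVector.constantCoeff (e.repr ⟨x, h⟩ i)) else 0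
  have hρ : ∀ (x : N) (h : x ∈ M), ρ x = fun i => WittVector.constantCoeff (e.repr ⟨x, h⟩ i) :=
    fun x h => dif_pos h
  refine ⟨_, ρ, ?_, ?_, ?_, ?_⟩
  · intro m hm m' hm'
    rw [hρ _ (M.add_mem hm hm'), hρ _ hm, hρ _ hm']
    funext i
    have : (⟨m + m', M.add_mem hm hm'⟩ : M) = ⟨m, hm⟩ + ⟨m', hm'⟩ := rfl
    rw [this, map_add, Finsupp.add_apply, map_add]
    rfl
  · intro w m hm
    rw [hρ _ (M.smul_mem w hm), hρ _ hm]
    funext i
    have : (⟨w • m, M.smul_mem w hm⟩ : M) = w • ⟨m, hm⟩ := rfl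
    rw [this, map_smul, Finsupp.smul_apply, smul_eq_mul, map_mul]
    rfl
  · intro x
    refine ⟨((∑ i, WittVector.teichmuller p (x i) • e i : M) : N), Submodule.coe_mem _, ?_⟩
    rw [hρ _ (Submodule.coe_mem _)]
    funext i
    have : (⟨((∑ i, WittVector.teichmuller p (x i) • e i : M) : N), Submodule.coe_mem _⟩ : M) =
        ∑ i, WittVector.teichmuller p (x i) • e i := rfl
    rw [this, e.repr_sum_self]
    exact WittVector.teichmuller_coeff_zero p (x i)
  · intro m hm
    rw [hρ _ hm]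
    constructor
    · intro h
      have h0 : ∀ i, (e.repr ⟨m, hm⟩ i).coeff 0 = 0 := fun i => congrFun h i
      choose w' hw' using fun i => exists_p_mul_of_coeff_zero (e.repr ⟨m, hm⟩ i) (h0 i)
      have h1 : (⟨m, hm⟩ : M) = ((p : ℕ) : 𝕎) • ∑ i, w' i • e i := by
        conv_lhs => rw [← e.sum_repr ⟨m, hm⟩]
        rw [Finset.smul_sum]
        refine Finset.sum_congr rfl fun i _ => ?_
        rw [hw' i, mul_smul]
      have h2 : m = ((p : ℕ) : 𝕎) • ((∑ i, w' i • e i : M) : N) := by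
        have := congrArg (Subtype.val) h1
        simpa using this
      rw [h2, p_smul_eq]
      exact smul_mem_pPow (Submodule.coe_mem _)
    · intro h
      obtain ⟨m', hm', hmm'⟩ := mem_pPow.mp h
      rw [← p_smul_eq] at hmm'
      have h1 : (⟨m, hm⟩ : M) = ((p : ℕ) : 𝕎) • ⟨m', hm'⟩ := Subtype.ext hmm'.symm
      funext i
      rw [h1, map_smul, Finsupp.smul_apply, smul_eq_mul, map_mul, constantCoeff_p, zero_mul]
      rfl


/-! ### The unit-root theorem -/

theorem span_fixed_eq [IsAlgClosed k] [IsWTwist τ] {b : ℤ} (hb : b ≠ 0)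
    (hτ : ∀ w : 𝕎, τ (algebraMap 𝕎 𝕃 w) =
      algebraMap 𝕎 𝕃 ((WittVector.frobeniusEquiv p k ^ b) w))
    {T : N →ₛₗ[τ] N} (hT : Function.Injective T) {M : Submodule 𝕎 N} (hM : M.IsLattice 𝕃)
    (hTM : latImg T 1 M = M) :
    Submodule.span 𝕎 {x | x ∈ M ∧ T x = x} = M := by
  obtain ⟨n, ρ, hadd, hsmul, hsurj, hker⟩ := exists_reduction hM
  -- basic facts on `T`
  have hTw : ∀ (w : 𝕎) (x : N), T (w • x) = ((WittVector.frobeniusEquiv p k ^ b) w) • T x := by
    intro w x
    rw [← algebraMap_smul 𝕃 w x, map_smulₛₗ, hτ, algebraMap_smul]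
  have hTmem : ∀ x ∈ M, T x ∈ M := by
    intro x hx
    have : (⇑T)^[1] x ∈ latImg T 1 M := iterate_mem_latImg hx
    rwa [hTM] at this
  have hTsurj : ∀ y ∈ M, ∃ x ∈ M, T x = y := by
    intro y hy
    rw [← hTM] at hy
    obtain ⟨x, hx, hxy⟩ := mem_latImg.mp hy
    exact ⟨x, hx, hxy⟩
  have hTpj : ∀ (r : ℤ), ∀ y ∈ pPow r M, T y ∈ pPow r M := by
    intro r y hy
    obtain ⟨m, hm, rfl⟩ := mem_pPow.mp hy
    rw [map_p_zpow_smul]
    exact smul_mem_pPow (hTmem m hm)
  have hle : ∀ j : ℕ, pPow (1 + (j : ℤ)) M ≤ M := fun j =>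
    (pPow_anti (by positivity) M).trans (pPow_zero M).le
  -- derived facts on `ρ`
  have hρ0 : ρ 0 = 0 := by
    have := hsmul 0 0 M.zero_mem
    simpa using this
  have hρneg : ∀ m ∈ M, ρ (-m) = -ρ m := by
    intro m hm
    have := hsmul (-1) m hm
    rwa [neg_one_smul, map_neg, map_one, neg_one_smul] at this
  have hρsub : ∀ m ∈ M, ∀ m' ∈ M, ρ (m - m') = ρ m - ρ m' := by
    intro m hm m' hm'
    rw [sub_eq_add_neg, hadd m hm (-m') (M.neg_mem hm'), hρneg m' hm', sub_eq_add_neg]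
  have hρeq : ∀ m ∈ M, ∀ m' ∈ M, (ρ m = ρ m' ↔ m - m' ∈ pPow 1 M) := by
    intro m hm m' hm'
    rw [← hker _ (M.sub_mem hm hm'), hρsub m hm m' hm', sub_eq_zero]
  -- the reduced map
  choose g hgM hg using hsurj
  have hfρ : ∀ m ∈ M, ρ (T (g (ρ m))) = ρ (T m) := by
    intro m hm
    rw [hρeq _ (hTmem _ (hgM _)) _ (hTmem _ hm), ← map_sub]
    apply hTpj
    rw [← hρeq _ (hgM _) _ hm, hg]
  let fbar : (Fin n → k) →ₛₗ[((frobeniusEquiv k p ^ b : k ≃+* k) : k →+* k)] (Fin n → k) :=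
    { toFun := fun x => ρ (T (g x))
      map_add' := by
        intro x y
        have h1 := hfρ (g x + g y) (M.add_mem (hgM x) (hgM y))
        rw [hadd _ (hgM x) _ (hgM y), hg, hg] at h1
        rw [h1, map_add, hadd _ (hTmem _ (hgM x)) _ (hTmem _ (hgM y))]
      map_smul' := by
        intro c x
        have hw : WittVector.constantCoeff (WittVector.teichmuller p c) = c :=
          WittVector.teichmuller_coeff_zero p c
        have h1 := hfρ (WittVector.teichmuller p c • g x) (M.smul_mem _ (hgM x))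
        rw [hsmul _ _ (hgM x), hg, hw] at h1
        rw [h1, hTw, hsmul _ _ (hTmem _ (hgM x)), constantCoeff_frobeniusEquiv_zpow, hw]
        rfl }
  have hfbar : ∀ m ∈ M, fbar (ρ m) = ρ (T m) := hfρ
  have hinj : Function.Injective fbar := by
    rw [injective_iff_map_eq_zero]
    intro x hx
    obtain ⟨m, hm, rfl⟩ : ∃ m ∈ M, ρ m = x := ⟨g x, hgM x, hg x⟩
    rw [hfbar m hm, hker _ (hTmem m hm)] at hx
    obtain ⟨m₁, hm₁, h1⟩ := mem_pPow.mp hx
    obtain ⟨m₂, hm₂, rfl⟩ := hTsurj m₁ hm₁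
    rw [← map_p_zpow_smul] at h1
    have := hT h1
    rw [hker m hm, ← this]
    exact smul_mem_pPow hm₂
  -- Lang's lemma
  obtain ⟨q, hq, he⟩ : ∃ q : ℕ, 2 ≤ q ∧ ((∀ x, (frobeniusEquiv k p ^ b) x = x ^ q) ∨
      (∀ x, (frobeniusEquiv k p ^ b).symm x = x ^ q)) := by
    have hp2 : 2 ≤ p := (Fact.out : p.Prime).two_le
    have hpow : ∀ n' : ℕ, n' ≠ 0 → 2 ≤ p ^ n' := fun n' hn' =>
      calc 2 ≤ p := hp2
        _ = p ^ 1 := (pow_one p).symm
        _ ≤ p ^ n' := Nat.pow_le_pow_right (by omega) (by omega)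
    rcases lt_or_gt_of_ne hb with hneg | hpos
    · obtain ⟨n', hn'⟩ : ∃ n' : ℕ, b = -(n' : ℤ) := ⟨(-b).toNat, by omega⟩
      have hn'0 : n' ≠ 0 := by rintro rfl; simp at hn'; omega
      refine ⟨p ^ n', hpow n' hn'0, Or.inr fun x => ?_⟩
      rw [hn', zpow_neg, ← RingAut.inv_apply, inv_inv]
      exact frobeniusEquiv_zpow_natCast n' x
    · obtain ⟨n', hn'⟩ : ∃ n' : ℕ, b = (n' : ℤ) := ⟨b.toNat, by omega⟩
      have hn'0 : n' ≠ 0 := by rintro rfl; simp at hn'; omega
      refine ⟨p ^ n', hpow n' hn'0, Or.inl fun x => ?_⟩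
      rw [hn']
      exact frobeniusEquiv_zpow_natCast n' x
  obtain ⟨hspan, hsub⟩ := Lang.lang hq (frobeniusEquiv k p ^ b) he fbar hinj
  -- lifting fixed vectors
  have hlift : ∀ xb, fbar xb = xb → ∃ v ∈ M, T v = v ∧ ρ v = xb := by
    intro xb hxb
    have hstep : ∀ (i : ℕ) (v : N),
        (v ∈ M ∧ ρ v = xb ∧ T v - v ∈ pPow (1 + (i : ℤ)) M) →
        ∃ v', (v' ∈ M ∧ ρ v' = xb ∧ T v' - v' ∈ pPow (1 + ((i + 1 : ℕ) : ℤ)) M) ∧
          v' - v ∈ pPow (1 + (i : ℤ)) M := by
      rintro i v ⟨hvM, hρv, hTv⟩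
      obtain ⟨u, hu, hu'⟩ := mem_pPow.mp hTv
      obtain ⟨wb, hwb⟩ := hsub (-ρ u)
      have hwM := hgM wb
      have hpw : ((p : 𝕃) ^ (1 + (i : ℤ))) • g wb ∈ M := hle i (smul_mem_pPow hwM)
      have hcast : ((p : 𝕃) ^ (1 + (i : ℤ))) • g wb = (((p : ℕ) : 𝕎) ^ (i + 1)) • g wb := by
        have := zpow_natCast_smul (p := p) (k := k) (i + 1) (g wb)
        rw [← this]
        congr 2
        push_cast; ring
      have hρpw : ρ (((p : 𝕃) ^ (1 + (i : ℤ))) • g wb) = 0 := by
        rw [hcast, hsmul _ _ hwM, map_pow, constantCoeff_p, zero_pow (Nat.succ_ne_zero i),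
          zero_smul]
      refine ⟨v + ((p : 𝕃) ^ (1 + (i : ℤ))) • g wb, ⟨M.add_mem hvM hpw, ?_, ?_⟩, ?_⟩
      · rw [hadd _ hvM _ hpw, hρpw, add_zero, hρv]
      · have h1 : T (v + ((p : 𝕃) ^ (1 + (i : ℤ))) • g wb) -
            (v + ((p : 𝕃) ^ (1 + (i : ℤ))) • g wb) =
            ((p : 𝕃) ^ (1 + (i : ℤ))) • (u + (T (g wb) - g wb)) := by
          rw [map_add, map_p_zpow_smul, smul_add, smul_sub, hu']; abel
        have h2 : u + (T (g wb) - g wb) ∈ pPow 1 M := by
          have hTwM := hTmem _ hwM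
          rw [← hker _ (M.add_mem hu (M.sub_mem hTwM hwM)), hadd _ hu _ (M.sub_mem hTwM hwM),
            hρsub _ hTwM _ hwM, ← hfbar _ hwM, hg, hwb]
          abel
        rw [h1]
        have := smul_mem_pPow (r := 1 + (i : ℤ)) h2
        rw [pPow_pPow] at this
        convert this using 2
        push_cast; ring
      · rw [add_sub_cancel_left]; exact smul_mem_pPow hwM
    have h₀ : g xb ∈ M ∧ ρ (g xb) = xb ∧ T (g xb) - g xb ∈ pPow (1 + ((0 : ℕ) : ℤ)) M := by
      refine ⟨hgM xb, hg xb, ?_⟩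
      have hTM' := hTmem _ (hgM xb)
      have : T (g xb) - g xb ∈ pPow 1 M := by
        rw [← hker _ (M.sub_mem hTM' (hgM xb)), hρsub _ hTM' _ (hgM xb), ← hfbar _ (hgM xb), hg,
          hxb, sub_self]
      simpa using this
    obtain ⟨x, hx0, hxP, hxR⟩ := exists_seq_of_step
      (fun (i : ℕ) (v : N) => v ∈ M ∧ ρ v = xb ∧ T v - v ∈ pPow (1 + (i : ℤ)) M)
      (fun (i : ℕ) (v v' : N) => v' - v ∈ pPow (1 + (i : ℤ)) M) (g xb) h₀ hstep
    obtain ⟨z, hz⟩ := exists_limit hM x 1 hxR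
    have hz0 : z - x 0 ∈ pPow 1 M := by simpa using hz 0
    have hzM : z ∈ M := by
      have : z = (z - x 0) + x 0 := by abel
      rw [this]
      exact M.add_mem ((hle 0) (by simpa using hz0)) (hxP 0).1
    refine ⟨z, hzM, ?_, ?_⟩
    · rw [← sub_eq_zero]
      apply eq_zero_of_forall_mem_pPow hM.fg
      intro j
      have h1 : T z - z = (T (z - x j) - (z - x j)) + (T (x j) - x j) := by
        rw [map_sub]; abel
      rw [h1]
      refine pPow_anti (by omega : (j : ℤ) ≤ 1 + j) M ?_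
      exact Submodule.add_mem _ (Submodule.sub_mem _ (hTpj _ _ (hz j)) (hz j)) (hxP j).2.2
    · rw [← (hxP 0).2.1]
      exact (hρeq _ hzM _ (hxP 0).1).mpr hz0
  -- conclusion by Nakayama
  apply le_antisymm
  · rw [Submodule.span_le]; exact fun x hx => hx.1
  · have hM'M : Submodule.span 𝕎 {x | x ∈ M ∧ T x = x} ≤ M := by
      rw [Submodule.span_le]; exact fun x hx => hx.1
    have hρM' : ∀ y ∈ Submodule.span k {v | fbar v = v},
        ∃ m' ∈ Submodule.span 𝕎 {x | x ∈ M ∧ T x = x}, ρ m' = y := by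
      intro y hy
      induction hy using Submodule.span_induction with
      | mem y hy =>
        obtain ⟨v, hvM, hTv, hρv⟩ := hlift y hy
        exact ⟨v, Submodule.subset_span ⟨hvM, hTv⟩, hρv⟩
      | zero => exact ⟨0, Submodule.zero_mem _, hρ0⟩
      | add y z _ _ hy hz =>
        obtain ⟨a, ha, rfl⟩ := hy
        obtain ⟨b', hb', rfl⟩ := hz
        exact ⟨a + b', Submodule.add_mem _ ha hb', hadd _ (hM'M ha) _ (hM'M hb')⟩
      | smul c y _ hy =>
        obtain ⟨a, ha, rfl⟩ := hy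
        refine ⟨WittVector.teichmuller p c • a, Submodule.smul_mem _ _ ha, ?_⟩
        rw [hsmul _ _ (hM'M ha)]
        have hw : WittVector.constantCoeff (WittVector.teichmuller p c) = c :=
          WittVector.teichmuller_coeff_zero p c
        rw [hw]
    apply Submodule.le_of_le_smul_of_le_jacobson_bot (I := Ideal.span {((p : ℕ) : 𝕎)}) hM.fg
    · rw [IsLocalRing.jacobson_eq_maximalIdeal ⊥ bot_ne_top, Ideal.span_singleton_le_iff_mem,
        IsLocalRing.mem_maximalIdeal, mem_nonunits_iff]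
      exact (WittVector.irreducible p).not_isUnit
    · intro m hm
      obtain ⟨m', hm', hρm'⟩ := hρM' (ρ m) (by rw [hspan]; trivial)
      have hmm' : m - m' ∈ pPow 1 M := (hρeq m hm m' (hM'M hm')).mp hρm'.symm
      obtain ⟨m₁, hm₁, h1⟩ := mem_pPow.mp hmm'
      rw [← p_smul_eq] at h1
      have : m = m' + ((p : ℕ) : 𝕎) • m₁ := by rw [h1]; abel
      rw [this]
      exact Submodule.add_mem_sup hm'
        (Submodule.smul_mem_smul (Ideal.mem_span_singleton_self _) hm₁)

end Groth.Agent.H8.IsocLib
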