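import Mathlib
import Groth.Prelude.Def_Isoc
import Groth.Agent.Lib.Helper8.Isoc.UnitRoot
import Groth.Agent.Lib.Helper8.Isoc.Decomp
import Groth.Agent.Lib.Helper8.Isoc.Finite

/-! Stable complements: semisimplicity of the category of isocrystals over an algebraically closed
field (twist `σ^a`, `a ≠ 0`). -/

set_option autoImplicit false
set_option linter.unusedSectionVars false

open scoped Pointwise Isocrystal
open Isoc Module

universe u v

namespace Groth.Agent.H8.IsocLib

variable {p : ℕ} [Fact p.Prime] {k : Type u} [Field k] [CharP k p] [PerfectRing k p]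
variable {N : Type v} [AddCommGroup N] [Module (WittVector p k) N]
  [Module (FractionRing (WittVector p k)) N]
  [IsScalarTower (WittVector p k) (FractionRing (WittVector p k)) N]
variable {τ τ' : FractionRing (WittVector p k) →+* FractionRing (WittVector p k)}

local notation "𝕎" => WittVector p k
local notation "𝕃" => FractionRing (WittVector p k)

/-! ### Complements from fixed vectors -/

theorem exists_stable_compl_of_fixed_span {T : N →ₛₗ[τ] N} {P : Submodule 𝕃 N}
    (hP : Submodule.span 𝕃 {x | T x = x ∧ x ∈ P} = P)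
    (hN : Submodule.span 𝕃 {x | T x = x} = ⊤) :
    ∃ Q₀ : Submodule 𝕃 N, (∀ x ∈ Q₀, T x ∈ Q₀) ∧ IsCompl P Q₀ := by
  obtain ⟨bP, hbP, hspanP, hliP⟩ := exists_linearIndependent 𝕃 {x | T x = x ∧ x ∈ P}
  have hliP' : LinearIndepOn 𝕃 id bP := hliP
  have hbS : bP ⊆ {x | T x = x} := fun x hx => (hbP hx).1
  obtain ⟨b, hbS', hbPb, hSb, hli⟩ := exists_linearIndepOn_id_extension hliP' hbS
  refine ⟨Submodule.span 𝕃 (b \ bP), ?_, ?_⟩
  · intro x hx
    induction hx using Submodule.span_induction with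
    | mem x hx =>
      have : T x = x := hbS' hx.1
      rw [this]; exact Submodule.subset_span hx
    | zero => rw [map_zero]; exact Submodule.zero_mem _
    | add x y _ _ hx hy => rw [map_add]; exact Submodule.add_mem _ hx hy
    | smul c x _ hx => rw [map_smulₛₗ]; exact Submodule.smul_mem _ _ hx
  · rw [← hP, ← hspanP]
    have hunion : bP ∪ (b \ bP) = b := Set.union_sdiff_cancel hbPb
    constructor
    · have := (linearIndepOn_id_union_iff (R := 𝕃) (s := bP) (t := b \ bP)
        Set.disjoint_sdiff_right).mp (by rw [hunion]; exact hli)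
      exact this.2.2
    · rw [codisjoint_iff, ← Submodule.span_union, hunion, eq_top_iff, ← hN]
      exact Submodule.span_le.mpr hSb

/-! ### Conjugation by a bijective semilinear map -/

section Conj

variable [IsWTwist τ] {F : N →ₛₗ[τ] N} (hF : Function.Bijective F)

/-- Conjugation `π ↦ F ∘ π ∘ F⁻¹` on linear endomorphisms. -/
noncomputable def conjHom (hF : Function.Bijective F) : (N →ₗ[𝕃] N) →+ (N →ₗ[𝕃] N) where
  toFun π :=
    { toFun := fun x => F (π ((Equiv.ofBijective F hF).symm x))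
      map_add' := by
        intro x y
        have : (Equiv.ofBijective F hF).symm (x + y) =
            (Equiv.ofBijective F hF).symm x + (Equiv.ofBijective F hF).symm y := by
          apply hF.1
          have hFG : ∀ z, F ((Equiv.ofBijective F hF).symm z) = z :=
            Equiv.ofBijective_apply_symm_apply (⇑F) hF
          rw [hFG, map_add, hFG, hFG]
        rw [this, map_add, map_add]
      map_smul' := by
        intro c x
        obtain ⟨c', rfl⟩ := IsWTwist.surjective τ c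
        have : (Equiv.ofBijective F hF).symm (τ c' • x) =
            c' • (Equiv.ofBijective F hF).symm x := by
          apply hF.1
          have hFG : ∀ z, F ((Equiv.ofBijective F hF).symm z) = z :=
            Equiv.ofBijective_apply_symm_apply (⇑F) hF
          rw [hFG, map_smulₛₗ, hFG]
        rw [this, map_smul, map_smulₛₗ]
        rfl }
  map_zero' := by
    ext x
    simp
  map_add' π π' := by
    ext x
    simp

lemma conjHom_apply (π : N →ₗ[𝕃] N) (x : N) :
    conjHom hF π (F x) = F (π x) := by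
  show F (π ((Equiv.ofBijective F hF).symm (F x))) = _
  rw [show (Equiv.ofBijective F hF).symm (F x) = x from
    (Equiv.ofBijective F hF).symm_apply_apply x]

lemma conjHom_iterate_apply (π : N →ₗ[𝕃] N) (i : ℕ) (x : N) :
    ((conjHom hF)^[i] π) ((⇑F)^[i] x) = (⇑F)^[i] (π x) := by
  induction i generalizing x with
  | zero => rfl
  | succ i ih =>
    rw [Function.iterate_succ_apply', Function.iterate_succ_apply', conjHom_apply, ih,
      Function.iterate_succ_apply']

lemma conjHom_natCast_inv_smul (n : ℕ) (π : N →ₗ[𝕃] N) :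
    conjHom hF (((n : 𝕃)⁻¹) • π) = ((n : 𝕃)⁻¹) • conjHom hF π := by
  ext y
  obtain ⟨x, rfl⟩ := hF.2 y
  rw [conjHom_apply, LinearMap.smul_apply, LinearMap.smul_apply, conjHom_apply, map_smulₛₗ,
    map_inv₀, map_natCast]

end Conj


/-! ### Averaging -/

lemma restrict_iterate_coe {F : N →ₛₗ[τ] N} {P : Submodule 𝕃 N} (hP : ∀ x ∈ P, F x ∈ P)
    (i : ℕ) (x : P) : (((⇑(F.restrict hP))^[i] x : P) : N) = (⇑F)^[i] (x : N) :=
  Function.Semiconj.iterate_right (f := (Subtype.val : P → N)) (ga := F.restrict hP) (gb := F)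
    (fun _ => rfl) i x

theorem exists_stable_compl_of_iter [IsWTwist τ] [FiniteDimensional 𝕃 N] {F : N →ₛₗ[τ] N}
    (hF : Function.Bijective F) {P : Submodule 𝕃 N} (hP : ∀ x ∈ P, F x ∈ P) {m : ℤ} {s : ℕ}
    (hs : 0 < s) {Q₀ : Submodule 𝕃 N}
    (hQ₀ : ∀ x ∈ Q₀, ((p : 𝕃) ^ m • iter F s) x ∈ Q₀) (hc : IsCompl P Q₀) :
    ∃ Q : Submodule 𝕃 N, (∀ x ∈ Q, F x ∈ Q) ∧ IsCompl P Q := by
  set π₀ : N →ₗ[𝕃] N := P.projection Q₀ hc with hπ₀
  have h0P : ∀ x, π₀ x ∈ P := fun x => Submodule.projection_apply_mem hc x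
  have h0id : ∀ x ∈ P, π₀ x = x := fun x hx => Submodule.projection_apply_of_mem_left hc hx
  have h0Q : ∀ x ∈ Q₀, π₀ x = 0 := fun x hx => (Submodule.projection_apply_eq_zero_iff hc).mpr hx
  have hPi : ∀ (i : ℕ), ∀ x ∈ P, (⇑F)^[i] x ∈ P := by
    intro i x hx
    induction i with
    | zero => exact hx
    | succ i ih => rw [Function.iterate_succ_apply']; exact hP _ ih
  have hQs : ∀ x ∈ Q₀, (⇑F)^[s] x ∈ Q₀ := by
    intro x hx
    have h1 := hQ₀ x hx
    rw [smul_iter_apply] at h1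
    have : (⇑F)^[s] x = ((p : 𝕃) ^ (-m)) • (((p : 𝕃) ^ m) • (⇑F)^[s] x) := by
      rw [smul_smul, ← zpow_add₀ p_ne_zero]; simp
    rw [this]
    exact Q₀.smul_mem _ h1
  have hadd : ∀ (i : ℕ) (x y : N), (⇑F)^[i] (x + y) = (⇑F)^[i] x + (⇑F)^[i] y :=
    fun i x y => map_add (iter F i) x y
  have hcomm : ∀ x, π₀ ((⇑F)^[s] x) = (⇑F)^[s] (π₀ x) := by
    intro x
    obtain ⟨y, hy, z, hz, rfl⟩ : ∃ y ∈ P, ∃ z ∈ Q₀, y + z = x :=
      Submodule.mem_sup.mp (by rw [hc.sup_eq_top]; trivial)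
    rw [hadd, map_add, map_add, h0id _ (hPi s y hy), h0Q _ (hQs z hz), h0id y hy, h0Q z hz,
      add_zero, add_zero]
  -- surjectivity of iterates on `P`
  have hsurjP : ∀ (i : ℕ), ∀ x ∈ P, ∃ y ∈ P, (⇑F)^[i] y = x := by
    intro i x hx
    have h1 : Function.Surjective (F.restrict hP) :=
      surjective_of_injective _ (fun a b hab => Subtype.ext (hF.1 (congrArg Subtype.val hab)))
    obtain ⟨y, hy⟩ := h1.iterate i ⟨x, hx⟩
    refine ⟨y, y.2, ?_⟩
    rw [← restrict_iterate_coe hP i y, hy]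
  set a : ℕ → (N →ₗ[𝕃] N) := fun i => (conjHom hF)^[i] π₀ with ha
  have haP : ∀ i x, a i x ∈ P := by
    intro i x
    obtain ⟨y, rfl⟩ := (hF.2.iterate i) x
    rw [ha]
    show ((conjHom hF)^[i] π₀) ((⇑F)^[i] y) ∈ P
    rw [conjHom_iterate_apply]
    exact hPi i _ (h0P y)
  have haid : ∀ i, ∀ x ∈ P, a i x = x := by
    intro i x hx
    obtain ⟨y, hy, rfl⟩ := hsurjP i x hx
    show ((conjHom hF)^[i] π₀) ((⇑F)^[i] y) = _
    rw [conjHom_iterate_apply, h0id y hy]
  have hper : a s = a 0 := by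
    ext x
    obtain ⟨y, rfl⟩ := (hF.2.iterate s) x
    show ((conjHom hF)^[s] π₀) ((⇑F)^[s] y) = π₀ ((⇑F)^[s] y)
    rw [conjHom_iterate_apply, hcomm]
  have hs0 : (s : 𝕃) ≠ 0 := by exact_mod_cast hs.ne'
  set π : N →ₗ[𝕃] N := ((s : 𝕃)⁻¹) • ∑ i ∈ Finset.range s, a i with hπ
  have hπP : ∀ x, π x ∈ P := by
    intro x
    rw [hπ, LinearMap.smul_apply, LinearMap.sum_apply]
    exact P.smul_mem _ (Submodule.sum_mem _ fun i _ => haP i x)
  have hπid : ∀ x ∈ P, π x = x := by
    intro x hx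
    rw [hπ, LinearMap.smul_apply, LinearMap.sum_apply,
      Finset.sum_congr rfl (fun i _ => haid i x hx), Finset.sum_const, Finset.card_range,
      ← Nat.cast_smul_eq_nsmul 𝕃, smul_smul, inv_mul_cancel₀ hs0, one_smul]
  have hconj : conjHom hF π = π := by
    rw [hπ, conjHom_natCast_inv_smul, map_sum]
    congr 1
    have h1 : ∀ i ∈ Finset.range s, conjHom hF (a i) = a (i + 1) := by
      intro i _
      rw [ha]
      exact (Function.iterate_succ_apply' (conjHom hF) i π₀).symm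
    rw [Finset.sum_congr rfl h1]
    have h2 := Finset.sum_range_succ' a s
    rw [Finset.sum_range_succ, hper] at h2
    exact (add_right_cancel h2).symm
  have hFπ : ∀ x, π (F x) = F (π x) := by
    intro x
    rw [← conjHom_apply hF π x, hconj]
  refine ⟨LinearMap.ker π, ?_, ?_⟩
  · intro x hx
    rw [LinearMap.mem_ker] at hx ⊢
    rw [hFπ, hx, map_zero]
  · have := LinearMap.isCompl_of_proj (f := π.codRestrict P hπP)
      (fun x => Subtype.ext (hπid x x.2))
    rwa [LinearMap.ker_codRestrict] at this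


/-! ### The isoclinic case -/

lemma frob_pow_algebraMap (a : ℤ) (n : ℕ) (w : 𝕎) :
    (Isoc.frob p k a ^ n) (algebraMap 𝕎 𝕃 w) =
      algebraMap 𝕎 𝕃 ((WittVector.frobeniusEquiv p k ^ (a * (n : ℤ))) w) := by
  induction n generalizing w with
  | zero => simp
  | succ n ih =>
    rw [pow_succ, RingHom.coe_mul, Function.comp_apply, Isoc.frob_algebraMap, ih,
      ← RingAut.mul_apply, ← zpow_add]
    congr 3
    push_cast; ring

lemma span_fixed_eq_top_of_span_eq {T : N →ₛₗ[τ] N} {M : Submodule 𝕎 N} (hM : M.IsLattice 𝕃)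
    (h : Submodule.span 𝕎 {x | x ∈ M ∧ T x = x} = M) :
    Submodule.span 𝕃 {x | T x = x} = ⊤ := by
  rw [eq_top_iff, ← hM.span_eq_top, Submodule.span_le]
  intro m hm
  rw [SetLike.mem_coe, ← h] at hm
  have h1 := Submodule.span_le_restrictScalars 𝕎 𝕃 {x | x ∈ M ∧ T x = x} hm
  exact Submodule.span_mono (fun x hx => hx.2) h1

theorem exists_stable_compl_of_isIsoclinic [IsAlgClosed k] {a : ℤ} (ha : a ≠ 0)
    [FiniteDimensional 𝕃 N] {F : N →ₛₗ[Isoc.frob p k a] N} (hF : Function.Bijective F) {μ : ℚ}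
    (hμ : IsIsoclinic F μ) {P : Submodule 𝕃 N} (hP : ∀ x ∈ P, F x ∈ P) :
    ∃ Q : Submodule 𝕃 N, (∀ x ∈ Q, F x ∈ Q) ∧ IsCompl P Q := by
  have hμP := isIsoclinic_restrict hF.1 hμ hP
  obtain ⟨M, hM, r, s, hs, hrs, hFM⟩ := hμ
  obtain ⟨M', hM', r', s', hs', hrs', hFM'⟩ := hμP
  have hrr : r * (s' : ℤ) = r' * (s : ℤ) := by
    have h1 : (s : ℚ) ≠ 0 := by exact_mod_cast hs.ne'
    have h2 : (s' : ℚ) ≠ 0 := by exact_mod_cast hs'.ne'
    have h3 : (r : ℚ) / s = r' / s' := hrs.trans hrs'.symm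
    rw [div_eq_div_iff h1 h2] at h3
    exact_mod_cast h3
  have hSpos : 0 < s * s' := Nat.mul_pos hs hs'
  have hFMS : latImg F (s * s') M = pPow (r * (s' : ℤ)) M := latImg_mul_eq hFM s'
  have hFMS' : latImg (F.restrict hP) (s * s') M' = pPow (r * (s' : ℤ)) M' := by
    have := latImg_mul_eq hFM' s
    rwa [mul_comm s' s, ← hrr] at this
  have hFPinj : Function.Injective (F.restrict hP) :=
    fun x y hxy => Subtype.ext (hF.1 (congrArg Subtype.val hxy))
  have hFP : Function.Bijective (F.restrict hP) := ⟨hFPinj, surjective_of_injective _ hFPinj⟩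
  obtain ⟨T, hTdef⟩ : ∃ T : N →ₛₗ[Isoc.frob p k a ^ (s * s')] N,
      T = (p : 𝕃) ^ (-(r * (s' : ℤ))) • iter F (s * s') := ⟨_, rfl⟩
  obtain ⟨TP, hTPdef⟩ : ∃ TP : P →ₛₗ[Isoc.frob p k a ^ (s * s')] P,
      TP = (p : 𝕃) ^ (-(r * (s' : ℤ))) • iter (F.restrict hP) (s * s') := ⟨_, rfl⟩
  have hTbij : Function.Bijective T := by rw [hTdef]; exact smul_iter_bijective hF _ _
  have hTPbij : Function.Bijective TP := by rw [hTPdef]; exact smul_iter_bijective hFP _ _
  have hTM : latImg T 1 M = M := by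
    rw [hTdef, latImg_smul_iter, mul_one, hFMS, pPow_pPow]
    simp
  have hTM' : latImg TP 1 M' = M' := by
    rw [hTPdef, latImg_smul_iter, mul_one, hFMS', pPow_pPow]
    simp
  have hS0 : a * ((s * s' : ℕ) : ℤ) ≠ 0 := mul_ne_zero ha (by exact_mod_cast hSpos.ne')
  have hτ := fun w : 𝕎 => frob_pow_algebraMap (p := p) (k := k) a (s * s') w
  have hfixN := span_fixed_eq hS0 hτ hTbij.1 hM hTM
  have hfixP := span_fixed_eq hS0 hτ hTPbij.1 hM' hTM'
  have hN' : Submodule.span 𝕃 {x | T x = x} = ⊤ := span_fixed_eq_top_of_span_eq hM hfixN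
  have hPtop : Submodule.span 𝕃 {x | TP x = x} = ⊤ := span_fixed_eq_top_of_span_eq hM' hfixP
  have hTPval : ∀ x : P, ((TP x : P) : N) = T (x : N) := by
    intro x
    rw [hTPdef, hTdef, smul_iter_apply, smul_iter_apply, Submodule.coe_smul,
      restrict_iterate_coe]
  have hP' : Submodule.span 𝕃 {x | T x = x ∧ x ∈ P} = P := by
    apply le_antisymm
    · rw [Submodule.span_le]; exact fun x hx => hx.2
    · intro y hy
      have h1 : (⟨y, hy⟩ : P) ∈ Submodule.span 𝕃 {x | TP x = x} := by rw [hPtop]; trivial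
      have h2 := Submodule.apply_mem_span_image_of_mem_span P.subtype h1
      refine Submodule.span_mono ?_ h2
      rintro _ ⟨x, hx, rfl⟩
      refine ⟨?_, x.2⟩
      rw [Submodule.subtype_apply, ← hTPval, hx]
  obtain ⟨Q₀, hQ₀, hc⟩ := exists_stable_compl_of_fixed_span hP' hN'
  exact exists_stable_compl_of_iter hF hP hSpos (by rw [← hTdef]; exact hQ₀) hc


/-! ### The general case -/

theorem exists_stable_compl [IsAlgClosed k] {a : ℤ} (ha : a ≠ 0) [FiniteDimensional 𝕃 N]
    {F : N →ₛₗ[Isoc.frob p k a] N} (hF : Function.Bijective F)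
    {P : Submodule 𝕃 N} (hP : ∀ x ∈ P, F x ∈ P) :
    ∃ Q : Submodule 𝕃 N, (∀ x ∈ Q, F x ∈ Q) ∧ IsCompl P Q := by
  have hFPinj : Function.Injective (F.restrict hP) :=
    fun x y hxy => Subtype.ext (hF.1 (congrArg Subtype.val hxy))
  -- decomposition of `P`
  have hsum : P ≤ ⨆ μ : ℚ, P ⊓ slopePart F μ := by
    have h1 := iSup_slopePart_eq_top (F := F.restrict hP) hFPinj
    intro y hy
    have h2 : (⟨y, hy⟩ : P) ∈ ⨆ μ : ℚ, slopePart (F.restrict hP) μ := by rw [h1]; trivial
    have h3 : y ∈ (⨆ μ : ℚ, slopePart (F.restrict hP) μ).map P.subtype := ⟨⟨y, hy⟩, h2, rfl⟩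
    rw [Submodule.map_iSup] at h3
    suffices hle : ∀ μ : ℚ, (slopePart (F.restrict hP) μ).map P.subtype ≤ P ⊓ slopePart F μ from
      (iSup_mono hle) h3
    intro μ
    apply le_inf
    · rintro _ ⟨x, -, rfl⟩; exact x.2
    · apply le_slopePart _
        (isoclinicOn_map_subtype hP (slopePart_isoclinicOn (F.restrict hP) μ))
      rintro _ ⟨x, hx, rfl⟩
      exact ⟨F.restrict hP x, slopePart_stable (F.restrict hP) μ x hx, rfl⟩
  -- complements in the isoclinic parts
  have hex : ∀ μ : ℚ, ∃ Qμ : Submodule 𝕃 N, (∀ x ∈ Qμ, F x ∈ Qμ) ∧ Qμ ≤ slopePart F μ ∧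
      (P ⊓ slopePart F μ) ⊓ Qμ = ⊥ ∧ (P ⊓ slopePart F μ) ⊔ Qμ = slopePart F μ := by
    intro μ
    obtain ⟨hst, hiso⟩ := slopePart_isIsoclinic F μ
    have hinj : Function.Injective (F.restrict hst) :=
      fun x y hxy => Subtype.ext (hF.1 (congrArg Subtype.val hxy))
    have hbij : Function.Bijective (F.restrict hst) := ⟨hinj, surjective_of_injective _ hinj⟩
    have hPμ : ∀ x ∈ P.comap (slopePart F μ).subtype,
        (F.restrict hst) x ∈ P.comap (slopePart F μ).subtype := fun x hx => hP _ hx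
    obtain ⟨Q', hQ', hc⟩ := exists_stable_compl_of_isIsoclinic ha hbij hiso hPμ
    have hmap : P ⊓ slopePart F μ = (P.comap (slopePart F μ).subtype).map (slopePart F μ).subtype := by
      rw [Submodule.map_comap_subtype, inf_comm]
    refine ⟨Q'.map (slopePart F μ).subtype, ?_, ?_, ?_, ?_⟩
    · rintro _ ⟨x, hx, rfl⟩
      exact ⟨F.restrict hst x, hQ' x hx, rfl⟩
    · rintro _ ⟨x, -, rfl⟩; exact x.2
    · rw [hmap, ← Submodule.map_inf _ (slopePart F μ).injective_subtype, hc.inf_eq_bot,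
        Submodule.map_bot]
    · rw [hmap, ← Submodule.map_sup, hc.sup_eq_top, Submodule.map_subtype_top]
  choose Q hQst hQle hQinf hQsup using hex
  refine ⟨⨆ μ, Q μ, ?_, ?_, ?_⟩
  · intro x hx
    refine Submodule.iSup_induction _ (motive := fun x => F x ∈ ⨆ μ, Q μ) hx ?_ ?_ ?_
    · intro μ x hx
      exact Submodule.mem_iSup_of_mem μ (hQst μ x hx)
    · rw [map_zero]; exact Submodule.zero_mem _
    · intro x y hx hy
      rw [map_add]; exact Submodule.add_mem _ hx hy
  · rw [Submodule.disjoint_def]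
    intro x hxP hxQ
    obtain ⟨f, hf, hfx⟩ := (Submodule.mem_iSup_iff_exists_finsupp _ x).mp (hsum hxP)
    obtain ⟨g, hg, hgx⟩ := (Submodule.mem_iSup_iff_exists_finsupp _ x).mp hxQ
    classical
    set s := f.support ∪ g.support with hs
    have hfs : ∑ i ∈ s, f i = x := by
      rw [← hfx]
      exact (Finsupp.sum_of_support_subset f Finset.subset_union_left (fun _ xi => xi) (fun _ _ => rfl)).symm
    have hgs : ∑ i ∈ s, g i = x := by
      rw [← hgx]
      exact (Finsupp.sum_of_support_subset g Finset.subset_union_right (fun _ xi => xi) (fun _ _ => rfl)).symm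
    have hind := (iSupIndep_iff_finsetSum_eq_imp_eq (fun μ : ℚ => slopePart F μ)).mp
      (iSupIndep_slopePart hF.1) s (fun i => f i) (fun i => g i)
      (fun i _ => ⟨(hf i).2, hQle i (hg i)⟩) (hfs.trans hgs.symm)
    have hzero : ∀ i ∈ s, f i = 0 := by
      intro i hi
      have h1 : f i ∈ (P ⊓ slopePart F i) ⊓ Q i := ⟨hf i, by rw [hind i hi]; exact hg i⟩
      rw [hQinf i] at h1
      exact h1
    rw [← hfs]
    exact Finset.sum_eq_zero hzero
  · rw [codisjoint_iff, eq_top_iff, ← iSup_slopePart_eq_top hF.1]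
    refine iSup_le fun μ => ?_
    rw [← hQsup μ]
    exact sup_le (inf_le_left.trans le_sup_left) ((le_iSup Q μ).trans le_sup_right)

end Groth.Agent.H8.IsocLib
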