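import Mathlib
import Groth.Prelude.Def_Isoc
import Groth.Agent.Lib.Helper8.Isoc.Compl
import Groth.Agent.Lib.Helper8.Isoc.Std

/-! The Dieudonné–Manin classification over an algebraically closed field. -/

set_option autoImplicit false
set_option linter.unusedSectionVars false

open scoped Pointwise Isocrystal
open Isoc Module

universe u v

namespace Groth.Agent.H8.IsocLib

variable {p : ℕ} [Fact p.Prime] {k : Type u} [Field k] [CharP k p] [PerfectRing k p]
variable {N : Type v} [AddCommGroup N] [Module (WittVector p k) N]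
  [Module (FractionRing (WittVector p k)) N]
  [IsScalarTower (WittVector p k) (FractionRing (WittVector p k)) N]
variable {τ : FractionRing (WittVector p k) →+* FractionRing (WittVector p k)}

local notation "𝕎" => WittVector p k
local notation "𝕃" => FractionRing (WittVector p k)

/-! ### A vector with `F^h x = p^d x` -/

lemma latImg_finset_sup [IsWTwist τ] (F : N →ₛₗ[τ] N) (s : ℕ) {ι : Type*} (I : Finset ι)
    (A : ι → Submodule 𝕎 N) :
    latImg F s (I.sup A) = I.sup (fun i => latImg F s (A i)) := by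
  classical
  induction I using Finset.induction_on with
  | empty => simp
  | insert a I ha ih => rw [Finset.sup_insert, Finset.sup_insert, latImg_sup, ih]

theorem exists_fixed_of_isIsoclinic [IsAlgClosed k] {a : ℤ} (ha : a ≠ 0) [FiniteDimensional 𝕃 N]
    [Nontrivial N] {F : N →ₛₗ[Isoc.frob p k a] N} (hF : Function.Bijective F) {μ : ℚ}
    (hμ : IsIsoclinic F μ) :
    ∃ x : N, x ≠ 0 ∧ (⇑F)^[μ.den] x = ((p : 𝕃) ^ μ.num) • x := by
  obtain ⟨M, hM, r, s, hs, hrs, hFM⟩ := hμ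
  obtain ⟨c, hc⟩ : ∃ c : ℕ, s = μ.den * c := by
    have h1 : ((Rat.divInt r (s : ℤ)).den : ℤ) ∣ (s : ℤ) := Rat.den_dvd r s
    have h2 : Rat.divInt r (s : ℤ) = μ := by
      rw [Rat.divInt_eq_div]; exact_mod_cast hrs
    rw [h2] at h1
    obtain ⟨c, hc⟩ := Int.natCast_dvd_natCast.mp h1
    exact ⟨c, hc⟩
  have hcpos : 0 < c := by
    rcases Nat.eq_zero_or_pos c with rfl | h
    · simp at hc; omega
    · exact h
  have hrc : r = μ.num * (c : ℤ) := by
    have h1 : (μ.den : ℚ) ≠ 0 := by exact_mod_cast μ.den_pos.ne'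
    have h2 : (c : ℚ) ≠ 0 := by exact_mod_cast hcpos.ne'
    have h3 : (r : ℚ) / ((μ.den : ℚ) * (c : ℚ)) = (μ.num : ℚ) / μ.den :=
      calc (r : ℚ) / ((μ.den : ℚ) * (c : ℚ)) = (r : ℚ) / (s : ℚ) := by rw [hc]; push_cast; rfl
        _ = μ := hrs
        _ = (μ.num : ℚ) / μ.den := (Rat.num_div_den μ).symm
    rw [div_eq_div_iff (mul_ne_zero h1 h2) h1] at h3
    have h4 : (r : ℚ) = μ.num * c :=
      mul_right_cancel₀ h1 (by linarith : (r : ℚ) * μ.den = (μ.num * c) * μ.den)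
    exact_mod_cast h4
  obtain ⟨c', rfl⟩ : ∃ c', c = c' + 1 := ⟨c - 1, by omega⟩
  obtain ⟨T, hTdef⟩ : ∃ T : N →ₛₗ[Isoc.frob p k a ^ μ.den] N,
      T = (p : 𝕃) ^ (-μ.num) • iter F μ.den := ⟨_, rfl⟩
  have hTbij : Function.Bijective T := by rw [hTdef]; exact smul_iter_bijective hF _ _
  set A : ℕ → Submodule 𝕎 N := fun i => latImg T i M with hA
  have hAc : A (c' + 1) = M := by
    show latImg T (c' + 1) M = M
    rw [hTdef, latImg_smul_iter, ← hc, hFM, pPow_pPow, hrc]
    simp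
  have hA0 : A 0 = M := latImg_zero T M
  have hshift : ∀ i, latImg T 1 (A i) = A (i + 1) := by
    intro i
    show latImg T 1 (latImg T i M) = latImg T (i + 1) M
    rw [← latImg_add, add_comm]
  have hM'lat : ((Finset.range (c' + 1)).sup A).IsLattice 𝕃 := by
    refine ⟨Submodule.fg_finset_sup _ _ fun i _ => latImg_fg T i hM.fg, ?_⟩
    rw [eq_top_iff, ← hM.span_eq_top]
    apply Submodule.span_mono
    have : M ≤ (Finset.range (c' + 1)).sup A := by
      rw [← hA0]
      exact Finset.le_sup (f := A) (Finset.mem_range.mpr (Nat.succ_pos c'))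
    exact this
  have hTM' : latImg T 1 ((Finset.range (c' + 1)).sup A) = (Finset.range (c' + 1)).sup A := by
    rw [latImg_finset_sup]
    simp_rw [hshift]
    apply le_antisymm
    · apply Finset.sup_le
      intro i hi
      rw [Finset.mem_range] at hi
      rcases Nat.lt_or_ge (i + 1) (c' + 1) with h1 | h1
      · exact Finset.le_sup (f := A) (Finset.mem_range.mpr h1)
      · have : i = c' := by omega
        rw [this, hAc, ← hA0]
        exact Finset.le_sup (f := A) (Finset.mem_range.mpr (Nat.succ_pos c'))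
    · apply Finset.sup_le
      intro i hi
      rw [Finset.mem_range] at hi
      rcases Nat.eq_zero_or_pos i with rfl | hipos
      · rw [hA0, ← hAc]
        exact Finset.le_sup (f := fun j => A (j + 1)) (Finset.mem_range.mpr (Nat.lt_succ_self c'))
      · obtain ⟨i', rfl⟩ : ∃ i', i = i' + 1 := ⟨i - 1, by omega⟩
        exact Finset.le_sup (f := fun j => A (j + 1)) (Finset.mem_range.mpr (by omega))
  have hS0 : a * ((μ.den : ℕ) : ℤ) ≠ 0 := mul_ne_zero ha (by exact_mod_cast μ.den_pos.ne')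
  have hτ := fun w : 𝕎 => frob_pow_algebraMap (p := p) (k := k) a μ.den w
  have hfix := span_fixed_eq hS0 hτ hTbij.1 hM'lat hTM'
  have htop := span_fixed_eq_top_of_span_eq hM'lat hfix
  obtain ⟨x, hxT, hx0⟩ : ∃ x, T x = x ∧ x ≠ 0 := by
    by_contra hcon
    push Not at hcon
    have : Submodule.span 𝕃 {x | T x = x} = ⊥ := by
      rw [Submodule.span_eq_bot]
      exact fun x hx => hcon x hx
    rw [this] at htop
    exact bot_ne_top htop
  refine ⟨x, hx0, ?_⟩
  rw [hTdef, smul_iter_apply] at hxT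
  calc (⇑F)^[μ.den] x = ((p : 𝕃) ^ μ.num) • (((p : 𝕃) ^ (-μ.num)) • (⇑F)^[μ.den] x) := by
        rw [smul_smul, ← zpow_add₀ (p_ne_zero (p := p) (k := k))]; simp
    _ = ((p : 𝕃) ^ μ.num) • x := by rw [hxT]

/-! ### The embedding of a standard isocrystal -/

section Embed

variable [IsWTwist τ] (d : ℤ) (h' : ℕ)

theorem exists_std_embedding (hdh : Int.gcd d ((h' + 1 : ℕ) : ℤ) = 1) {F : N →ₛₗ[τ] N} {x : N}
    (hx0 : x ≠ 0) (hx : (⇑F)^[h' + 1] x = ((p : 𝕃) ^ d) • x) :
    ∃ j : (Fin (h' + 1) → 𝕃) →ₗ[𝕃] N, Function.Injective j ∧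
      ∀ y, j (stdIsoc τ d (h' + 1) y) = F (j y) := by
  set j : (Fin (h' + 1) → 𝕃) →ₗ[𝕃] N :=
    Fintype.linearCombination 𝕃 (fun i : Fin (h' + 1) => (⇑F)^[i.val] x) with hj
  have hjs : ∀ (i : Fin (h' + 1)), j (Pi.single i 1) = (⇑F)^[i.val] x := by
    intro i
    rw [hj, Fintype.linearCombination_apply_single, one_smul]
  have hjE : ∀ v : ℕ, j (stdE h' v) = (⇑F)^[v % (h' + 1)] x := fun v => hjs _
  have hcomm : (j.comp (stdIsoc τ d (h' + 1)) : (Fin (h' + 1) → 𝕃) →ₛₗ[τ] N) = F.comp j := by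
    apply (Pi.basisFun 𝕃 (Fin (h' + 1))).ext
    intro i
    rw [Pi.basisFun_apply, LinearMap.comp_apply, LinearMap.comp_apply, hjs]
    have h1 : (Pi.single i (1 : 𝕃) : Fin (h' + 1) → 𝕃) = stdE h' i.val := by
      unfold stdE
      congr 1
      ext
      simp [Nat.mod_eq_of_lt i.isLt]
    have hsucc : F ((⇑F)^[i.val] x) = (⇑F)^[i.val + 1] x :=
      (Function.iterate_succ_apply' _ _ _).symm
    rw [h1, stdIsoc_stdE, map_smul, hjE, hsucc]
    by_cases hc : (i.val + 1) % (h' + 1) = 0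
    · rw [if_pos hc, hc, Function.iterate_zero, id_eq]
      have : i.val + 1 = h' + 1 := by
        have := i.isLt
        have h2 : (i.val + 1) % (h' + 1) = 0 := hc
        rcases Nat.lt_or_ge (i.val + 1) (h' + 1) with h3 | h3
        · rw [Nat.mod_eq_of_lt h3] at h2; omega
        · omega
      rw [this, hx]
    · rw [if_neg hc, one_smul]
      have : i.val + 1 < h' + 1 := by
        rcases Nat.lt_or_ge (i.val + 1) (h' + 1) with h3 | h3
        · exact h3
        · exfalso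
          have := i.isLt
          have : i.val + 1 = h' + 1 := by omega
          rw [this, Nat.mod_self] at hc
          exact hc rfl
      rw [Nat.mod_eq_of_lt this]
  have hcomm' : ∀ y, j (stdIsoc τ d (h' + 1) y) = F (j y) := fun y =>
    LinearMap.congr_fun hcomm y
  refine ⟨j, ?_, hcomm'⟩
  rw [← LinearMap.ker_eq_bot]
  rcases stdIsoc_simple τ d h' hdh (LinearMap.ker j) (by
    intro y hy
    rw [LinearMap.mem_ker] at hy ⊢
    rw [hcomm', hy, map_zero]) with h | h
  · exact h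
  · exfalso
    have : (Pi.single (0 : Fin (h' + 1)) (1 : 𝕃) : Fin (h' + 1) → 𝕃) ∈ LinearMap.ker j := by
      rw [h]; trivial
    rw [LinearMap.mem_ker, hjs] at this
    exact hx0 this

end Embed


/-! ### Existence of the decomposition -/

theorem exists_std_decomposition [IsAlgClosed k] {a : ℤ} (ha : a ≠ 0) :
    ∀ (n : ℕ) (N' : Type v) [AddCommGroup N'] [Module 𝕎 N'] [Module 𝕃 N'] [IsScalarTower 𝕎 𝕃 N']
      [FiniteDimensional 𝕃 N'] (F : N' →ₛₗ[Isoc.frob p k a] N'), Function.Bijective F →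
      Module.finrank 𝕃 N' = n →
      ∃ (t : ℕ) (d : Fin t → ℤ) (h : Fin t → ℕ)
        (e : N' ≃ₗ[𝕃] ((i : Fin t) → (Fin (h i) → 𝕃))),
        (∀ i, 0 < h i ∧ Int.gcd (d i) (h i) = 1) ∧
        ∀ (x : N') (i : Fin t), e (F x) i = stdIsoc (Isoc.frob p k a) (d i) (h i) (e x i) := by
  intro n
  induction n using Nat.strong_induction_on with
  | _ n ih =>
  intro N' _ _ _ _ _ F hF hn
  by_cases hn0 : n = 0
  · have : Subsingleton N' := Module.finrank_zero_iff.mp (hn.trans hn0)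
    refine ⟨0, fun i => i.elim0, fun i => i.elim0, LinearEquiv.ofSubsingleton _ _,
      fun i => i.elim0, fun x i => i.elim0⟩
  have hnt : Nontrivial N' := Module.nontrivial_of_finrank_pos (R := 𝕃) (by omega)
  -- a non-zero slope part
  obtain ⟨μ, hμ⟩ : ∃ μ : ℚ, slopePart F μ ≠ ⊥ := by
    by_contra hcon
    push Not at hcon
    have h1 := iSup_slopePart_eq_top hF.1
    simp only [hcon, iSup_bot] at h1
    exact bot_ne_top h1
  obtain ⟨hst, hiso⟩ := slopePart_isIsoclinic F μ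
  have hntμ : Nontrivial (slopePart F μ) := Submodule.nontrivial_iff_ne_bot.mpr hμ
  have hinjμ : Function.Injective (F.restrict hst) :=
    fun x y hxy => Subtype.ext (hF.1 (congrArg Subtype.val hxy))
  have hbijμ : Function.Bijective (F.restrict hst) := ⟨hinjμ, surjective_of_injective _ hinjμ⟩
  obtain ⟨x', hx'0, hx'⟩ := exists_fixed_of_isIsoclinic ha hbijμ hiso
  obtain ⟨h₀, hh₀⟩ : ∃ h₀ : ℕ, μ.den = h₀ + 1 := ⟨μ.den - 1, by have := μ.den_pos; omega⟩
  have hx0 : (x' : N') ≠ 0 := fun h => hx'0 (Subtype.ext h)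
  have hx : (⇑F)^[h₀ + 1] (x' : N') = ((p : 𝕃) ^ μ.num) • (x' : N') := by
    rw [← hh₀, ← restrict_iterate_coe hst, hx']
    rfl
  have hgcd : Int.gcd μ.num ((h₀ + 1 : ℕ) : ℤ) = 1 := by
    rw [← hh₀]
    show Nat.gcd μ.num.natAbs ((μ.den : ℤ)).natAbs = 1
    rw [Int.natAbs_natCast]
    exact μ.reduced
  obtain ⟨j, hj, hjF⟩ := exists_std_embedding μ.num h₀ hgcd hx0 hx
  -- complement
  have hPst : ∀ y ∈ LinearMap.range j, F y ∈ LinearMap.range j := by
    rintro _ ⟨u, rfl⟩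
    exact ⟨_, hjF u⟩
  obtain ⟨Q, hQst, hc⟩ := exists_stable_compl ha hF hPst
  have hrankP : Module.finrank 𝕃 (LinearMap.range j) = h₀ + 1 := by
    rw [LinearMap.finrank_range_of_inj hj, Module.finrank_fin_fun]
  have hrankQ : Module.finrank 𝕃 Q < n := by
    have := Submodule.finrank_add_eq_of_isCompl hc
    omega
  have hinjQ : Function.Injective (F.restrict hQst) :=
    fun x y hxy => Subtype.ext (hF.1 (congrArg Subtype.val hxy))
  have hbijQ : Function.Bijective (F.restrict hQst) := ⟨hinjQ, surjective_of_injective _ hinjQ⟩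
  obtain ⟨t', d', hh', e', hcond', hequiv'⟩ := ih _ hrankQ Q (F.restrict hQst) hbijQ rfl
  -- assemble
  let eP : (Fin (h₀ + 1) → 𝕃) ≃ₗ[𝕃] LinearMap.range j := LinearEquiv.ofInjective j hj
  have heP : ∀ u, ((eP u : LinearMap.range j) : N') = j u := fun u => rfl
  let e₀ : N' ≃ₗ[𝕃] (LinearMap.range j × Q) := (Submodule.prodEquivOfIsCompl _ _ hc).symm
  have he₀ : ∀ x : N', ((e₀ x).1 : N') + ((e₀ x).2 : N') = x := by
    intro x
    have := (Submodule.prodEquivOfIsCompl _ _ hc).apply_symm_apply x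
    rwa [Submodule.coe_prodEquivOfIsCompl'] at this
  have he₀F : ∀ x : N', e₀ (F x) = ((F.restrict hPst) (e₀ x).1, (F.restrict hQst) (e₀ x).2) := by
    intro x
    apply (Submodule.prodEquivOfIsCompl _ _ hc).injective
    rw [LinearEquiv.apply_symm_apply, Submodule.coe_prodEquivOfIsCompl']
    conv_lhs => rw [← he₀ x, map_add]
    rfl
  have hePF : ∀ y : LinearMap.range j,
      eP.symm ((F.restrict hPst) y) = stdIsoc (Isoc.frob p k a) μ.num (h₀ + 1) (eP.symm y) := by
    intro y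
    apply eP.injective
    rw [LinearEquiv.apply_symm_apply]
    apply Subtype.ext
    rw [heP, hjF, ← heP, LinearEquiv.apply_symm_apply]
    rfl
  let hfun : Fin (t' + 1) → ℕ := Fin.cons (h₀ + 1) hh'
  let dfun : Fin (t' + 1) → ℤ := Fin.cons μ.num d'
  let e₂ := Fin.consLinearEquiv 𝕃 (fun i : Fin (t' + 1) => Fin (hfun i) → 𝕃)
  let e : N' ≃ₗ[𝕃] ((i : Fin (t' + 1)) → (Fin (hfun i) → 𝕃)) :=
    e₀ ≪≫ₗ (LinearEquiv.prodCongr eP.symm e') ≪≫ₗ e₂
  have he0 : ∀ x : N', e x 0 = eP.symm (e₀ x).1 := fun x => rfl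
  have hes : ∀ (x : N') (i : Fin t'), e x i.succ = e' (e₀ x).2 i := fun x i => rfl
  refine ⟨t' + 1, dfun, hfun, e, ?_, ?_⟩
  · intro i
    refine Fin.cases ?_ (fun i' => ?_) i
    · exact ⟨Nat.succ_pos _, hgcd⟩
    · exact hcond' i'
  · intro x i
    refine Fin.cases ?_ (fun i' => ?_) i
    · rw [he0, he0, he₀F, hePF]
      rfl
    · rw [hes, hes, he₀F, hequiv']
      rfl


/-! ### The multiplicity formula -/

section Mult

variable {N₁ : Type*} [AddCommGroup N₁] [Module (WittVector p k) N₁]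
  [Module (FractionRing (WittVector p k)) N₁]
  [IsScalarTower (WittVector p k) (FractionRing (WittVector p k)) N₁]

lemma isoclinicOn_range_of_equivariant {F₁ : N₁ →ₛₗ[τ] N₁} {F : N →ₛₗ[τ] N} (ι : N₁ →ₗ[𝕃] N)
    (hι : ∀ v, ι (F₁ v) = F (ι v)) {μ : ℚ} (hμ : IsIsoclinic F₁ μ) :
    IsoclinicOn F (LinearMap.range ι) μ := by
  obtain ⟨M, hM, r, s, hs, hrs, hFM⟩ := hμ
  refine ⟨M.map (ι.restrictScalars 𝕎), hM.fg.map _, ?_, r, s, hs, hrs, ?_⟩
  · have : ((M.map (ι.restrictScalars 𝕎) : Submodule 𝕎 N) : Set N) = ι '' (M : Set N₁) := rfl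
    rw [this, Submodule.span_image, hM.span_eq_top, Submodule.map_top]
  · rw [← map_latImg ι hι, hFM, map_pPow]

lemma isIsoclinic_stdIsoc' [IsWTwist τ] (d : ℤ) {h : ℕ} (hh : 0 < h) :
    IsIsoclinic (stdIsoc (p := p) (k := k) τ d h) ((d : ℚ) / (h : ℚ)) := by
  obtain ⟨h', rfl⟩ := Nat.exists_eq_succ_of_ne_zero hh.ne'
  exact isIsoclinic_stdIsoc τ d h'

theorem newtonMult_eq_sum [IsWTwist τ] [FiniteDimensional 𝕃 N] {F : N →ₛₗ[τ] N}
    (hF : Function.Injective F) {t : ℕ} (d : Fin t → ℤ) (h : Fin t → ℕ)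
    (e : N ≃ₗ[𝕃] ((i : Fin t) → (Fin (h i) → 𝕃))) (hpos : ∀ i, 0 < h i)
    (hequiv : ∀ (x : N) (i : Fin t), e (F x) i = stdIsoc τ (d i) (h i) (e x i)) (μ : ℚ) :
    newtonMult F μ = ∑ i : Fin t, (if ((d i : ℚ) / (h i : ℚ)) = μ then h i else 0) := by
  classical
  -- the embedded blocks
  set ι : ∀ i : Fin t, (Fin (h i) → 𝕃) →ₗ[𝕃] N := fun i =>
    e.symm.toLinearMap ∘ₗ LinearMap.single 𝕃 (fun i : Fin t => Fin (h i) → 𝕃) i with hιdef
  have hιe : ∀ i v, e (ι i v) = Pi.single i v := by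
    intro i v
    simp [hιdef]
  have hιF : ∀ i v, ι i (stdIsoc τ (d i) (h i) v) = F (ι i v) := by
    intro i v
    apply e.injective
    funext j
    rw [hequiv, hιe, hιe]
    by_cases hji : j = i
    · subst hji
      rw [Pi.single_eq_same, Pi.single_eq_same]
    · rw [Pi.single_eq_of_ne hji, Pi.single_eq_of_ne hji, map_zero]
  have hιle : ∀ i, LinearMap.range (ι i) ≤ slopePart F ((d i : ℚ) / (h i : ℚ)) := by
    intro i
    apply le_slopePart _ (isoclinicOn_range_of_equivariant (ι i) (hιF i)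
      (isIsoclinic_stdIsoc' (d i) (hpos i)))
    rintro _ ⟨v, rfl⟩
    exact ⟨_, hιF i v⟩
  have hdecomp : ∀ x : N, x = ∑ i, ι i (e x i) := by
    intro x
    apply e.injective
    rw [map_sum]
    simp_rw [hιe]
    exact (Finset.univ_sum_single (e x)).symm
  -- the candidate slope parts
  set S : ℚ → Submodule 𝕃 N := fun ν =>
    Submodule.comap e.toLinearMap (⨅ i ∈ {i : Fin t | ((d i : ℚ) / (h i : ℚ)) ≠ ν},
      LinearMap.ker (LinearMap.proj (R := 𝕃) (φ := fun i : Fin t => Fin (h i) → 𝕃) i)) with hS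
  have hmemS : ∀ ν x, x ∈ S ν ↔ ∀ i, ((d i : ℚ) / (h i : ℚ)) ≠ ν → e x i = 0 := by
    intro ν x
    simp [hS, Submodule.mem_iInf]
  have h1 : S ≤ slopePart F := by
    intro ν x hx
    rw [hmemS] at hx
    rw [hdecomp x]
    refine Submodule.sum_mem _ fun i _ => ?_
    by_cases hi : ((d i : ℚ) / (h i : ℚ)) = ν
    · rw [← hi]
      exact hιle i ⟨_, rfl⟩
    · rw [hx i hi, map_zero]
      exact Submodule.zero_mem _
  have h2 : iSup S = ⊤ := by
    rw [eq_top_iff]
    intro x _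
    rw [hdecomp x]
    refine Submodule.sum_mem _ fun i _ => ?_
    refine Submodule.mem_iSup_of_mem ((d i : ℚ) / (h i : ℚ)) ?_
    rw [hmemS]
    intro j hj
    rw [hιe]
    have : j ≠ i := by
      rintro rfl
      exact hj rfl
    exact Pi.single_eq_of_ne this _
  have h3 : S = slopePart F :=
    (iSupIndep.le_iff_eq_of_iSup_eq_top (iSupIndep_slopePart hF) h2).mp h1
  rw [newtonMult, ← h3]
  have e1 := LinearEquiv.ofSubmodule' e (⨅ i ∈ {i : Fin t | ((d i : ℚ) / (h i : ℚ)) ≠ μ},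
      LinearMap.ker (LinearMap.proj (R := 𝕃) (φ := fun i : Fin t => Fin (h i) → 𝕃) i))
  have e2 := LinearMap.iInfKerProjEquiv 𝕃 (fun i : Fin t => Fin (h i) → 𝕃)
    (I := {i : Fin t | ((d i : ℚ) / (h i : ℚ)) = μ})
    (J := {i : Fin t | ((d i : ℚ) / (h i : ℚ)) ≠ μ})
    (by
      rw [Set.disjoint_left]
      intro i hi hi'
      exact hi' hi)
    (by
      intro i _
      by_cases hi : ((d i : ℚ) / (h i : ℚ)) = μ
      · exact Or.inl hi
      · exact Or.inr hi)
  rw [show S μ = Submodule.comap e.toLinearMap (⨅ i ∈ {i : Fin t | ((d i : ℚ) / (h i : ℚ)) ≠ μ},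
      LinearMap.ker (LinearMap.proj (R := 𝕃) (φ := fun i : Fin t => Fin (h i) → 𝕃) i)) from rfl,
    LinearEquiv.finrank_eq e1, LinearEquiv.finrank_eq e2, Module.finrank_pi_fintype]
  simp_rw [Module.finrank_fin_fun]
  rw [← Finset.sum_filter]
  exact (Finset.sum_subtype (Finset.univ.filter fun i : Fin t => ((d i : ℚ) / (h i : ℚ)) = μ)
    (by simp) (fun i => h i)).symm

end Mult

end Groth.Agent.H8.IsocLib
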