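import Mathlib
import Groth.Prelude.Def_Isoc
import Groth.Agent.Lib.Helper8.Isoc.Decomp

/-! The end point of the Newton polygon. -/

set_option autoImplicit false
set_option linter.unusedSectionVars false

open scoped Pointwise Isocrystal
open Isoc Module Filter Topology

universe u v w

namespace Groth.Agent.H8.IsocLib

variable {p : ℕ} [Fact p.Prime] {k : Type u} [Field k] [CharP k p] [PerfectRing k p]
variable {N : Type v} [AddCommGroup N] [Module (WittVector p k) N]
  [Module (FractionRing (WittVector p k)) N]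
  [IsScalarTower (WittVector p k) (FractionRing (WittVector p k)) N]
variable {τ : FractionRing (WittVector p k) →+* FractionRing (WittVector p k)}

local notation "𝕎" => WittVector p k
local notation "𝕃" => FractionRing (WittVector p k)

lemma det_sigma_block {ι : Type*} [Fintype ι] [DecidableEq ι] [LinearOrder ι] {κ : ι → Type*}
    [∀ i, Fintype (κ i)] [∀ i, DecidableEq (κ i)] {R : Type*} [CommRing R]
    (A : Matrix (Σ i, κ i) (Σ i, κ i) R) (h0 : ∀ a b, a.1 ≠ b.1 → A a b = 0) :
    A.det = ∏ i, (Matrix.of fun a b : κ i => A ⟨i, a⟩ ⟨i, b⟩).det := by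
  have hbt : A.BlockTriangular Sigma.fst := fun a b hlt => h0 a b (ne_of_gt hlt)
  rw [hbt.det_fintype]
  refine Finset.prod_congr rfl fun i _ => ?_
  rw [← Matrix.det_submatrix_equiv_self ((Equiv.sigmaSubtype i).symm)
    (A.toSquareBlock Sigma.fst i)]
  rfl

lemma isOrdP_prod {ι : Type*} (s : Finset ι) (c : ι → 𝕃) (r : ι → ℤ)
    (h : ∀ i ∈ s, IsOrdP (c i) (r i)) : IsOrdP (∏ i ∈ s, c i) (∑ i ∈ s, r i) := by
  classical
  induction s using Finset.induction_on with
  | empty => simpa using isOrdP_one (p := p) (k := k)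
  | insert a s ha ih =>
    rw [Finset.prod_insert ha, Finset.sum_insert ha]
    exact (h a (Finset.mem_insert_self _ _)).mul (ih fun i hi => h i (Finset.mem_insert_of_mem hi))

/-- For an isoclinic isocrystal of slope `μ`, `orddet = μ · height` in any basis. -/
theorem exists_isOrdP_detCoeff_of_isIsoclinic [IsWTwist τ] [FiniteDimensional 𝕃 N] [Nontrivial N]
    {G : N →ₛₗ[τ] N} {μ : ℚ} (hμ : IsIsoclinic G μ) {n : ℕ} (b : Basis (Fin n) 𝕃 N) :
    ∃ d' : ℤ, IsOrdP (detCoeff b G) d' ∧ μ * (n : ℚ) = (d' : ℚ) := by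
  obtain ⟨M, hM, r, s, hs, hrs, heq⟩ := hμ
  have := hM
  have hn : Module.finrank 𝕃 N = n := finrank_eq_of_basis b
  let m := Module.finBasisOfFinrankEq 𝕎 M ((finrank_lattice hM).trans hn)
  set bM := m.extendOfIsLattice 𝕃 with hbM
  have h2 := isOrdP_detCoeff_of_latImg_eq (G := iter G s) m (by rw [latImg_iter_one]; exact heq)
  have hne : detCoeff bM G ≠ 0 := by
    intro h0
    obtain ⟨s', rfl⟩ : ∃ s', s = s' + 1 := ⟨s - 1, by omega⟩
    apply h2.ne_zero
    rw [detCoeff_iter_succ, h0, zero_mul]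
  obtain ⟨d', hd'⟩ := exists_isOrdP hne
  have h3 := mul_eq_mul_of_latImg_eq bM hd' hM heq
  refine ⟨d', isOrdP_detCoeff_change bM b G hd', ?_⟩
  rw [← hrs]
  have hs' : (s : ℚ) ≠ 0 := by positivity
  have h3' : (r : ℚ) * (n : ℚ) = (s : ℚ) * (d' : ℚ) := by exact_mod_cast h3
  field_simp
  linarith

/-- The Newton polygon ends at `(h, d)`. -/
theorem finsum_slope_mul_newtonMult [IsWTwist τ] [FiniteDimensional 𝕃 N] {F : N →ₛₗ[τ] N}
    (hF : Function.Injective F) {h : ℕ} (b : Basis (Fin h) 𝕃 N) {d : ℤ}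
    (hd : IsOrdP (detCoeff b F) d) : ∑ᶠ μ : ℚ, μ * (newtonMult F μ : ℚ) = d := by
  classical
  have hint := isInternal_slopePart hF
  have hfin : {μ : ℚ | slopePart F μ ≠ ⊥}.Finite :=
    WellFoundedGT.finite_ne_bot_of_iSupIndep hint.submodule_iSupIndep
  let _ : Fintype {μ : ℚ // slopePart F μ ≠ ⊥} := hfin.fintype
  have hint' : DirectSum.IsInternal (fun i : {μ : ℚ // slopePart F μ ≠ ⊥} => slopePart F i) :=
    DirectSum.isInternal_ne_bot_iff.mpr hint
  -- bases of the pieces
  let n : {μ : ℚ // slopePart F μ ≠ ⊥} → ℕ := fun i => Module.finrank 𝕃 (slopePart F i)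
  let v : ∀ i : {μ : ℚ // slopePart F μ ≠ ⊥}, Basis (Fin (n i)) 𝕃 (slopePart F i) :=
    fun i => Module.finBasis 𝕃 (slopePart F i)
  let B := hint'.collectedBasis v
  have hstab : ∀ i : {μ : ℚ // slopePart F μ ≠ ⊥}, ∀ x ∈ slopePart F i, F x ∈ slopePart F i :=
    fun i => slopePart_stable F i
  have hBmem : ∀ a : (Σ i, Fin (n i)), B a ∈ slopePart F a.1 := fun a =>
    hint'.collectedBasis_mem v a
  -- the matrix of `F` in the collected basis
  set A : Matrix (Σ i, Fin (n i)) (Σ i, Fin (n i)) 𝕃 := B.toMatrix (F ∘ B) with hA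
  have hA0 : ∀ a b, a.1 ≠ b.1 → A a b = 0 := by
    intro a b hab
    rw [hA, Basis.toMatrix_apply, Function.comp_apply]
    obtain ⟨i, a'⟩ := a
    exact hint'.collectedBasis_repr_of_mem_ne v (Ne.symm hab) (hstab b.1 _ (hBmem b))
  have hAblock : ∀ i, (Matrix.of fun a b : Fin (n i) => A ⟨i, a⟩ ⟨i, b⟩) =
      (v i).toMatrix (⇑(F.restrict (hstab i)) ∘ v i) := by
    intro i
    ext a c
    rw [Matrix.of_apply, hA, Basis.toMatrix_apply, Basis.toMatrix_apply, Function.comp_apply,
      Function.comp_apply]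
    have hmem : F (B ⟨i, c⟩) ∈ slopePart F i := hstab i _ (hBmem ⟨i, c⟩)
    rw [hint'.collectedBasis_repr_of_mem v hmem]
    congr 2
    apply Subtype.ext
    simp [B, DirectSum.IsInternal.collectedBasis_coe]
  have hdetA : A.det = ∏ i, detCoeff (v i) (F.restrict (hstab i)) := by
    rw [det_sigma_block A hA0]
    refine Finset.prod_congr rfl fun i _ => ?_
    rw [hAblock i, detCoeff_eq]
  -- orders of the blocks
  have hblock : ∀ i : {μ : ℚ // slopePart F μ ≠ ⊥}, ∃ d' : ℤ,
      IsOrdP (detCoeff (v i) (F.restrict (hstab i))) d' ∧ (i : ℚ) * (n i : ℚ) = (d' : ℚ) := by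
    intro i
    have : Nontrivial (slopePart F i) := Submodule.nontrivial_iff_ne_bot.mpr i.2
    obtain ⟨hP, hiso⟩ := slopePart_isIsoclinic F (i : ℚ)
    exact exists_isOrdP_detCoeff_of_isIsoclinic hiso (v i)
  choose d' hd' hd'eq using hblock
  have hordA : IsOrdP A.det (∑ i, d' i) := by
    rw [hdetA]
    exact isOrdP_prod Finset.univ _ _ fun i _ => hd' i
  -- reindex to `Fin h`
  have hcard : Fintype.card (Σ i, Fin (n i)) = h := by
    rw [← Module.finrank_eq_card_basis B, finrank_eq_of_basis b]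
  let e : (Σ i, Fin (n i)) ≃ Fin h := Fintype.equivFinOfCardEq hcard
  let B' : Basis (Fin h) 𝕃 N := B.reindex e
  have hdetB' : detCoeff B' F = A.det := by
    rw [detCoeff_eq, ← Matrix.det_submatrix_equiv_self e.symm A]
    congr 1
    ext i j
    simp [B', A, Basis.toMatrix_apply]
  have hord' : IsOrdP (detCoeff B' F) (∑ i, d' i) := by rw [hdetB']; exact hordA
  have hd_eq : d = ∑ i, d' i := (isOrdP_detCoeff_change b B' F hd).unique hord'
  -- the finite sum
  have hsupp : Function.support (fun μ : ℚ => μ * (newtonMult F μ : ℚ)) ⊆ ↑hfin.toFinset := by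
    intro μ hμ
    rw [Function.mem_support] at hμ
    simp only [Set.Finite.coe_toFinset, Set.mem_ofPred_eq]
    intro hbot
    apply hμ
    unfold newtonMult
    rw [hbot]
    simp
  rw [finsum_eq_sum_of_support_subset _ hsupp,
    Finset.sum_subtype hfin.toFinset (p := fun μ => slopePart F μ ≠ ⊥) (fun μ => by simp), hd_eq]
  push_cast
  exact Finset.sum_congr rfl fun i _ => hd'eq i

end Groth.Agent.H8.IsocLib
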