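import Mathlib
import Groth.Prelude.Def_Isoc
import Groth.Agent.Lib.Helper8.Isoc.Classify
import Groth.Agent.Lib.Helper8.Isoc.Newton

/-! Isocrystals over a finite field: Newton slopes from the roots of the characteristic
polynomial of `π = F^m`. -/

set_option autoImplicit false
set_option linter.unusedSectionVars false

open scoped Pointwise Isocrystal
open Isoc Module Polynomial

universe u v w

namespace Groth.Agent.H8.IsocLib

variable {p : ℕ} [Fact p.Prime] {k : Type u} [Field k] [CharP k p] [PerfectRing k p]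
variable {N : Type v} [AddCommGroup N] [Module (WittVector p k) N]
  [Module (FractionRing (WittVector p k)) N]
  [IsScalarTower (WittVector p k) (FractionRing (WittVector p k)) N]
variable {τ : FractionRing (WittVector p k) →+* FractionRing (WittVector p k)}

local notation "𝕎" => WittVector p k
local notation "𝕃" => FractionRing (WittVector p k)

/-- root of the characteristic polynomial gives an eigenvector -/
lemma exists_eigvec {Ω : Type*} [Field Ω] {n : Type*} [Fintype n] [DecidableEq n]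
    (A : Matrix n n Ω) {α : Ω} (h : A.charpoly.IsRoot α) :
    ∃ v : n → Ω, v ≠ 0 ∧ A.mulVec v = α • v := by
  have h1 : (Matrix.toLin' A).charpoly.IsRoot α := by rwa [Matrix.charpoly_toLin']
  rw [← Module.End.hasEigenvalue_iff_isRoot_charpoly] at h1
  obtain ⟨v, hv⟩ := h1.exists_hasEigenvector
  exact ⟨v, hv.2, by simpa using hv.apply_eq_smul⟩

lemma isRoot_of_eigvec {Ω : Type*} [Field Ω] {n : Type*} [Fintype n] [DecidableEq n]
    (A : Matrix n n Ω) {α : Ω} {v : n → Ω} (hv : v ≠ 0) (h : A.mulVec v = α • v) :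
    A.charpoly.IsRoot α := by
  rw [← Matrix.charpoly_toLin', ← Module.End.hasEigenvalue_iff_isRoot_charpoly]
  apply Module.End.hasEigenvalue_of_hasEigenvector (x := v)
  refine ⟨?_, hv⟩
  rw [Module.End.mem_eigenspace_iff]
  simpa using h

lemma isIntegral_of_eigvec {R Ω : Type*} [CommRing R] [Field Ω] [Algebra R Ω] {n : Type*}
    [Fintype n] [DecidableEq n] (C : Matrix n n R) {γ : Ω} {v : n → Ω} (hv : v ≠ 0)
    (h : (C.map (algebraMap R Ω)).mulVec v = γ • v) : IsIntegral R γ := by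
  have h1 := isRoot_of_eigvec _ hv h
  refine ⟨C.charpoly, Matrix.charpoly_monic C, ?_⟩
  rw [← Polynomial.eval_map]
  have : (C.map (algebraMap R Ω)).charpoly = C.charpoly.map (algebraMap R Ω) := by
    rw [← Matrix.charpoly_map]
  rw [← this]
  exact h1

lemma isIntegral_inv_of_eigvec {R Ω : Type*} [CommRing R] [Field Ω] [Algebra R Ω] {n : Type*}
    [Fintype n] [DecidableEq n] (C C' : Matrix n n R) (hCC : C' * C = 1) {γ : Ω} {v : n → Ω}
    (hv : v ≠ 0) (h : (C.map (algebraMap R Ω)).mulVec v = γ • v) :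
    γ ≠ 0 ∧ IsIntegral R γ⁻¹ := by
  have h1 : (C'.map (algebraMap R Ω)).mulVec ((C.map (algebraMap R Ω)).mulVec v) = v := by
    rw [Matrix.mulVec_mulVec, ← Matrix.map_mul, hCC, Matrix.map_one _ (map_zero _) (map_one _),
      Matrix.one_mulVec]
  rw [h, Matrix.mulVec_smul] at h1
  have hγ : γ ≠ 0 := by
    rintro rfl
    apply hv
    rw [← h1, zero_smul]
  refine ⟨hγ, isIntegral_of_eigvec C' hv ?_⟩
  calc (C'.map (algebraMap R Ω)).mulVec v = γ⁻¹ • (γ • (C'.map (algebraMap R Ω)).mulVec v) := by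
        rw [smul_smul, inv_mul_cancel₀ hγ, one_smul]
    _ = γ⁻¹ • v := by rw [h1]

lemma pow_mulVec_eigvec {Ω : Type*} [Field Ω] {n : Type*} [Fintype n] [DecidableEq n]
    (A : Matrix n n Ω) {α : Ω} {v : n → Ω} (h : A.mulVec v = α • v) (s : ℕ) :
    (A ^ s).mulVec v = α ^ s • v := by
  induction s with
  | zero => simp
  | succ s ih =>
    rw [pow_succ, ← Matrix.mulVec_mulVec, h, Matrix.mulVec_smul, ih, smul_smul, pow_succ']

/-- Roots of the characteristic polynomial of `π` when `p^(-t) π^s` is an automorphism of a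
lattice. -/
theorem root_integral_of_lattice [FiniteDimensional 𝕃 N] (π : N →ₗ[𝕃] N) {M : Submodule 𝕎 N}
    (hM : M.IsLattice 𝕃) {s : ℕ} {t : ℤ}
    (h1 : ∀ x ∈ M, ((p : 𝕃) ^ (-t)) • (π ^ s) x ∈ M)
    (h2 : ∀ y ∈ M, ∃ x ∈ M, ((p : 𝕃) ^ (-t)) • (π ^ s) x = y)
    {Ω : Type w} [Field Ω] [Algebra 𝕎 Ω] [Algebra 𝕃 Ω] [IsScalarTower 𝕎 𝕃 Ω] {α : Ω}
    (hα : (π.charpoly.map (algebraMap 𝕃 Ω)).IsRoot α) :
    α ^ s * (algebraMap 𝕃 Ω (p : 𝕃)) ^ (-t) ≠ 0 ∧
    IsIntegral 𝕎 (α ^ s * (algebraMap 𝕃 Ω (p : 𝕃)) ^ (-t)) ∧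
    IsIntegral 𝕎 (α ^ s * (algebraMap 𝕃 Ω (p : 𝕃)) ^ (-t))⁻¹ := by
  classical
  have := hM
  set n := Module.finrank 𝕃 N with hn
  let m₀ : Basis (Fin n) 𝕎 M := Module.finBasisOfFinrankEq 𝕎 M (finrank_lattice hM)
  set bL := m₀.extendOfIsLattice 𝕃 with hbL
  have hbL_mem : ∀ j, bL j ∈ M := by
    intro j
    rw [hbL, Basis.extendOfIsLattice_apply]; exact (m₀ j).2
  set G : N →ₗ[𝕃] N := ((p : 𝕃) ^ (-t)) • (π ^ s) with hG
  have hGapp : ∀ x, G x = ((p : 𝕃) ^ (-t)) • (π ^ s) x := fun x => rfl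
  -- the matrix of G
  obtain ⟨C, hC, -⟩ := exists_toMatrix_eq m₀ (G ∘ bL) 0 (fun j => by
    show G (bL j) ∈ pPow 0 M
    rw [pPow_zero]
    exact h1 _ (hbL_mem j))
  choose z hzM hGz using fun j => h2 _ (hbL_mem j)
  obtain ⟨Z, hZ, -⟩ := exists_toMatrix_eq m₀ z 0 (fun j => by simpa using hzM j)
  simp only [zpow_zero, one_smul] at hC hZ
  have h3 : bL.toMatrix (G ∘ z) = bL.toMatrix (G ∘ bL) * (bL.toMatrix z).map (RingHom.id 𝕃) :=
    toMatrix_comp bL bL G z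
  have h4 : bL.toMatrix (G ∘ z) = 1 := by
    have : (G ∘ z) = bL := by
      funext j
      exact hGz j
    rw [this, Basis.toMatrix_self]
  have hCZ : C * Z = 1 := by
    apply Matrix.map_injective (IsFractionRing.injective 𝕎 𝕃)
    show (C * Z).map _ = (1 : Matrix (Fin n) (Fin n) 𝕎).map _
    rw [Matrix.map_mul, Matrix.map_one _ (map_zero _) (map_one _), ← hC, ← hZ, ← h4, h3]
    congr 1
  have hZC : Z * C = 1 := mul_eq_one_comm.mp hCZ
  -- the matrix of π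
  set A := LinearMap.toMatrix bL bL π with hA
  have hGA : bL.toMatrix (G ∘ bL) = ((p : 𝕃) ^ (-t)) • A ^ s := by
    rw [hA, LinearMap.toMatrix_pow]
    ext i j
    rw [Basis.toMatrix_apply, Function.comp_apply, hGapp, map_smul, Matrix.smul_apply,
      LinearMap.toMatrix_apply]
    rfl
  have hcp : π.charpoly.map (algebraMap 𝕃 Ω) = (A.map (algebraMap 𝕃 Ω)).charpoly := by
    rw [← LinearMap.charpoly_toMatrix π bL, ← hA, ← Matrix.charpoly_map]
  rw [hcp] at hα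
  obtain ⟨v, hv0, hv⟩ := exists_eigvec _ hα
  have hCv : (C.map (algebraMap 𝕎 Ω)).mulVec v =
      (α ^ s * (algebraMap 𝕃 Ω (p : 𝕃)) ^ (-t)) • v := by
    have e1 : C.map (algebraMap 𝕎 Ω) = (C.map (algebraMap 𝕎 𝕃)).map (algebraMap 𝕃 Ω) := by
      ext i j
      simp only [Matrix.map_apply]
      exact IsScalarTower.algebraMap_apply 𝕎 𝕃 Ω _
    rw [e1, ← hC, hGA]
    have e2 : (((p : 𝕃) ^ (-t)) • A ^ s).map (algebraMap 𝕃 Ω) =
        ((algebraMap 𝕃 Ω (p : 𝕃)) ^ (-t)) • (A.map (algebraMap 𝕃 Ω)) ^ s := by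
      have e3 : (A ^ s).map (algebraMap 𝕃 Ω) = (A.map (algebraMap 𝕃 Ω)) ^ s :=
        map_pow (algebraMap 𝕃 Ω).mapMatrix A s
      rw [← e3]
      ext i j
      simp [map_zpow₀]
    rw [e2, Matrix.smul_mulVec, pow_mulVec_eigvec _ hv, smul_smul, mul_comm]
  obtain ⟨hne, hinv⟩ := isIntegral_inv_of_eigvec C Z hZC hv0 hCv
  exact ⟨hne, isIntegral_of_eigvec C hv0 hCv, hinv⟩

lemma exists_mul_of_div_eq {r : ℤ} {s : ℕ} (hs : 0 < s) {μ : ℚ} (hrs : (r : ℚ) / s = μ) :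
    ∃ c : ℕ, 0 < c ∧ s = μ.den * c ∧ r = μ.num * (c : ℤ) := by
  obtain ⟨c, hc⟩ : ∃ c : ℕ, s = μ.den * c := by
    have h1 : ((Rat.divInt r (s : ℤ)).den : ℤ) ∣ (s : ℤ) := Rat.den_dvd r s
    have h2 : Rat.divInt r (s : ℤ) = μ := by
      rw [Rat.divInt_eq_div]; exact_mod_cast hrs
    rw [h2] at h1
    obtain ⟨c, hc⟩ := Int.natCast_dvd_natCast.mp h1
    exact ⟨c, hc⟩
  have hcpos : 0 < c := by
    rcases Nat.eq_zero_or_pos c with rfl | h
    · simp at hc; omega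
    · exact h
  refine ⟨c, hcpos, hc, ?_⟩
  have h1 : (μ.den : ℚ) ≠ 0 := by exact_mod_cast μ.den_pos.ne'
  have h2 : (c : ℚ) ≠ 0 := by exact_mod_cast hcpos.ne'
  have h3 : (r : ℚ) / ((μ.den : ℚ) * (c : ℚ)) = (μ.num : ℚ) / μ.den :=
    calc (r : ℚ) / ((μ.den : ℚ) * (c : ℚ)) = (r : ℚ) / (s : ℚ) := by rw [hc]; push_cast; rfl
      _ = μ := hrs
      _ = (μ.num : ℚ) / μ.den := (Rat.num_div_den μ).symm
  rw [div_eq_div_iff (mul_ne_zero h1 h2) h1] at h3
  have h4 : (r : ℚ) = μ.num * c :=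
    mul_right_cancel₀ h1 (by linarith : (r : ℚ) * μ.den = (μ.num * c) * μ.den)
  exact_mod_cast h4

/-- If `p^E` and `p^(-E)` are integral over `W` then `E = 0`. -/
lemma eq_zero_of_isIntegral_zpow {Ω : Type w} [Field Ω] [Algebra 𝕎 Ω] [Algebra 𝕃 Ω]
    [IsScalarTower 𝕎 𝕃 Ω] {E : ℤ}
    (h1 : IsIntegral 𝕎 ((algebraMap 𝕃 Ω (p : 𝕃)) ^ E))
    (h2 : IsIntegral 𝕎 ((algebraMap 𝕃 Ω (p : 𝕃)) ^ (-E))) : E = 0 := by
  have key : ∀ E : ℤ, IsIntegral 𝕎 ((algebraMap 𝕃 Ω (p : 𝕃)) ^ E) →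
      ∃ w : 𝕎, algebraMap 𝕎 𝕃 w = (p : 𝕃) ^ E := by
    intro E h
    rw [← map_zpow₀, isIntegral_algebraMap_iff (algebraMap 𝕃 Ω).injective] at h
    exact IsIntegrallyClosed.isIntegral_iff.mp h
  obtain ⟨w, hw⟩ := key E h1
  obtain ⟨w', hw'⟩ := key (-E) h2
  have hww : w * w' = 1 := by
    apply IsFractionRing.injective 𝕎 𝕃
    rw [map_mul, hw, hw', map_one, ← zpow_add₀ p_ne_zero]
    simp
  have hu : IsUnit w := IsUnit.of_mul_eq_one _ hww
  have hE0 : IsOrdP ((p : 𝕃) ^ E) 0 := by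
    rw [← hw]
    simpa using isOrdP_of_isUnit hu 0
  have hEE : IsOrdP ((p : 𝕃) ^ E) E := by
    simpa using isOrdP_of_isUnit (p := p) (k := k) isUnit_one E
  exact hEE.unique hE0

/-- The slope condition on a nonzero number determines the slope. -/
lemma slope_unique {Ω : Type w} [Field Ω] [Algebra 𝕎 Ω] [Algebra 𝕃 Ω]
    [IsScalarTower 𝕎 𝕃 Ω] {α : Ω} (hα : α ≠ 0) {m : ℕ} (hm : 0 < m) {μ ν : ℚ}
    (hμ1 : IsIntegral 𝕎 (α ^ μ.den * (algebraMap 𝕃 Ω (p : 𝕃)) ^ (-(μ.num * (m : ℤ)))))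
    (hμ2 : IsIntegral 𝕎 (α ^ μ.den * (algebraMap 𝕃 Ω (p : 𝕃)) ^ (-(μ.num * (m : ℤ))))⁻¹)
    (hν1 : IsIntegral 𝕎 (α ^ ν.den * (algebraMap 𝕃 Ω (p : 𝕃)) ^ (-(ν.num * (m : ℤ)))))
    (hν2 : IsIntegral 𝕎 (α ^ ν.den * (algebraMap 𝕃 Ω (p : 𝕃)) ^ (-(ν.num * (m : ℤ))))⁻¹) :
    μ = ν := by
  set P : Ω := algebraMap 𝕃 Ω (p : 𝕃) with hP
  have hP0 : P ≠ 0 := by
    rw [hP, Ne, map_eq_zero]
    exact p_ne_zero
  set E : ℤ := (m : ℤ) * (ν.num * μ.den - μ.num * ν.den) with hE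
  have e1 : P ^ E = (α ^ μ.den * P ^ (-(μ.num * (m : ℤ)))) ^ ν.den *
      ((α ^ ν.den * P ^ (-(ν.num * (m : ℤ))))⁻¹) ^ μ.den := by
    rw [mul_pow, mul_inv, mul_pow, ← pow_mul, ← zpow_natCast (P ^ _), ← zpow_mul, inv_pow,
      inv_pow, ← pow_mul, ← zpow_natCast (P ^ _), ← zpow_mul, ← zpow_neg, mul_comm ν.den μ.den]
    have hα' : α ^ (μ.den * ν.den) ≠ 0 := pow_ne_zero _ hα
    field_simp
    rw [← zpow_add₀ hP0, hE]
    congr 1
    ring
  have e2 : P ^ (-E) = ((α ^ μ.den * P ^ (-(μ.num * (m : ℤ))))⁻¹) ^ ν.den *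
      (α ^ ν.den * P ^ (-(ν.num * (m : ℤ)))) ^ μ.den := by
    rw [zpow_neg, e1, mul_inv, inv_pow, inv_pow, inv_inv]
  have h1 : IsIntegral 𝕎 (P ^ E) := by
    rw [e1]; exact (hμ1.pow _).mul (hν2.pow _)
  have h2 : IsIntegral 𝕎 (P ^ (-E)) := by
    rw [e2]; exact (hμ2.pow _).mul (hν1.pow _)
  have hE0 := eq_zero_of_isIntegral_zpow h1 h2
  rw [hE] at hE0
  have hm' : (m : ℤ) ≠ 0 := by exact_mod_cast hm.ne'
  have h3 : ν.num * μ.den - μ.num * ν.den = 0 := by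
    rcases mul_eq_zero.mp hE0 with h | h
    · exact absurd h hm'
    · exact h
  rw [Rat.eq_iff_mul_eq_mul]
  linarith

lemma charpoly_eq_prod_restrict {K V : Type*} [Field K] [AddCommGroup V] [Module K V]
    [FiniteDimensional K V] {ι : Type*} [Fintype ι] [DecidableEq ι] [LinearOrder ι]
    (P : ι → Submodule K V) (hint : DirectSum.IsInternal P)
    (f : V →ₗ[K] V) (hf : ∀ i, Set.MapsTo f (P i) (P i)) :
    f.charpoly = ∏ i, (f.restrict (hf i)).charpoly := by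
  classical
  let n : ι → ℕ := fun i => Module.finrank K (P i)
  let v : ∀ i, Basis (Fin (n i)) K (P i) := fun i => Module.finBasis K (P i)
  let B := hint.collectedBasis v
  have hA := LinearMap.toMatrix_directSum_collectedBasis_eq_blockDiagonal' hint hint v v hf
  rw [← LinearMap.charpoly_toMatrix f B, hA, Matrix.charpoly,
    det_sigma_block]
  · refine Finset.prod_congr rfl fun i _ => ?_
    rw [← LinearMap.charpoly_toMatrix (f.restrict (hf i)) (v i), Matrix.charpoly]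
    congr 1
    ext a b : 1
    rw [Matrix.of_apply, Matrix.charmatrix_apply, Matrix.charmatrix_apply,
      Matrix.blockDiagonal'_apply_eq]
    congr 1
    by_cases hab : a = b
    · subst hab; simp
    · rw [Matrix.diagonal_apply_ne _ hab, Matrix.diagonal_apply_ne]
      intro h; apply hab
      simpa using h
  · intro a b hab
    have hab' : a ≠ b := fun h => hab (by rw [h])
    rw [Matrix.charmatrix_apply_ne _ _ _ hab']
    obtain ⟨i, a'⟩ := a
    obtain ⟨j, b'⟩ := b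
    rw [Matrix.blockDiagonal'_apply_ne _ _ _ hab]
    simp

/-- Roots of the characteristic polynomial of `π = F^m` on an isoclinic isocrystal of slope `ν`
satisfy the slope-`ν` condition. -/
theorem root_cond_of_isIsoclinic [IsWTwist τ] [FiniteDimensional 𝕃 N] {F : N →ₛₗ[τ] N} {ν : ℚ}
    (hiso : IsIsoclinic F ν) {m : ℕ} (π : N →ₗ[𝕃] N) (hπ : ∀ x, π x = (⇑F)^[m] x)
    {Ω : Type w} [Field Ω] [Algebra 𝕎 Ω] [Algebra 𝕃 Ω] [IsScalarTower 𝕎 𝕃 Ω] {α : Ω}
    (hα : (π.charpoly.map (algebraMap 𝕃 Ω)).IsRoot α) :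
    α ≠ 0 ∧
    IsIntegral 𝕎 (α ^ ν.den * (algebraMap 𝕃 Ω (p : 𝕃)) ^ (-(ν.num * (m : ℤ)))) ∧
    IsIntegral 𝕎 (α ^ ν.den * (algebraMap 𝕃 Ω (p : 𝕃)) ^ (-(ν.num * (m : ℤ))))⁻¹ := by
  obtain ⟨M, hM, r, s, hs, hrs, hFM⟩ := hiso
  obtain ⟨c, hc, hsc, hrc⟩ := exists_mul_of_div_eq hs hrs
  have hFM' : latImg F (s * m) M = pPow (r * (m : ℤ)) M := latImg_mul_eq hFM m
  have hπs : ∀ x, (π ^ s) x = (⇑F)^[s * m] x := by
    intro x
    have : ⇑π = (⇑F)^[m] := funext hπ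
    rw [Module.End.pow_apply, this, ← Function.iterate_mul, mul_comm]
  have h1 : ∀ x ∈ M, ((p : 𝕃) ^ (-(r * (m : ℤ)))) • (π ^ s) x ∈ M := by
    intro x hx
    rw [hπs, ← mem_pPow', ← hFM']
    exact iterate_mem_latImg hx
  have h2 : ∀ y ∈ M, ∃ x ∈ M, ((p : 𝕃) ^ (-(r * (m : ℤ)))) • (π ^ s) x = y := by
    intro y hy
    have : ((p : 𝕃) ^ (r * (m : ℤ))) • y ∈ latImg F (s * m) M := by
      rw [hFM']; exact smul_mem_pPow hy
    obtain ⟨x, hx, hxy⟩ := mem_latImg.mp this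
    refine ⟨x, hx, ?_⟩
    rw [hπs, hxy, smul_smul, ← zpow_add₀ p_ne_zero]
    simp
  obtain ⟨hne, hint, hinv⟩ := root_integral_of_lattice π hM h1 h2 hα
  set P : Ω := algebraMap 𝕃 Ω (p : 𝕃) with hP
  have hpow : (α ^ ν.den * P ^ (-(ν.num * (m : ℤ)))) ^ c = α ^ s * P ^ (-(r * (m : ℤ))) := by
    rw [mul_pow, ← pow_mul, ← hsc, ← zpow_natCast (P ^ _), ← zpow_mul, hrc]
    congr 2
    ring
  refine ⟨?_, ?_, ?_⟩
  · rintro rfl
    apply hne
    rw [zero_pow hs.ne', zero_mul]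
  · apply IsIntegral.of_pow hc
    rw [hpow]; exact hint
  · apply IsIntegral.of_pow hc
    rw [inv_pow, hpow]; exact hinv

/-- Newton multiplicities from the roots of the characteristic polynomial of `π = F^m`. -/
theorem newtonMult_eq_countP_roots [IsWTwist τ] [FiniteDimensional 𝕃 N] {F : N →ₛₗ[τ] N}
    (hF : Function.Injective F) {m : ℕ} (hm : 0 < m) (π : N →ₗ[𝕃] N)
    (hπ : ∀ x, π x = (⇑F)^[m] x)
    {Ω : Type w} [Field Ω] [IsAlgClosed Ω] [Algebra 𝕎 Ω] [Algebra 𝕃 Ω] [IsScalarTower 𝕎 𝕃 Ω]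
    (μ : ℚ)
    [DecidablePred (fun α : Ω =>
      IsIntegral 𝕎 (α ^ μ.den * (algebraMap 𝕃 Ω (p : 𝕃)) ^ (-(μ.num * (m : ℤ)))) ∧
      IsIntegral 𝕎 (α ^ μ.den * (algebraMap 𝕃 Ω (p : 𝕃)) ^ (-(μ.num * (m : ℤ))))⁻¹)] :
    newtonMult F μ = Multiset.countP
      (fun α : Ω =>
        IsIntegral 𝕎 (α ^ μ.den * (algebraMap 𝕃 Ω (p : 𝕃)) ^ (-(μ.num * (m : ℤ)))) ∧
        IsIntegral 𝕎 (α ^ μ.den * (algebraMap 𝕃 Ω (p : 𝕃)) ^ (-(μ.num * (m : ℤ))))⁻¹)
      ((π.charpoly.map (algebraMap 𝕃 Ω)).roots) := by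
  have hint := isInternal_slopePart hF
  have hfin : {ν : ℚ | slopePart F ν ≠ ⊥}.Finite :=
    WellFoundedGT.finite_ne_bot_of_iSupIndep hint.submodule_iSupIndep
  let _ : Fintype {ν : ℚ // slopePart F ν ≠ ⊥} := hfin.fintype
  have hint' : DirectSum.IsInternal (fun i : {ν : ℚ // slopePart F ν ≠ ⊥} => slopePart F i) :=
    DirectSum.isInternal_ne_bot_iff.mpr hint
  have hstab : ∀ i : {ν : ℚ // slopePart F ν ≠ ⊥}, ∀ x ∈ slopePart F i, F x ∈ slopePart F i :=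
    fun i => slopePart_stable F i
  have hiter : ∀ (i : {ν : ℚ // slopePart F ν ≠ ⊥}) (j : ℕ), ∀ x ∈ slopePart F i,
      (⇑F)^[j] x ∈ slopePart F i := by
    intro i j
    induction j with
    | zero => intro x hx; simpa using hx
    | succ j ih =>
      intro x hx
      rw [Function.iterate_succ_apply']
      exact hstab i _ (ih x hx)
  have hπstab : ∀ i : {ν : ℚ // slopePart F ν ≠ ⊥},
      Set.MapsTo π (slopePart F i) (slopePart F i) := by
    intro i x hx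
    show π x ∈ slopePart F i
    rw [hπ]
    exact hiter i m x hx
  have hcp := charpoly_eq_prod_restrict _ hint' π hπstab
  -- the per-block counts
  have hblock : ∀ i : {ν : ℚ // slopePart F ν ≠ ⊥}, ∀ α ∈
      (((π.restrict (hπstab i)).charpoly.map (algebraMap 𝕃 Ω)).roots),
      α ≠ 0 ∧
      IsIntegral 𝕎 (α ^ (i : ℚ).den * (algebraMap 𝕃 Ω (p : 𝕃)) ^ (-((i : ℚ).num * (m : ℤ)))) ∧
      IsIntegral 𝕎
        (α ^ (i : ℚ).den * (algebraMap 𝕃 Ω (p : 𝕃)) ^ (-((i : ℚ).num * (m : ℤ))))⁻¹ := by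
    intro i α hα
    obtain ⟨hP, hiso⟩ := slopePart_isIsoclinic F (i : ℚ)
    have hα' := (Polynomial.mem_roots'.mp hα).2
    refine root_cond_of_isIsoclinic hiso (π.restrict (hπstab i)) ?_ hα'
    intro x
    apply Subtype.ext
    rw [restrict_iterate_coe]
    exact hπ x
  have hmonic : ∀ i : {ν : ℚ // slopePart F ν ≠ ⊥},
      ((π.restrict (hπstab i)).charpoly.map (algebraMap 𝕃 Ω)) ≠ 0 := fun i =>
    ((LinearMap.charpoly_monic _).map _).ne_zero
  have hcount : ∀ i : {ν : ℚ // slopePart F ν ≠ ⊥},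
      Multiset.card (Multiset.filter (fun α : Ω =>
        IsIntegral 𝕎 (α ^ μ.den * (algebraMap 𝕃 Ω (p : 𝕃)) ^ (-(μ.num * (m : ℤ)))) ∧
        IsIntegral 𝕎 (α ^ μ.den * (algebraMap 𝕃 Ω (p : 𝕃)) ^ (-(μ.num * (m : ℤ))))⁻¹)
        (((π.restrict (hπstab i)).charpoly.map (algebraMap 𝕃 Ω)).roots)) =
      if (i : ℚ) = μ then Module.finrank 𝕃 (slopePart F i) else 0 := by
    intro i
    split_ifs with hi
    · rw [Multiset.filter_eq_self.mpr]
      · have hsp : ((π.restrict (hπstab i)).charpoly.map (algebraMap 𝕃 Ω)).Splits :=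
          IsAlgClosed.splits _
        rw [Polynomial.splits_iff_card_roots.mp hsp, Polynomial.natDegree_map,
          LinearMap.charpoly_natDegree]
      · intro α hα
        have := (hblock i α hα).2
        rw [hi] at this
        exact this
    · rw [Multiset.card_eq_zero, Multiset.filter_eq_nil]
      intro α hα hcond
      obtain ⟨h0, h1, h2⟩ := hblock i α hα
      exact hi (slope_unique h0 hm h1 h2 hcond.1 hcond.2)
  rw [hcp, Polynomial.map_prod, Polynomial.roots_prod _ _ (Finset.prod_ne_zero_iff.mpr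
    fun i _ => hmonic i), Multiset.countP_eq_card_filter, Multiset.filter_bind,
    Multiset.card_bind]
  show newtonMult F μ = ∑ i : {ν : ℚ // slopePart F ν ≠ ⊥}, _
  simp only [Function.comp_apply]
  rw [Finset.sum_congr rfl fun i _ => hcount i]
  by_cases hμ : slopePart F μ = ⊥
  · rw [Finset.sum_eq_zero]
    · unfold newtonMult
      rw [hμ]
      simp
    · intro i _
      rw [if_neg]
      intro hi
      apply i.2
      rw [hi]; exact hμ
  · rw [Finset.sum_eq_single (⟨μ, hμ⟩ : {ν : ℚ // slopePart F ν ≠ ⊥})]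
    · simp [newtonMult]
    · intro i _ hi
      rw [if_neg]
      intro h
      exact hi (Subtype.ext h)
    · intro h
      exact absurd (Finset.mem_univ _) h

end Groth.Agent.H8.IsocLib
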