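import Mathlib
import Groth.Agent.Lib.Helper8.Isoc.Lang
import Groth.Agent.Lib.Helper8.Isoc.Complete
import Groth.Agent.Lib.Helper8.Isoc.Fitting
import Groth.Agent.Lib.Helper8.Isoc.UnitRoot

/-! The unit-root theorem for an abstract free module over `W(k)`: a bijective `σ^ν`-semilinear
additive endomorphism has a basis of fixed vectors. -/

set_option autoImplicit false
set_option linter.unusedSectionVars false

open Module

universe u v

namespace Groth.Agent.H8.UnitRootW

variable {p : ℕ} [Fact p.Prime] {k : Type u} [Field k] [CharP k p]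
variable {M : Type v} [AddCommGroup M] [Module (WittVector p k) M] {n : ℕ}

/-- Reduction modulo `p` in coordinates. -/
noncomputable def red (e : Basis (Fin n) (WittVector p k) M) : M →+ (Fin n → k) where
  toFun m i := WittVector.constantCoeff (e.repr m i)
  map_zero' := by
    funext i
    change WittVector.constantCoeff (e.repr 0 i) = 0
    rw [map_zero, Finsupp.zero_apply, map_zero]
  map_add' a b := by
    funext i
    change WittVector.constantCoeff (e.repr (a + b) i) =
      WittVector.constantCoeff (e.repr a i) + WittVector.constantCoeff (e.repr b i)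
    rw [map_add, Finsupp.add_apply, map_add]

lemma red_smul (e : Basis (Fin n) (WittVector p k) M) (w : WittVector p k) (m : M) :
    red e (w • m) = WittVector.constantCoeff w • red e m := by
  funext i
  change WittVector.constantCoeff (e.repr (w • m) i) =
    WittVector.constantCoeff w * WittVector.constantCoeff (e.repr m i)
  rw [map_smul, Finsupp.smul_apply, smul_eq_mul, map_mul]

/-- The Teichmüller section of `red`. -/
noncomputable def sec (e : Basis (Fin n) (WittVector p k) M) (x : Fin n → k) : M :=
  ∑ i, WittVector.teichmuller p (x i) • e i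

lemma red_sec (e : Basis (Fin n) (WittVector p k) M) (x : Fin n → k) : red e (sec e x) = x := by
  ext i
  change WittVector.constantCoeff (e.repr (sec e x) i) = x i
  rw [sec, e.repr_sum_self]
  exact WittVector.teichmuller_coeff_zero p (x i)

lemma constantCoeff_p : WittVector.constantCoeff ((p : ℕ) : WittVector p k) = 0 := by
  rw [map_natCast]; exact CharP.cast_eq_zero k p

lemma red_p_pow_smul (e : Basis (Fin n) (WittVector p k) M) (r : ℕ) (m : M) :
    red e ((((p : ℕ) : WittVector p k)) ^ (r + 1) • m) = 0 := by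
  rw [red_smul, map_pow, constantCoeff_p, zero_pow (Nat.succ_ne_zero r), zero_smul]

lemma red_eq_zero_iff [PerfectRing k p] (e : Basis (Fin n) (WittVector p k) M) (m : M) :
    red e m = 0 ↔ ∃ m' : M, m = ((p : ℕ) : WittVector p k) • m' := by
  constructor
  · intro h
    have h0 : ∀ i, (e.repr m i).coeff 0 = 0 := fun i => congrFun h i
    choose w' hw' using fun i => IsocLib.exists_p_mul_of_coeff_zero (e.repr m i) (h0 i)
    refine ⟨∑ i, w' i • e i, ?_⟩
    conv_lhs => rw [← e.sum_repr m]
    rw [Finset.smul_sum]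
    refine Finset.sum_congr rfl fun i _ => ?_
    rw [hw' i, mul_smul]
  · rintro ⟨m', rfl⟩
    have := red_p_pow_smul e 0 m'
    simpa using this

/-- Separatedness. -/
lemma eq_zero_of_forall_p_pow [PerfectRing k p] (e : Basis (Fin n) (WittVector p k) M) (m : M)
    (h : ∀ j : ℕ, ∃ y : M, m = (((p : ℕ) : WittVector p k)) ^ j • y) : m = 0 := by
  have hH : IsHausdorff (Ideal.span {((p : ℕ) : WittVector p k)}) (WittVector p k) := inferInstance
  apply e.repr.injective
  rw [map_zero]
  refine Finsupp.ext fun l => ?_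
  rw [Finsupp.zero_apply]
  apply hH.haus
  intro j
  rw [SModEq.zero, smul_eq_mul, Ideal.mul_top, Ideal.span_singleton_pow, Ideal.mem_span_singleton]
  obtain ⟨y, rfl⟩ := h j
  rw [map_smul, Finsupp.smul_apply, smul_eq_mul]
  exact dvd_mul_right _ _

/-- Completeness. -/
lemma exists_limit [PerfectRing k p] (e : Basis (Fin n) (WittVector p k) M) (x : ℕ → M)
    (hx : ∀ i : ℕ, ∃ μ : M, x (i + 1) - x i = (((p : ℕ) : WittVector p k)) ^ (i + 1) • μ) :
    ∃ z : M, ∀ i : ℕ, ∃ w : M, z - x i = (((p : ℕ) : WittVector p k)) ^ (i + 1) • w := by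
  choose μ hμ using hx
  let a : Fin n → ℕ → WittVector p k := fun l t => e.repr (μ t) l
  choose α hα using fun l => IsocLib.exists_series_limit (a l)
  choose w hw using hα
  have hμ_eq : ∀ t, μ t = ∑ l, a l t • e l := fun t => (e.sum_repr (μ t)).symm
  refine ⟨x 0 + ((p : ℕ) : WittVector p k) • ∑ l, α l • e l, fun i => ⟨∑ l, w l i • e l, ?_⟩⟩
  have htel : x i = x 0 + ∑ t ∈ Finset.range i, (x (t + 1) - x t) := by
    rw [Finset.sum_range_sub x i]; abel
  have h1 : ∑ t ∈ Finset.range i, (x (t + 1) - x t) =
      ((p : ℕ) : WittVector p k) •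
        ∑ l, (∑ t ∈ Finset.range i, ((p : ℕ) : WittVector p k) ^ t * a l t) • e l := by
    simp_rw [Finset.sum_smul, Finset.smul_sum]
    rw [Finset.sum_comm]
    refine Finset.sum_congr rfl fun t _ => ?_
    rw [hμ t, hμ_eq t, Finset.smul_sum]
    refine Finset.sum_congr rfl fun l _ => ?_
    rw [smul_smul, smul_smul, pow_succ']
    ring_nf
  have h2 : ∑ l, α l • e l -
      ∑ l, (∑ t ∈ Finset.range i, ((p : ℕ) : WittVector p k) ^ t * a l t) • e l =
      ((p : ℕ) : WittVector p k) ^ i • ∑ l, w l i • e l := by
    rw [← Finset.sum_sub_distrib, Finset.smul_sum]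
    refine Finset.sum_congr rfl fun l _ => ?_
    rw [← sub_smul, hw l i, smul_smul]
  rw [htel, h1, add_sub_add_left_eq_sub, ← smul_sub, h2, smul_smul, ← pow_succ']

lemma iterate_frobenius_p_pow (ν r : ℕ) :
    (⇑(WittVector.frobenius : WittVector p k →+* WittVector p k))^[ν]
      ((((p : ℕ) : WittVector p k)) ^ r) = (((p : ℕ) : WittVector p k)) ^ r := by
  apply Function.iterate_fixed
  rw [map_pow, map_natCast]

lemma constantCoeff_iterate_frobenius (ν : ℕ) (w : WittVector p k) :
    WittVector.constantCoeff
      ((⇑(WittVector.frobenius : WittVector p k →+* WittVector p k))^[ν] w) =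
      (WittVector.constantCoeff w) ^ p ^ ν := by
  induction ν with
  | zero => simp
  | succ ν ih =>
    rw [Function.iterate_succ_apply']
    have : WittVector.constantCoeff (WittVector.frobenius
        ((⇑(WittVector.frobenius : WittVector p k →+* WittVector p k))^[ν] w)) =
        (WittVector.constantCoeff
          ((⇑(WittVector.frobenius : WittVector p k →+* WittVector p k))^[ν] w)) ^ p :=
      WittVector.coeff_frobenius_charP (p := p) _ 0
    rw [this, ih, ← pow_mul, pow_succ]

/-- The unit-root theorem with a fixed basis. -/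
theorem exists_basis_fixed [IsAlgClosed k] (ν : ℕ) (hν : 1 ≤ ν)
    (e : Basis (Fin n) (WittVector p k) M) (F : M →+ M)
    (hF : ∀ (a : WittVector p k) (m : M), F (a • m) =
      ((⇑(WittVector.frobenius : WittVector p k →+* WittVector p k))^[ν] a) • F m)
    (hbij : Function.Bijective F) :
    ∃ b : Basis (Fin n) (WittVector p k) M, ∀ i, F (b i) = b i := by
  have hFp : ∀ (r : ℕ) (m : M), F ((((p : ℕ) : WittVector p k)) ^ r • m) =
      (((p : ℕ) : WittVector p k)) ^ r • F m := by
    intro r m
    rw [hF, iterate_frobenius_p_pow]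
  have hFp1 : ∀ (m : M), F (((p : ℕ) : WittVector p k) • m) =
      ((p : ℕ) : WittVector p k) • F m := by
    intro m
    simpa using hFp 1 m
  have hker := red_eq_zero_iff e
  have hFker : ∀ m, red e m = 0 → red e (F m) = 0 := by
    intro m hm
    obtain ⟨m', rfl⟩ := (hker m).mp hm
    rw [hFp1]
    exact (hker _).mpr ⟨_, rfl⟩
  have hfρ : ∀ m, red e (F (sec e (red e m))) = red e (F m) := by
    intro m
    rw [← sub_eq_zero, ← map_sub, ← map_sub]
    apply hFker
    rw [map_sub, red_sec, sub_self]
  have hp2 : 2 ≤ p := (Fact.out : p.Prime).two_le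
  have hq : 2 ≤ p ^ ν :=
    calc 2 ≤ p := hp2
      _ = p ^ 1 := (pow_one p).symm
      _ ≤ p ^ ν := Nat.pow_le_pow_right (by omega) hν
  have hφ : ∀ x : k, iterateFrobenius k p ν x = x ^ p ^ ν := fun x => iterateFrobenius_def p ν x
  let fbar : (Fin n → k) →ₛₗ[iterateFrobenius k p ν] (Fin n → k) :=
    { toFun := fun x => red e (F (sec e x))
      map_add' := by
        intro x y
        have h1 := hfρ (sec e x + sec e y)
        rw [map_add, red_sec, red_sec] at h1
        rw [h1, map_add, map_add]
      map_smul' := by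
        intro c x
        have hw : WittVector.constantCoeff (WittVector.teichmuller p c) = c :=
          WittVector.teichmuller_coeff_zero p c
        have h1 := hfρ (WittVector.teichmuller p c • sec e x)
        rw [red_smul, red_sec, hw] at h1
        rw [h1, hF, red_smul, constantCoeff_iterate_frobenius, hw, hφ] }
  have hfbar : ∀ m, fbar (red e m) = red e (F m) := hfρ
  have hfbar' : ∀ x, fbar x = red e (F (sec e x)) := fun x => rfl
  have hinj : Function.Injective fbar := by
    rw [injective_iff_map_eq_zero]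
    intro x hx
    rw [hfbar', hker] at hx
    obtain ⟨m₁, hm₁⟩ := hx
    obtain ⟨m₂, rfl⟩ := hbij.2 m₁
    rw [← hFp1] at hm₁
    have := hbij.1 hm₁
    rw [← red_sec e x, this]
    exact (hker _).mpr ⟨_, rfl⟩
  obtain ⟨hspan, hsub⟩ := Lang.lang_aux (φ := iterateFrobenius k p ν) hq hφ _ (Fin n → k) fbar hinj rfl
  -- lifting fixed vectors
  have hlift : ∀ xb, fbar xb = xb → ∃ v, F v = v ∧ red e v = xb := by
    intro xb hxb
    have hstep : ∀ (i : ℕ) (v : M),
        (red e v = xb ∧ ∃ u, F v - v = (((p : ℕ) : WittVector p k)) ^ (i + 1) • u) →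
        ∃ v', (red e v' = xb ∧ ∃ u, F v' - v' = (((p : ℕ) : WittVector p k)) ^ (i + 1 + 1) • u) ∧
          ∃ μ, v' - v = (((p : ℕ) : WittVector p k)) ^ (i + 1) • μ := by
      rintro i v ⟨hρv, u, hu⟩
      obtain ⟨wb, hwb⟩ := hsub (-red e u)
      have h2 : red e (u + (F (sec e wb) - sec e wb)) = 0 := by
        rw [map_add, map_sub, ← hfbar', red_sec, hwb]
        abel
      obtain ⟨u', hu'⟩ := (hker _).mp h2
      refine ⟨v + (((p : ℕ) : WittVector p k)) ^ (i + 1) • sec e wb, ⟨?_, u', ?_⟩, sec e wb, ?_⟩
      · rw [map_add, red_p_pow_smul, add_zero, hρv]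
      · have h1 : F (v + (((p : ℕ) : WittVector p k)) ^ (i + 1) • sec e wb) -
            (v + (((p : ℕ) : WittVector p k)) ^ (i + 1) • sec e wb) =
            (((p : ℕ) : WittVector p k)) ^ (i + 1) • (u + (F (sec e wb) - sec e wb)) := by
          rw [map_add, hFp, smul_add, smul_sub, ← hu]; abel
        rw [h1, hu', smul_smul, ← pow_succ]
      · rw [add_sub_cancel_left]
    have h₀ : red e (sec e xb) = xb ∧
        ∃ u, F (sec e xb) - sec e xb = (((p : ℕ) : WittVector p k)) ^ (0 + 1) • u := by
      refine ⟨red_sec e xb, ?_⟩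
      have : red e (F (sec e xb) - sec e xb) = 0 := by
        rw [map_sub, ← hfbar', red_sec, hxb, sub_self]
      obtain ⟨u, hu⟩ := (hker _).mp this
      exact ⟨u, by rw [hu]; simp⟩
    obtain ⟨x, hx0, hxP, hxR⟩ := IsocLib.exists_seq_of_step
      (fun (i : ℕ) (v : M) => red e v = xb ∧
        ∃ u, F v - v = (((p : ℕ) : WittVector p k)) ^ (i + 1) • u)
      (fun (i : ℕ) (v v' : M) => ∃ μ, v' - v = (((p : ℕ) : WittVector p k)) ^ (i + 1) • μ)
      (sec e xb) h₀ hstep
    obtain ⟨z, hz⟩ := exists_limit e x hxR
    refine ⟨z, ?_, ?_⟩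
    · rw [← sub_eq_zero]
      apply eq_zero_of_forall_p_pow e
      intro j
      obtain ⟨w, hw⟩ := hz j
      obtain ⟨u, hu⟩ := (hxP j).2
      have h1 : F z - z = (F (z - x j) - (z - x j)) + (F (x j) - x j) := by
        rw [map_sub]; abel
      refine ⟨((p : ℕ) : WittVector p k) • ((F w - w) + u), ?_⟩
      rw [h1, hw, hFp, hu, smul_smul, ← pow_succ, smul_add, smul_sub]
    · obtain ⟨w, hw⟩ := hz 0
      have : z = x 0 + (((p : ℕ) : WittVector p k)) ^ (0 + 1) • w := by rw [← hw]; abel
      rw [this, map_add, red_p_pow_smul, add_zero, (hxP 0).1]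
  -- a basis of fixed vectors modulo `p`
  let b₀ := Basis.ofSpan (K := k) (s := {v : Fin n → k | fbar v = v}) hspan.ge
  have hb₀ : ∀ i, fbar (b₀ i) = b₀ i := fun i => Basis.ofSpan_subset hspan.ge ⟨i, rfl⟩
  let b₁ : Basis (Fin n) k (Fin n → k) := b₀.reindex (b₀.indexEquiv (Pi.basisFun k (Fin n)))
  have hb₁ : ∀ i, fbar (b₁ i) = b₁ i := by
    intro i
    rw [Basis.reindex_apply]
    exact hb₀ _
  choose v hvF hvρ using fun i => hlift (b₁ i) (hb₁ i)
  -- Nakayama
  let φ : (Fin n → WittVector p k) →ₗ[WittVector p k] M :=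
    Fintype.linearCombination (WittVector p k) v
  have hφ_single : ∀ i, φ (Pi.single i 1) = v i := fun i => by
    simp [φ, Fintype.linearCombination_apply_single]
  have hφ_apply : ∀ c : Fin n → WittVector p k, φ c = ∑ i, c i • v i := fun c =>
    Fintype.linearCombination_apply (WittVector p k) v c
  have hfin : Module.Finite (WittVector p k) M := Module.Finite.of_basis e
  have hφsurj : Function.Surjective φ := by
    rw [← LinearMap.range_eq_top, eq_top_iff]
    apply Submodule.le_of_le_smul_of_le_jacobson_bot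
      (I := Ideal.span {((p : ℕ) : WittVector p k)}) hfin.fg_top
    · rw [IsLocalRing.jacobson_eq_maximalIdeal ⊥ bot_ne_top, Ideal.span_singleton_le_iff_mem,
        IsLocalRing.mem_maximalIdeal, mem_nonunits_iff]
      exact (WittVector.irreducible p).not_isUnit
    · intro m _
      let c : Fin n → k := fun i => b₁.repr (red e m) i
      have h1 : red e (φ fun i => WittVector.teichmuller p (c i)) = red e m := by
        rw [hφ_apply, map_sum]
        conv_rhs => rw [← b₁.sum_repr (red e m)]
        refine Finset.sum_congr rfl fun i _ => ?_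
        rw [red_smul, hvρ]
        congr 1
      have h2 : red e (m - φ fun i => WittVector.teichmuller p (c i)) = 0 := by
        rw [map_sub, h1, sub_self]
      obtain ⟨m'', hm''⟩ := (hker _).mp h2
      have : m = (φ fun i => WittVector.teichmuller p (c i)) +
          ((p : ℕ) : WittVector p k) • m'' := by rw [← hm'']; abel
      rw [this]
      exact Submodule.add_mem_sup (LinearMap.mem_range_self _ _)
        (Submodule.smul_mem_smul (Ideal.mem_span_singleton_self _) Submodule.mem_top)
  have hφinj : Function.Injective φ := by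
    have h1 : Function.Surjective (φ ∘ₗ e.equivFun.toLinearMap) :=
      hφsurj.comp e.equivFun.surjective
    have h2 := OrzechProperty.injective_of_surjective_endomorphism _ h1
    intro a b hab
    have := @h2 (e.equivFun.symm a) (e.equivFun.symm b) (by
      change φ (e.equivFun (e.equivFun.symm a)) = φ (e.equivFun (e.equivFun.symm b))
      rw [LinearEquiv.apply_symm_apply, LinearEquiv.apply_symm_apply]
      exact hab)
    exact e.equivFun.symm.injective this
  refine ⟨Basis.ofEquivFun (LinearEquiv.ofBijective φ ⟨hφinj, hφsurj⟩).symm, fun i => ?_⟩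
  rw [Basis.coe_ofEquivFun]
  simp only [LinearEquiv.symm_symm, LinearEquiv.ofBijective_apply, hφ_single]
  exact hvF i

end Groth.Agent.H8.UnitRootW
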